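import Groth.Agent.AlgSpMor.QfScheme
import Groth.Agent.AlgSpDec.LqfScheme
import Groth.Agent.AlgSpDec.LqfQuot
import Groth.Agent.AlgSpDec.DecentMor
import Groth.Agent.AlgSpDec.Fibres
import Groth.Agent.AlgSpDec.AffineRep
import Groth.Agent.AlgSpLib.LargestOpenTop
import Groth.Agent.AlgSpDec.LimDescent
import Groth.Agent.AlgSpLib.LocalBaseTop
import Groth.Agent.AlgSpPts.Imm
import Groth.Agent.AlgSpPts.Misc

/-!
# Etale localisation of separated morphisms at quasi-finite points
-/

set_option autoImplicit false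
set_option linter.style.haveILetI false
set_option backward.isDefEq.respectTransparency false
set_option backward.isDefEq.respectTransparency.types false

universe u

open CategoryTheory CategoryTheory.Limits AlgebraicGeometry Opposite AlgSp

namespace Groth.Agent.AlgSpMor

open Groth.Agent.AlgSpLib Groth.Agent.AlgSpPts

variable {S : Scheme.{u}} {X Y : Sp S}

/-- Quasi-finiteness of a morphism at a point of the source. -/
abbrev QfAt (f : X ⟶ Y) (x : Points X) : Prop :=
  HasAtMor (fun U _ h u => ∃ W : U.Opens, u ∈ W ∧ LocallyQuasiFinite (W.ι ≫ h) ∧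
    LocallyOfFiniteType (W.ι ≫ h)) f x

variable {f : X ⟶ Y}

/-- Finitely many quasi-finite points lie in an open subspace which is locally quasi-finite over the target. -/
theorem exists_lqf_open (hX : IsAlgSpace X) {ι : Type u} (x : ι → Points X) (hx : ∀ i, QfAt f (x i)) :
    ∃ (X' : Sp S) (j : X' ⟶ X), IsAlgSpace X' ∧ RepWith @IsOpenImmersion j ∧
      LocP (@LocallyQuasiFinite ⊓ @LocallyOfFiniteType) (j ≫ f) ∧ ∀ i, x i ∈ Set.range (Points.map j) := by
  choose U V a b h u ha hb hw hu O huO hqf hft using hx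
  let U' : ι → Over S := fun i => Over.mk ((O i).ι ≫ (U i).hom)
  let ιU : ∀ i, U' i ⟶ U i := fun i => Over.homMk (O i).ι rfl
  let a' : ∀ i, (yon S).obj (U' i) ⟶ X := fun i => (yon S).map (ιU i) ≫ a i
  have ha' : ∀ i, RepWith @Etale (a' i) := fun i =>
    repWith_comp ((repWith_yon_map_iff _ _).2 (inferInstanceAs (Etale (O i).ι))) (ha i)
  obtain ⟨A, hA⟩ := AlgSpDec.exists_hom_sigma U' a'
  have hAe : RepWith @Etale A :=
    AlgSpDec.repWith_etale_sigma (representable_from_yon' hX A) fun i => by rw [hA]; exact ha' i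
  obtain ⟨X', j, A', hj, hA', hA'e, hA's⟩ := AlgSpDec.exists_image_chart hX hAe
  have hX' : IsAlgSpace X' := isAlgSpace_of_representable _ hj.rep hX
  refine ⟨X', j, hX', hj, fun U₁ V₁ a₁ b₁ h₁ ha₁ hb₁ w => ?_, fun i => ?_⟩
  · let p : hA'e.rep.pullback a₁ ⟶ U₁ := hA'e.rep.snd a₁
    let q : hA'e.rep.pullback a₁ ⟶ AlgSpDec.sigmaOver U' := hA'e.rep.fst' a₁
    have hp : Etale p.left := hA'e.property_snd a₁
    haveI : Surjective p.left := hA's.2 a₁ _ _ (hA'e.rep.isPullback a₁)
    haveI : Etale q.left := ha₁.property A' _ _ (hA'e.rep.isPullback' a₁).flip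
    refine IsEtLocal.of_precomp (P := @LocallyQuasiFinite ⊓ @LocallyOfFiniteType) p.left h₁.left hp
      ‹Surjective p.left› ?_
    let 𝒰 := (sigmaOpenCover fun i => (U' i).left).pullback₁ q.left
    refine (IsZariskiLocalAtSource.iff_of_openCover (P := @LocallyQuasiFinite ⊓ @LocallyOfFiniteType) 𝒰).2
      fun i => ?_
    let K : Over S := pullback q (AlgSpDec.sigmaι U' i)
    have sqK : IsPullback (pullback.fst q (AlgSpDec.sigmaι U' i)).left (pullback.snd q (AlgSpDec.sigmaι U' i)).left
        q.left (Sigma.ι (fun i => (U' i).left) i) :=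
      (IsPullback.of_hasPullback q (AlgSpDec.sigmaι U' i)).map (Over.forget S)
    let π : K ⟶ U₁ := pullback.fst q (AlgSpDec.sigmaι U' i) ≫ p
    let ρ : K ⟶ U' i := pullback.snd q (AlgSpDec.sigmaι U' i)
    have hpq : (yon S).map p ≫ a₁ = (yon S).map q ≫ A' := by
      rw [Functor.relativelyRepresentable.map_fst', hA'e.rep.w]
    have hch₀ : (yon S).map π ≫ a₁ ≫ j = (yon S).map (ρ ≫ ιU i) ≫ a i := by
      simp only [π, ρ, Functor.map_comp, Category.assoc]
      rw [reassoc_of% hpq, hA', ← Functor.map_comp_assoc, pullback.condition, Functor.map_comp, Category.assoc,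
        hA]
    have hch : (yon S).map (π ≫ h₁) ≫ b₁ = (yon S).map ((ρ ≫ ιU i) ≫ h i) ≫ b i := by
      rw [Functor.map_comp _ π, Category.assoc, ← w, Functor.map_comp _ (ρ ≫ ιU i), Category.assoc, ← hw i]
      exact (congrArg (· ≫ f) hch₀ |> fun e => by simpa only [Category.assoc] using e)
    let k : K ⟶ (hb i).rep.pullback b₁ := (hb i).rep.lift' (ρ ≫ ιU i ≫ h i) (π ≫ h₁) (by
      rw [← Category.assoc ρ]; exact hch.symm)
    haveI : Etale ((hb i).rep.snd b₁).left := (hb i).property_snd b₁
    haveI : Etale ((hb i).rep.fst' b₁).left := hb₁.property (b i) _ _ ((hb i).rep.isPullback' b₁).flip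
    haveI : Etale ρ.left := MorphismProperty.of_isPullback (P := @Etale) sqK ‹Etale q.left›
    haveI : LocallyQuasiFinite (ιU i ≫ h i).left := hqf i
    haveI : LocallyOfFiniteType (ιU i ≫ h i).left := hft i
    have h12 : (k ≫ (hb i).rep.fst' b₁).left = ρ.left ≫ (ιU i ≫ h i).left := by
      rw [Functor.relativelyRepresentable.lift'_fst]; rfl
    have hk : (@LocallyQuasiFinite ⊓ @LocallyOfFiniteType : MorphismProperty Scheme.{u}) k.left := by
      apply IsEtLocal.cancel_right _ ((hb i).rep.fst' b₁).left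
      rw [← Over.comp_left, h12]
      exact IsEtLocal.precomp _ _ ‹Etale ρ.left›
        (⟨hqf i, hft i⟩ : (@LocallyQuasiFinite ⊓ @LocallyOfFiniteType : MorphismProperty Scheme.{u}) _)
    have h13 : (@LocallyQuasiFinite ⊓ @LocallyOfFiniteType : MorphismProperty Scheme.{u})
        (k ≫ (hb i).rep.snd b₁).left := IsEtLocal.postcomp _ _ hk ((hb i).property_snd b₁)
    rw [Functor.relativelyRepresentable.lift'_snd] at h13
    show (@LocallyQuasiFinite ⊓ @LocallyOfFiniteType : MorphismProperty Scheme.{u})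
      (Limits.pullback.fst q.left (Sigma.ι (fun i => (U' i).left) i) ≫ p.left ≫ h₁.left)
    rw [← sqK.isoPullback_inv_fst, Category.assoc,
      (@LocallyQuasiFinite ⊓ @LocallyOfFiniteType : MorphismProperty Scheme.{u}).cancel_left_of_respectsIso]
    simpa [π] using h13
  · refine ⟨Points.ofPt ((yon S).map (AlgSpDec.sigmaι U' i) ≫ A') ⟨u i, huO i⟩, ?_⟩
    rw [Points.map_ofPt, Category.assoc, hA', hA, ← hu i]
    exact ofPt_comp (ιU i) (a i) _

/-- A point of a decent space pulls an affine etale chart back to a quasi-compact scheme. -/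
theorem compactSpace_pullback_fieldPt (hY : IsDecent Y) {V : Over S} [IsAffine V.left] {b : (yon S).obj V ⟶ Y}
    (hb : RepWith @Etale b) (q : FieldPt Y) : CompactSpace ↥(hb.rep.pullback q.toHom).left := by
  obtain ⟨p, hp, -, hpq⟩ := hY (Points.mk q)
  obtain ⟨Ω, _, w, c, d, hcd⟩ := Points.mk_eq_mk_iff.1 hp
  have e : (yon S).map c ≫ p.toHom = (yon S).map d ≫ q.toHom := by
    apply (J S).uliftYonedaEquiv.injective
    rw [← uliftYonedaEquiv_precomp, ← uliftYonedaEquiv_precomp, FieldPt.uliftYonedaEquiv_toHom,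
      FieldPt.uliftYonedaEquiv_toHom, hcd]
  let Vp := hb.rep.pullback p.toHom
  haveI : QuasiCompact (hb.rep.fst' p.toHom).left := hpq.property _ _ _ (hb.rep.isPullback' p.toHom).flip
  haveI : CompactSpace ↥Vp.left := QuasiCompact.compactSpace_of_compactSpace (hb.rep.fst' p.toHom).left
  haveI : IsAffine (Over.mk w).left := inferInstanceAs (IsAffine (Spec _))
  haveI : IsAffine p.pt.left := inferInstanceAs (IsAffine (Spec _))
  haveI : IsAffineHom c.left := isAffineHom_of_isAffine _
  let E := pullback (hb.rep.snd p.toHom) c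
  have sq1 : IsPullback (pullback.fst (hb.rep.snd p.toHom) c).left (pullback.snd (hb.rep.snd p.toHom) c).left
      (hb.rep.snd p.toHom).left c.left := (IsPullback.of_hasPullback _ c).map (Over.forget S)
  haveI : IsAffineHom (pullback.fst (hb.rep.snd p.toHom) c).left :=
    MorphismProperty.of_isPullback (P := @IsAffineHom) sq1.flip ‹IsAffineHom c.left›
  haveI : CompactSpace ↥E.left :=
    QuasiCompact.compactSpace_of_compactSpace (pullback.fst (hb.rep.snd p.toHom) c).left
  have sqE : IsPullback ((yon S).map (pullback.fst (hb.rep.snd p.toHom) c) ≫ (yon S).map (hb.rep.fst' p.toHom))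
      ((yon S).map (pullback.snd (hb.rep.snd p.toHom) c)) b ((yon S).map d ≫ q.toHom) :=
    e ▸ ((IsPullback.of_hasPullback _ c).map (yon S)).paste_horiz (hb.rep.isPullback' p.toHom)
  let E' := pullback (hb.rep.snd q.toHom) d
  have sqE' : IsPullback ((yon S).map (pullback.fst (hb.rep.snd q.toHom) d) ≫ (yon S).map (hb.rep.fst' q.toHom))
      ((yon S).map (pullback.snd (hb.rep.snd q.toHom) d)) b ((yon S).map d ≫ q.toHom) :=
    ((IsPullback.of_hasPullback _ d).map (yon S)).paste_horiz (hb.rep.isPullback' q.toHom)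
  obtain ⟨ψ, hψ⟩ := (yon S).map_surjective (IsPullback.isoIsPullback _ _ sqE sqE').hom
  haveI : IsIso ψ := by
    haveI : IsIso ((yon S).map ψ) := hψ ▸ inferInstance
    exact isIso_of_fully_faithful (yon S) ψ
  haveI : IsIso ψ.left := inferInstanceAs (IsIso ((Over.forget S).map ψ))
  haveI : CompactSpace ↥E'.left := (Scheme.homeoOfIso (asIso ψ.left)).compactSpace
  have sq2 : IsPullback (pullback.fst (hb.rep.snd q.toHom) d).left (pullback.snd (hb.rep.snd q.toHom) d).left
      (hb.rep.snd q.toHom).left d.left := (IsPullback.of_hasPullback _ d).map (Over.forget S)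
  haveI : Surjective d.left := ⟨fun x => ⟨IsLocalRing.closedPoint Ω, Subsingleton.elim (α := ↥q.pt.left) _ _⟩⟩
  haveI : Surjective (pullback.fst (hb.rep.snd q.toHom) d).left :=
    MorphismProperty.of_isPullback (P := @Surjective) sq2.flip ‹Surjective d.left›
  refine ⟨?_⟩
  rw [← (pullback.fst (hb.rep.snd q.toHom) d).left.surjective.range_eq]
  exact isCompact_range (pullback.fst (hb.rep.snd q.toHom) d).left.continuous

/-- Over a decent base, only finitely many points of the base change to an affine etale chart lie over a point. -/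
theorem finite_points_over (hYd : IsDecent Y) {V : Over S} [IsAffine V.left]
    {b : (yon S).obj V ⟶ Y} (hb : RepWith @Etale b) (x : Points X) :
    {z : Points (pullback f b) | Points.map (pullback.fst f b) z = x}.Finite := by
  obtain ⟨p, rfl⟩ := Points.mk_surjective x
  haveI := compactSpace_pullback_fieldPt hYd hb (p.map f)
  let E := hb.rep.pullback (p.map f).toHom
  let s : E ⟶ p.pt := hb.rep.snd (p.map f).toHom
  haveI : Etale s.left := hb.property_snd _
  haveI : IsAffine p.pt.left := inferInstanceAs (IsAffine (Spec _))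
  haveI : QuasiCompact s.left := HasAffineProperty.iff_of_isAffine.2 ‹CompactSpace ↥E.left›
  have sqE : IsPullback ((yon S).map (hb.rep.fst' (p.map f).toHom)) ((yon S).map s) b (p.toHom ≫ f) :=
    FieldPt.toHom_map f p ▸ hb.rep.isPullback' (p.map f).toHom
  let M : (yon S).obj E ⟶ pullback f b := pullback.lift ((yon S).map s ≫ p.toHom)
    ((yon S).map (hb.rep.fst' (p.map f).toHom)) (by rw [Category.assoc]; exact sqE.w.symm)
  have sqM : IsPullback ((yon S).map s) M p.toHom (pullback.fst f b) := by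
    refine IsPullback.of_bot ?_ (pullback.lift_fst _ _ _).symm (IsPullback.of_hasPullback f b)
    rw [pullback.lift_snd]
    exact sqE.flip
  have hfin : (Set.univ : Set ↥E.left).Finite := by
    refine (s.left.finite_preimage_singleton (IsLocalRing.closedPoint p.K)).subset ?_
    intro w _
    exact Subsingleton.elim (α := ↥p.pt.left) _ _
  refine (hfin.image (Points.ofPt M)).subset fun z hz => ?_
  obtain ⟨r, -, hr⟩ := exists_point_of_isPullback sqM (x := Points.ofScheme p.pt (IsLocalRing.closedPoint p.K))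
    (y := z) (by rw [show Points.map (pullback.fst f b) z = Points.mk p from hz, ← Points.ofPt_eq_map_ofScheme,
      Points.ofPt_toHom])
  obtain ⟨t, rfl⟩ := (Points.schemeHomeo E).surjective r
  exact ⟨t, Set.mem_univ _, by rw [← hr, Points.ofPt_eq_map_ofScheme]; rfl⟩

/-- For a quasi-compact morphism, a locally quasi-finite open piece of the base change has finite fibres. -/
theorem finite_fibre_of_qc (hX : IsAlgSpace X) (hY : IsAlgSpace Y) (hf : LocP @LocallyOfFiniteType f)
    (hq : IsQuasiCompactMor f) {V : Over S} [IsAffine V.left] (b : (yon S).obj V ⟶ Y) {Q : Over S}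
    {m : (yon S).obj Q ⟶ pullback f b} (hm : RepWith @IsOpenImmersion m) {q : Q ⟶ V}
    (hmq : m ≫ pullback.snd f b = (yon S).map q) [LocallyQuasiFinite q.left] (v : ↥V.left) :
    (q.left ⁻¹' {v}).Finite := by
  have hP := isAlgSpace_pullback hX (IsAlgSpace.yon_obj V) hY f b
  obtain ⟨A, a, hA, ha, has⟩ := AlgSpDec.exists_affine_atlas
    (hq (IsAlgSpace.yon_obj V) (isQuasiCompactSp_yon V) b _ _ (IsPullback.of_hasPullback f b))
  obtain ⟨g, hg⟩ := (yon S).map_surjective (a ≫ pullback.snd f b)
  haveI := hA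
  haveI : LocallyOfFiniteType g.left :=
    locP_of_isPullback (IsPullback.of_hasPullback f b) hX hY (IsAlgSpace.yon_obj V) hf a (𝟙 _) g ha
      (repWith_id _ V) (by rw [Category.comp_id]; exact hg.symm)
  have himg : ∀ {T : Over S} (c : (yon S).obj T ⟶ pullback f b) (d : T ⟶ V),
      c ≫ pullback.snd f b = (yon S).map d → ∀ t, Points.map (pullback.snd f b) (Points.ofPt c t) =
        Points.ofScheme V (d.left t) := fun c d h t => by
    rw [Points.map_ofPt, h]
    exact (congrArg (Points.ofPt · t) (Category.comp_id _).symm).trans (ofPt_comp d (𝟙 _) t)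
  let O : Set ↥A.left := Points.ofPt a ⁻¹' Set.range (Points.ofPt m)
  have hfc : IsCompact (O ∩ g.left ⁻¹' {v}) := by
    haveI : QuasiCompact g.left := inferInstance
    haveI : IsLocallyNoetherian (g.left.fiber v) :=
      LocallyOfFiniteType.isLocallyNoetherian (g.left.fiberToSpecResidueField v)
    haveI : CompactSpace ↥(g.left.fiber v) :=
      QuasiCompact.compactSpace_of_compactSpace (g.left.fiberToSpecResidueField v)
    haveI : IsNoetherian (g.left.fiber v) := ⟨⟩
    have h1 := (TopologicalSpace.NoetherianSpace.isCompact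
      (g.left.fiberι v ⁻¹' O)).image (g.left.fiberι v).continuous
    rwa [Set.image_preimage_eq_inter_range, Scheme.Hom.range_fiberι] at h1
  have hemb : Topology.IsInducing (Points.ofPt m) := by
    have h2 := (isEmbedding_map hP
      (repWith_mono (fun _ _ i (_ : IsOpenImmersion i) => (inferInstance : IsImmersion i)) _ hm)).isInducing
    have : Points.ofPt m = Points.map m ∘ Points.schemeHomeo Q :=
      funext fun t => Points.ofPt_eq_map_ofScheme m t
    rw [this]
    exact h2.comp (Points.schemeHomeo Q).isInducing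
  have heq : Points.ofPt a '' (O ∩ g.left ⁻¹' {v}) = Points.ofPt m '' (q.left ⁻¹' {v}) := by
    ext z
    constructor
    · rintro ⟨t, ⟨⟨s, hs⟩, ht⟩, rfl⟩
      refine ⟨s, ?_, hs⟩
      have h3 := congrArg (fun z => Points.toScheme V (Points.map (pullback.snd f b) z)) hs
      simp only [himg m q hmq, himg a g hg.symm, Points.toScheme_ofScheme] at h3
      exact h3.trans ht
    · rintro ⟨s, hs, rfl⟩
      obtain ⟨t, ht⟩ := surjective_ofPt has (Points.ofPt m s)
      refine ⟨t, ⟨⟨s, ht.symm⟩, ?_⟩, ht⟩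
      have h3 := congrArg (fun z => Points.toScheme V (Points.map (pullback.snd f b) z)) ht
      simp only [himg m q hmq, himg a g hg.symm, Points.toScheme_ofScheme] at h3
      exact h3.trans hs
  have h4 : IsCompact (q.left ⁻¹' {v}) :=
    hemb.isCompact_iff.2 (heq ▸ hfc.image (Points.continuous_ofPt a))
  exact h4.finite (q.left.isDiscrete_preimage_singleton v)

/-- The base change of a separated morphism to a scheme has a scheme as its locally quasi-finite open piece. -/
theorem exists_scheme_piece (hX : IsAlgSpace X) (hY : IsAlgSpace Y) (hsep : IsSeparatedMor f)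
    {X' : Sp S} {j : X' ⟶ X} (hX' : IsAlgSpace X') (hj : RepWith @IsOpenImmersion j)
    (hqf : LocP (@LocallyQuasiFinite ⊓ @LocallyOfFiniteType) (j ≫ f)) {V : Over S}
    (b : (yon S).obj V ⟶ Y) :
    ∃ (Q : Over S) (m : (yon S).obj Q ⟶ pullback f b) (q : Q ⟶ V), RepWith @IsOpenImmersion m ∧
      m ≫ pullback.snd f b = (yon S).map q ∧ LocallyQuasiFinite q.left ∧ LocallyOfFiniteType q.left ∧
      IsSeparated q.left ∧
      ∀ z, Points.map (pullback.fst f b) z ∈ Set.range (Points.map j) → z ∈ Set.range (Points.ofPt m) := by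
  let P := pullback j (pullback.fst f b)
  have sqP : IsPullback (pullback.fst j (pullback.fst f b)) (pullback.snd j (pullback.fst f b) ≫ pullback.snd f b)
      (j ≫ f) b := (IsPullback.of_hasPullback j (pullback.fst f b)).paste_vert (IsPullback.of_hasPullback f b)
  have hP : IsAlgSpace P := isAlgSpace_of_isPullback sqP hX' (IsAlgSpace.yon_obj V) hY
  haveI := AlgSpDec.mono_of_openImmersion hj
  have hsep' : IsSeparatedMor (j ≫ f) := isSeparatedMor_comp (AlgSpDec.isSeparatedMor_of_mono j) hsep
  have hqfP := locP_of_isPullback sqP hX' hY (IsAlgSpace.yon_obj V) hqf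
  have hsP := isSeparatedMor_of_isPullback sqP hsep'
  obtain ⟨Q, ⟨e⟩⟩ := AlgSpDec.exists_iso_of_lqf_separated hP _ hqfP hsP
  obtain ⟨q, hq⟩ := (yon S).map_surjective
    (e.hom ≫ pullback.snd j (pullback.fst f b) ≫ pullback.snd f b)
  have hm : RepWith @IsOpenImmersion (e.hom ≫ pullback.snd j (pullback.fst f b)) :=
    repWith_comp (repWith_of_isIso _ _) (repWith_of_isPullback (IsPullback.of_hasPullback _ _) hj)
  obtain ⟨h1, h2⟩ := hqfP e.hom (𝟙 _) q (repWith_of_isIso _ _) (repWith_id _ V)
    (by rw [Category.comp_id]; exact hq.symm)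
  haveI : Mono e.hom := inferInstance
  refine ⟨Q, e.hom ≫ pullback.snd j (pullback.fst f b), q, hm, (Category.assoc _ _ _).trans hq.symm, h1, h2,
    (isSeparatedMor_yon_map_iff q).1 (hq ▸ isSeparatedMor_comp (AlgSpDec.isSeparatedMor_of_mono e.hom) hsP),
    fun z ⟨x', hx'⟩ => ?_⟩
  obtain ⟨r, -, hr⟩ := exists_point_of_isPullback (IsPullback.of_hasPullback j (pullback.fst f b)) hx'
  obtain ⟨t, ht⟩ := (Points.schemeHomeo Q).surjective (Points.map e.inv r)
  refine ⟨t, ?_⟩
  rw [Points.ofPt_eq_map_ofScheme, show Points.ofScheme Q t = Points.map e.inv r from ht, ← Points.map_comp,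
    e.inv_hom_id_assoc]
  exact hr

/-- The image of an open immersion which is finite over a separated base is closed. -/
theorem repWith_isClosedImmersion_of_finite {V P U : Sp S} (_hV : IsAlgSpace V) (_hP : IsAlgSpace P)
    (_hU : IsAlgSpace U) {j : V ⟶ P} (hj : RepWith @IsOpenImmersion j) {p : P ⟶ U} (hp : IsSeparatedMor p)
    (hfin : RepWith @IsFinite (j ≫ p)) : RepWith @IsClosedImmersion j := by
  refine (repWith_isClosedImmersion_iff
    (repWith_mono (fun _ _ i (_ : IsOpenImmersion i) => (inferInstance : IsImmersion i)) _ hj)).2 ?_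
  have h1 : RepWith @IsClosedImmersion (pullback.lift (𝟙 V) j (by simp) : V ⟶ pullback (j ≫ p) p) :=
    repWith_of_isPullback (pullback_lift_diagonal_isPullback j p) hp
  have h2 : RepWith @IsFinite (pullback.snd (j ≫ p) p) :=
    repWith_of_isPullback (IsPullback.of_hasPullback _ _) hfin
  have h3 : IsClosedMap (Points.map (pullback.lift (𝟙 V) j (by simp) : V ⟶ pullback (j ≫ p) p)) :=
    isClosedMap_map (repWith_mono (fun _ _ i (_ : IsClosedImmersion i) => (inferInstance : UniversallyClosed i)) _ h1)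
  have h4 : IsClosedMap (Points.map (pullback.snd (j ≫ p) p)) :=
    isClosedMap_map (repWith_mono (fun _ _ i (_ : IsFinite i) => (inferInstance : UniversallyClosed i)) _ h2)
  have h5 : Points.map j = Points.map (pullback.snd (j ≫ p) p) ∘
      Points.map (pullback.lift (𝟙 V) j (by simp) : V ⟶ pullback (j ≫ p) p) := funext fun v => by
    rw [Function.comp_apply, ← Points.map_comp, pullback.lift_snd]
  rw [h5]
  exact (h4.comp h3).isClosed_range

/-- The core of etale localisation: a finite set of points of the fibre of the quasi-finite piece. -/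
theorem exists_etale_split (_hX : IsAlgSpace X) (_hY : IsAlgSpace Y) (hsep : IsSeparatedMor f) {V : Over S}
    {b : (yon S).obj V ⟶ Y} (hb : RepWith @Etale b) (v : ↥V.left) {Q : Over S}
    {m : (yon S).obj Q ⟶ pullback f b} (hm : RepWith @IsOpenImmersion m) {q : Q ⟶ V}
    (hmq : m ≫ pullback.snd f b = (yon S).map q) [LocallyQuasiFinite q.left] [LocallyOfFiniteType q.left]
    [IsSeparated q.left] {Z : Set ↥Q.left} (hZ : Z.Finite) (hZv : ∀ z ∈ Z, q.left z = v) :
    ∃ (U : AlgSp.Space S) (a : U.obj ⟶ Y) (u : Points U.obj), IsEtaleMor a ∧ Points.map a u = Points.ofPt b v ∧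
      ∀ (P : AlgSp.Space S) (prX : P.obj ⟶ X) (prU : P.obj ⟶ U.obj), IsPullback prX prU f a →
        ∃ (W : AlgSp.Space S) (jW : W ⟶ P), RepWith @IsOpenImmersion jW.hom ∧
          RepWith @IsClosedImmersion jW.hom ∧ IsFiniteMor (jW.hom ≫ prU) ∧
          (∀ w, Points.map (jW.hom ≫ prU) w = u → ∃ z ∈ Z,
            Points.map (jW.hom ≫ prX) w = Points.map (pullback.fst f b) (Points.ofPt m z)) ∧
          (∀ (x : Points X), (∀ z : Points (pullback f b), Points.map (pullback.fst f b) z = x →
              Points.map (pullback.snd f b) z = Points.ofScheme V v → ∃ t ∈ Z, Points.ofPt m t = z) →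
            ∀ w, w ∉ Set.range (Points.map jW.hom) → Points.map prU w = u → Points.map prX w ≠ x) ∧
          ∀ z ∈ Z, ∃ w, Points.map (jW.hom ≫ prX) w = Points.map (pullback.fst f b) (Points.ofPt m z) ∧
            Points.map (jW.hom ≫ prU) w = u := by
  obtain ⟨U₁, g, u₁, O, hg, hgu, hfin, hO1, hO2, hO3⟩ := exists_open_piece_of_finite q.left v hZ hZv
    fun z _ => Scheme.Hom.quasiFiniteAt _ _
  let UT : Over S := Over.mk (g ≫ V.hom)
  let gT : UT ⟶ V := Over.homMk g rfl
  let U : AlgSp.Space S := ⟨(yon S).obj UT, IsAlgSpace.yon_obj UT⟩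
  let a : U.obj ⟶ Y := (yon S).map gT ≫ b
  have ha : RepWith @Etale a := repWith_comp ((repWith_yon_map_iff _ _).2 hg) hb
  refine ⟨U, a, Points.ofScheme UT u₁, fun T φ hφ => repWith_comp hφ ha, ?_, fun P prX prU sq => ?_⟩
  · rw [← Points.ofPt_eq_map_ofScheme]
    exact (ofPt_comp gT b u₁).trans (congrArg (Points.ofPt b) hgu)
  let Q' : Over S := Over.mk (pullback.fst q.left g ≫ Q.hom)
  let pQ : Q' ⟶ Q := Over.homMk (pullback.fst q.left g) rfl
  let pU : Q' ⟶ UT := Over.homMk (pullback.snd q.left g) (by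
    show pullback.snd q.left g ≫ g ≫ V.hom = pullback.fst q.left g ≫ Q.hom
    rw [← pullback.condition_assoc, Over.w q])
  have sQ : IsPullback pQ pU q gT := by
    refine IsPullback.of_map (Over.forget S) (Over.OverMorphism.ext pullback.condition) ?_
    exact IsPullback.of_hasPullback q.left g
  let pV : P.obj ⟶ pullback f b := pullback.lift prX (prU ≫ (yon S).map gT) (by rw [Category.assoc]; exact sq.w)
  let mP : (yon S).obj Q' ⟶ P.obj := sq.lift ((yon S).map pQ ≫ m ≫ pullback.fst f b) ((yon S).map pU) (by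
    rw [Category.assoc, Category.assoc, pullback.condition, reassoc_of% hmq, ← Functor.map_comp_assoc,
      ← Functor.map_comp_assoc, sQ.w])
  have sqP : IsPullback pV prU (pullback.snd f b) ((yon S).map gT) := by
    refine IsPullback.of_right ?_ (pullback.lift_snd _ _ _) (IsPullback.of_hasPullback f b)
    rw [pullback.lift_fst]
    exact sq
  have sqm : IsPullback ((yon S).map pQ) mP m pV := by
    refine IsPullback.of_bot ?_ ?_ sqP
    · rw [sq.lift_snd, hmq]
      exact sQ.map (yon S)
    · apply pullback.hom_ext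
      · rw [Category.assoc, Category.assoc, pullback.lift_fst, sq.lift_fst]
      · rw [Category.assoc, Category.assoc, pullback.lift_snd, hmq, ← Category.assoc mP, sq.lift_snd,
          ← Functor.map_comp, ← Functor.map_comp, sQ.w]
  have hmP : RepWith @IsOpenImmersion mP := repWith_of_isPullback sqm hm
  let WT' : Over S := Over.mk (O.ι ≫ Q'.hom)
  let ιW : WT' ⟶ Q' := Over.homMk O.ι rfl
  let W : AlgSp.Space S := ⟨(yon S).obj WT', IsAlgSpace.yon_obj WT'⟩
  let jW : W ⟶ P := ObjectProperty.homMk ((yon S).map ιW ≫ mP)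
  have hjW : RepWith @IsOpenImmersion jW.hom :=
    repWith_comp ((repWith_yon_map_iff _ _).2 (inferInstanceAs (IsOpenImmersion O.ι))) hmP
  have hjU : jW.hom ≫ prU = (yon S).map (ιW ≫ pU) := by
    show ((yon S).map ιW ≫ mP) ≫ prU = _
    rw [Category.assoc, sq.lift_snd, Functor.map_comp]
  have hjX : jW.hom ≫ prX = (yon S).map (ιW ≫ pQ) ≫ m ≫ pullback.fst f b := by
    show ((yon S).map ιW ≫ mP) ≫ prX = _
    rw [Category.assoc, sq.lift_fst, Functor.map_comp, Category.assoc]
  have hfinW : RepWith @IsFinite (jW.hom ≫ prU) := by rw [hjU]; exact (repWith_yon_map_iff _ _).2 hfin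
  have hPU : IsSeparatedMor prU := isSeparatedMor_of_isPullback sq hsep
  have hsch : ∀ (w : ↥WT'.left), Points.map (jW.hom ≫ prU) (Points.ofScheme WT' w) =
      Points.ofScheme UT (pullback.snd q.left g w.1) := fun w => by
    rw [hjU]; exact Points.map_yon_map_apply _ w
  have hschX : ∀ (w : ↥WT'.left), Points.map (jW.hom ≫ prX) (Points.ofScheme WT' w) =
      Points.map (pullback.fst f b) (Points.ofPt m (pullback.fst q.left g w.1)) := fun w => by
    rw [hjX, ← Category.assoc, Points.map_comp, Points.map_comp,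
      show Points.map ((yon S).map (ιW ≫ pQ)) (Points.ofScheme WT' w) = Points.ofScheme Q ((ιW ≫ pQ).left w) from
        Points.map_yon_map_apply (ιW ≫ pQ) w, ← Points.ofPt_eq_map_ofScheme]
    rfl
  refine ⟨W, jW, hjW, repWith_isClosedImmersion_of_finite W.property P.property U.property hjW hPU hfinW,
    AlgSpDec.isFiniteMor_iff_repWith.2 hfinW, fun w hw => ?_, fun x hx w hw hwu hwx => ?_, fun z hz => ?_⟩
  · obtain ⟨w, rfl⟩ := (Points.schemeHomeo WT').surjective w
    refine ⟨_, hO1 w.1 w.2 ?_, hschX w⟩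
    exact (Points.schemeHomeo UT).injective ((hsch w).symm.trans hw)
  · let z := Points.map pV w
    have hz2 : Points.map (pullback.snd f b) z = Points.ofScheme V v := by
      rw [← Points.map_comp, pullback.lift_snd, Points.map_comp, hwu]
      exact (Points.map_yon_map_apply gT u₁).trans (congrArg (Points.ofScheme V) hgu)
    obtain ⟨t, ht, htz⟩ := hx z (by rw [← Points.map_comp, pullback.lift_fst, hwx]) hz2
    obtain ⟨r, hr1, hr2⟩ := exists_point_of_isPullback sqm (x := Points.ofScheme Q t) (y := w)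
      ((Points.ofPt_eq_map_ofScheme m t).symm.trans htz)
    obtain ⟨r, rfl⟩ := (Points.schemeHomeo Q').surjective r
    have h1 : pullback.fst q.left g r = t :=
      (Points.schemeHomeo Q).injective ((Points.map_yon_map_apply pQ r).symm.trans hr1)
    have h2 : pullback.snd q.left g r = u₁ := by
      refine (Points.schemeHomeo UT).injective ?_
      show Points.ofScheme UT (pU.left r) = Points.ofScheme UT u₁
      rw [← show Points.map ((yon S).map pU) (Points.ofScheme Q' r) = Points.ofScheme UT (pU.left r) from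
        Points.map_yon_map_apply pU r, ← hwu, ← hr2]
      show _ = Points.map prU (Points.map mP (Points.ofScheme Q' r))
      rw [← Points.map_comp, sq.lift_snd]
    refine hw ⟨Points.ofScheme WT' ⟨r, hO2 r (h1.symm ▸ ht) h2⟩, ?_⟩
    rw [← hr2]
    show Points.map ((yon S).map ιW ≫ mP) _ = _
    rw [Points.map_comp]
    exact congrArg (Points.map mP) (Points.map_yon_map_apply ιW _)
  · obtain ⟨w, hwO, hw1, hw2⟩ := hO3 z hz
    refine ⟨Points.ofScheme WT' ⟨w, hwO⟩, ?_, ?_⟩
    · rw [hschX, hw1]
    · rw [hsch, hw2]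

end Groth.Agent.AlgSpMor

namespace Groth.Agent.AlgSpMor

open Groth.Agent.AlgSpLib Groth.Agent.AlgSpPts

variable {S : Scheme.{u}} {X Y : Sp S} {f : X ⟶ Y}

theorem map_snd_ofPt {V Q : Over S} {b : (yon S).obj V ⟶ Y} {m : (yon S).obj Q ⟶ pullback f b} {q : Q ⟶ V}
    (hmq : m ≫ pullback.snd f b = (yon S).map q) (t : ↥Q.left) :
    Points.map (pullback.snd f b) (Points.ofPt m t) = Points.ofScheme V (q.left t) := by
  rw [Points.map_ofPt, hmq]
  exact (congrArg (Points.ofPt · t) (Category.comp_id _).symm).trans (ofPt_comp q (𝟙 _) t)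

theorem injective_ofPt_openImm {Q : Over S} {P : Sp S} (hP : IsAlgSpace P) {m : (yon S).obj Q ⟶ P}
    (hm : RepWith @IsOpenImmersion m) : Function.Injective (Points.ofPt m) := fun s t h => by
  have h2 := (isEmbedding_map hP
    (repWith_mono (fun _ _ i (_ : IsOpenImmersion i) => (inferInstance : IsImmersion i)) _ hm)).injective
  rw [Points.ofPt_eq_map_ofScheme, Points.ofPt_eq_map_ofScheme] at h
  exact (Points.schemeHomeo Q).injective (h2 h)

/-- Etale localisation at finitely many quasi-finite points of one fibre. -/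
theorem exists_etale_split_points (hX : IsAlgSpace X) (hY : IsAlgSpace Y) (y : Points Y)
    (xs : Finset (Points X)) (hxs : ∀ x ∈ xs, Points.map f x = y) (hf1 : LocP @LocallyOfFiniteType f)
    (hsep : IsSeparatedMor f) (hf3 : ∀ x ∈ xs, QfAt f x) (hf4 : IsQuasiCompactMor f ∨ IsDecent Y) :
    ∃ (U : AlgSp.Space S) (a : U.obj ⟶ Y) (u : Points U.obj), IsEtaleMor a ∧ Points.map a u = y ∧
      ∀ (P : AlgSp.Space S) (prX : P.obj ⟶ X) (prU : P.obj ⟶ U.obj), IsPullback prX prU f a →
        ∃ (W : AlgSp.Space S) (jW : W ⟶ P), RepWith @IsOpenImmersion jW.hom ∧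
          RepWith @IsClosedImmersion jW.hom ∧ IsFiniteMor (jW.hom ≫ prU) ∧
          (∀ w, Points.map (jW.hom ≫ prU) w = u → Points.map (jW.hom ≫ prX) w ∈ xs) ∧
          ∀ w, w ∉ Set.range (Points.map jW.hom) → Points.map prU w = u → Points.map prX w ∉ xs := by
  let x : ULift.{u} (Fin xs.card) → Points X := fun i => (xs.equivFin.symm i.down).1
  obtain ⟨X', j, hX', hj, hqf, hjr⟩ := exists_lqf_open (f := f) hX x fun i => hf3 _ (xs.equivFin.symm i.down).2
  have hjr' : ∀ p ∈ xs, p ∈ Set.range (Points.map j) := fun p hp => by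
    have := hjr ⟨xs.equivFin ⟨p, hp⟩⟩
    simpa [x] using this
  obtain ⟨V, b, v, hV, hb, rfl⟩ := AlgSpDec.exists_affine_chart_at hY y
  haveI := hV
  obtain ⟨Q, m, q, hm, hmq, hq1, hq2, hq3, hrange⟩ := exists_scheme_piece hX hY hsep hX' hj hqf b
  have hP := isAlgSpace_pullback hX (IsAlgSpace.yon_obj V) hY f b
  let Z : Set ↥Q.left := {t | q.left t = v ∧ Points.map (pullback.fst f b) (Points.ofPt m t) ∈ xs}
  have hZ : Z.Finite := by
    rcases hf4 with hqc | hdec
    · exact (finite_fibre_of_qc hX hY hf1 hqc b hm hmq v).subset fun t ht => ht.1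
    · refine Set.Finite.subset (((xs.finite_toSet.biUnion fun p _ => finite_points_over (f := f) hdec hb p).preimage
        (injective_ofPt_openImm hP hm).injOn)) fun t ht => ?_
      exact Set.mem_biUnion ht.2 rfl
  obtain ⟨U, a, u, ha, hu, h⟩ := exists_etale_split hX hY hsep hb v hm hmq hZ fun t ht => ht.1
  refine ⟨U, a, u, ha, hu, fun P prX prU sq => ?_⟩
  obtain ⟨W, jW, h1, h2, h3, h4, h5, -⟩ := h P prX prU sq
  refine ⟨W, jW, h1, h2, h3, fun w hw => ?_, fun w hw hwu hmem => ?_⟩
  · obtain ⟨t, ht, he⟩ := h4 w hw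
    rw [he]; exact ht.2
  · refine h5 _ (fun z hz1 hz2 => ?_) w hw hwu rfl
    obtain ⟨t, rfl⟩ := hrange z (by rw [hz1]; exact hjr' _ hmem)
    refine ⟨t, ⟨(Points.schemeHomeo V).injective ((map_snd_ofPt hmq t).symm.trans hz2), ?_⟩, rfl⟩
    rw [hz1]; exact hmem

/-- Etale localisation at one quasi-finite point. -/
theorem exists_etale_split_point (hX : IsAlgSpace X) (hY : IsAlgSpace Y) (x : Points X)
    (hsep : IsSeparatedMor f) (hf3 : QfAt f x) :
    ∃ (U : AlgSp.Space S) (a : U.obj ⟶ Y) (u : Points U.obj), IsEtaleMor a ∧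
      Points.map a u = Points.map f x ∧
      ∀ (P : AlgSp.Space S) (prX : P.obj ⟶ X) (prU : P.obj ⟶ U.obj), IsPullback prX prU f a →
        ∃ (W : AlgSp.Space S) (jW : W ⟶ P), RepWith @IsOpenImmersion jW.hom ∧
          RepWith @IsClosedImmersion jW.hom ∧ IsFiniteMor (jW.hom ≫ prU) ∧
          ∃ w, Points.map (jW.hom ≫ prX) w = x ∧ Points.map (jW.hom ≫ prU) w = u := by
  obtain ⟨X', j, hX', hj, hqf, hjr⟩ := exists_lqf_open (f := f) hX (fun _ : PUnit.{u + 1} => x) fun _ => hf3
  obtain ⟨V, b, v, hV, hb, hv⟩ := AlgSpDec.exists_affine_chart_at hY (Points.map f x)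
  obtain ⟨Q, m, q, hm, hmq, hq1, hq2, hq3, hrange⟩ := exists_scheme_piece hX hY hsep hX' hj hqf b
  obtain ⟨z, hz1, hz2⟩ := exists_point_of_isPullback (IsPullback.of_hasPullback f b) (x := x)
    (y := Points.ofScheme V v) (by rw [← Points.ofPt_eq_map_ofScheme, hv])
  obtain ⟨t, rfl⟩ := hrange z (by rw [hz1]; exact hjr ⟨⟩)
  have ht : q.left t = v := (Points.schemeHomeo V).injective ((map_snd_ofPt hmq t).symm.trans hz2)
  obtain ⟨U, a, u, ha, hu, h⟩ := exists_etale_split hX hY hsep hb v hm hmq (Set.finite_singleton t)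
    fun s hs => by rw [Set.mem_singleton_iff.1 hs, ht]
  refine ⟨U, a, u, ha, hu.trans hv, fun P prX prU sq => ?_⟩
  obtain ⟨W, jW, h1, h2, h3, -, -, h6⟩ := h P prX prU sq
  obtain ⟨w, hw1, hw2⟩ := h6 t rfl
  exact ⟨W, jW, h1, h2, h3, w, hw1.trans hz1, hw2⟩

end Groth.Agent.AlgSpMor
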