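import Mathlib.AlgebraicGeometry.Morphisms.Etale
import Mathlib.AlgebraicGeometry.Morphisms.Flat
import Mathlib.AlgebraicGeometry.Morphisms.Affine
import Groth.Prelude.Def_AlgSpCov
import Groth.Agent.AlgSpLib.LocalBase
import Groth.Agent.AlgSpLib.EtLocalInst

/-!
# Etale local properties stable only under flat base change

The variant of `AlgSpLib.IsEtLocal` for properties such as being a local complete intersection morphism:
independence of charts, composition, flat base change, and locality on the base in the fpqc topology.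
-/

set_option autoImplicit false
set_option backward.isDefEq.respectTransparency false
set_option backward.isDefEq.respectTransparency.types false

universe u

open CategoryTheory CategoryTheory.Limits AlgebraicGeometry Opposite AlgSp

namespace Groth.Agent.AlgSpMor

open Groth.Agent.AlgSpLib

variable {S : Scheme.{u}}

/-- A property of morphisms of schemes stable under flat base change and under composition with etale
morphisms on either side, which descends along etale surjections on the source. -/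
class IsEtLocalW (P : MorphismProperty Scheme.{u}) : Prop extends P.RespectsIso where
  etale_comp : ∀ {X Y Z : Scheme.{u}} (f : X ⟶ Y) (g : Y ⟶ Z), Etale f → P g → P (f ≫ g)
  comp_etale : ∀ {X Y Z : Scheme.{u}} (f : X ⟶ Y) (g : Y ⟶ Z), P f → Etale g → P (f ≫ g)
  of_precomp : ∀ {X Y Z : Scheme.{u}} (f : X ⟶ Y) (g : Y ⟶ Z), Etale f → Surjective f → P (f ≫ g) → P g
  of_isPullback : ∀ {X Y X' Y' : Scheme.{u}} {g' : X' ⟶ X} {f' : X' ⟶ Y'} {f : X ⟶ Y} {g : Y' ⟶ Y},
    IsPullback g' f' f g → Flat g → P f → P f'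

theorem IsEtLocalW.cancel_right {P : MorphismProperty Scheme.{u}} [IsEtLocalW P] {X Y Z : Scheme.{u}}
    (f : X ⟶ Y) (g : Y ⟶ Z) [Etale g] (h : P (f ≫ g)) : P f := by
  have h1 : Etale (pullback.lift (𝟙 X) f (by simp) : X ⟶ pullback (f ≫ g) g) :=
    MorphismProperty.of_isPullback (pullback_lift_diagonal_isPullback f g)
      (inferInstanceAs (Etale (pullback.diagonal g)))
  have h2 : P (pullback.snd (f ≫ g) g) :=
    IsEtLocalW.of_isPullback (IsPullback.of_hasPullback (f ≫ g) g) inferInstance h
  have h3 := IsEtLocalW.etale_comp _ _ h1 h2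
  rwa [pullback.lift_snd] at h3

variable {F G : Sp S} {P : MorphismProperty Scheme.{u}}

/-- One chart diagram with surjective source chart determines the property. -/
theorem locP_of_chartW [IsEtLocalW P] {f : F ⟶ G} {U V : Over S} {a : (yon S).obj U ⟶ F}
    {b : (yon S).obj V ⟶ G} {h : U ⟶ V} (ha : RepWith @Etale a) (ha' : RepWith @Surjective a)
    (hb : RepWith @Etale b) (w : a ≫ f = (yon S).map h ≫ b) (hP : P h.left) : LocP P f := by
  intro U' V' a' b' h' ha₁ hb₁ w'
  let p : ha.rep.pullback a' ⟶ U' := ha.rep.snd a'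
  let q : ha.rep.pullback a' ⟶ U := ha.rep.fst' a'
  have hp : Etale p.left := ha.property_snd a'
  have hp' : Surjective p.left := ha'.2 a' _ _ (ha.rep.isPullback a')
  have hq : Etale q.left := ha₁.property a _ _ (ha.rep.isPullback' a').flip
  have hw : (yon S).map (p ≫ h') ≫ b' = (yon S).map (q ≫ h) ≫ b := by
    simp only [Functor.map_comp, Category.assoc, ← w, ← w']
    rw [← Category.assoc, ← Category.assoc]
    congr 1
    exact (ha.rep.w a').symm.trans (by rw [Functor.relativelyRepresentable.map_fst'])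
  let k : ha.rep.pullback a' ⟶ hb.rep.pullback b' :=
    hb.rep.lift' (q ≫ h) (p ≫ h') hw.symm
  have hk : P k.left := by
    have he : Etale (hb.rep.fst' b').left := hb₁.property b _ _ (hb.rep.isPullback' b').flip
    apply IsEtLocalW.cancel_right _ (hb.rep.fst' b').left
    rw [← Over.comp_left, Functor.relativelyRepresentable.lift'_fst, Over.comp_left]
    exact IsEtLocalW.etale_comp _ _ hq hP
  refine IsEtLocalW.of_precomp p.left h'.left hp hp' ?_
  rw [← Over.comp_left, ← hb.rep.lift'_snd (q ≫ h) (p ≫ h') hw.symm, Over.comp_left]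
  exact IsEtLocalW.comp_etale _ _ hk (hb.property_snd b')

/-- Stability under flat base change between algebraic spaces. -/
theorem locP_of_flat_isPullbackW [IsEtLocalW P] {F' G' : Sp S} {f : F ⟶ G} {g : G' ⟶ G} {fst : F' ⟶ F}
    {snd : F' ⟶ G'} (sq : IsPullback fst snd f g) (hF : IsAlgSpace F) (hG : IsAlgSpace G)
    (hG' : IsAlgSpace G') (hg : LocP @Flat g) (hf : LocP P f) : LocP P snd := by
  obtain ⟨V, b, hb, hb'⟩ := hG.atlas
  obtain ⟨U, a₀, h, h1, h2, h3⟩ := exists_chart_over hF hG f b
  obtain ⟨W, c₀, h₁, hc1, hc2, hc3⟩ := exists_chart_over hG' hG g b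
  let c := c₀ ≫ pullback.fst g b
  have hc : c ≫ g = (yon S).map h₁ ≫ b := by
    rw [Category.assoc, pullback.condition, ← Category.assoc, hc3]
  have hfl : Flat h₁.left := hg c b h₁ (repWith_comp hc1 (repWith_fst g hb)) hb hc
  have hP : P h.left := hf (a₀ ≫ pullback.fst f b) b h (repWith_comp h1 (repWith_fst f hb)) hb
    (by rw [Category.assoc, pullback.condition, ← Category.assoc, h3])
  let Q := pullback f (c ≫ g)
  let n : Q ⟶ pullback f b := pullback.lift (pullback.fst _ _) (pullback.snd _ _ ≫ (yon S).map h₁)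
    (pullback.condition.trans ((congrArg (pullback.snd f (c ≫ g) ≫ ·) hc).trans (Category.assoc _ _ _).symm))
  have sn : IsPullback n (pullback.snd f (c ≫ g)) (pullback.snd f b) ((yon S).map h₁) := by
    refine IsPullback.of_right ?_ (pullback.lift_snd _ _ _) (IsPullback.of_hasPullback f b)
    rw [pullback.lift_fst, ← hc]
    exact IsPullback.of_hasPullback f (c ≫ g)
  let m : Q ⟶ F' := sq.lift (pullback.fst _ _) (pullback.snd _ _ ≫ c)
    (pullback.condition.trans (Category.assoc _ _ _).symm)
  have sm : IsPullback m (pullback.snd f (c ≫ g)) snd c := by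
    refine IsPullback.of_right ?_ (sq.lift_snd _ _ _) sq
    rw [IsPullback.lift_fst]
    exact IsPullback.of_hasPullback f (c ≫ g)
  have st := IsPullback.of_hasPullback a₀ n
  let X := Limits.pullback h h₁
  have sX : IsPullback ((yon S).map (pullback.fst h h₁)) ((yon S).map (pullback.snd h h₁))
      ((yon S).map h) ((yon S).map h₁) := (IsPullback.of_hasPullback h h₁).map (yon S)
  have sY : IsPullback (pullback.fst a₀ n) (pullback.snd a₀ n ≫ pullback.snd f (c ≫ g))
      ((yon S).map h) ((yon S).map h₁) := h3 ▸ st.paste_vert sn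
  let e := IsPullback.isoIsPullback _ _ sX sY
  let a' : (yon S).obj X ⟶ F' := (e.hom ≫ pullback.snd a₀ n) ≫ m
  have ha' : ∀ (R : MorphismProperty Scheme.{u}) [R.IsStableUnderBaseChange] [R.IsMultiplicative],
      RepWith R a₀ → RepWith R c₀ → RepWith R b → RepWith R a' := fun R _ _ h₀ hc₀ hb₀ =>
    repWith_comp (repWith_comp (repWith_of_isIso R e.hom) (repWith_of_isPullback st h₀))
      (repWith_of_isPullback sm.flip (repWith_comp hc₀ (repWith_fst g hb₀)))
  refine locP_of_chartW (h := pullback.snd h h₁) (ha' _ h1 hc1 hb) (ha' _ h2 hc2 hb')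
    (repWith_comp hc1 (repWith_fst g hb)) ?_ (IsEtLocalW.of_isPullback
      ((IsPullback.of_hasPullback h h₁).map (Over.forget S)) hfl hP)
  calc a' ≫ snd = (e.hom ≫ pullback.snd a₀ n ≫ pullback.snd f (c ≫ g)) ≫ c := by
        simp [a', sm.w]
    _ = (yon S).map (pullback.snd h h₁) ≫ c := by rw [IsPullback.isoIsPullback_hom_snd]

/-- The base change of a chart to a scheme etale over a member of a covering has the property when the
corresponding base change of the morphism has it. -/
theorem property_pullback_snd_of_etale_lift {X Y Yi Xi : Sp S} {f : X ⟶ Y} {g : Yi ⟶ Y}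
    {q : Xi ⟶ X} {p : Xi ⟶ Yi} (sq : IsPullback q p f g)
    (hp : LocP P p) {U V T : Over S} {a : (yon S).obj U ⟶ X}
    {b : (yon S).obj V ⟶ Y} {h : U ⟶ V} (ha : RepWith @Etale a) (hb : RepWith @Etale b)
    (w : a ≫ f = (yon S).map h ≫ b) (t : T ⟶ V) (l : (yon S).obj T ⟶ Yi) (hle : RepWith @Etale l)
    (hl : l ≫ g = (yon S).map t ≫ b) : P (pullback.snd h t).left := by
  let Q := pullback p l
  have sQ : IsPullback (pullback.fst p l ≫ q) (pullback.snd p l) f (l ≫ g) :=
    (IsPullback.of_hasPullback p l).paste_horiz sq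
  rw [hl] at sQ
  let n : Q ⟶ pullback f b :=
    pullback.lift (pullback.fst p l ≫ q) (pullback.snd p l ≫ (yon S).map t)
      (sQ.w.trans (Category.assoc _ _ _).symm)
  have sn : IsPullback n (pullback.snd p l) (pullback.snd f b) ((yon S).map t) := by
    refine IsPullback.of_right ?_ (pullback.lift_snd _ _ _) (IsPullback.of_hasPullback f b)
    rw [pullback.lift_fst]
    exact sQ
  let a' : (yon S).obj U ⟶ pullback f b := pullback.lift a ((yon S).map h) w
  have ha' : RepWith @Etale a' := by
    refine repWith_etale_of_comp a' (pullback.fst f b) ?_ (repWith_fst f hb)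
    rw [pullback.lift_fst]
    exact ha
  let k : (yon S).obj (pullback h t) ⟶ Q :=
    sn.lift ((yon S).map (pullback.fst h t) ≫ a') ((yon S).map (pullback.snd h t)) (by
      rw [Category.assoc, pullback.lift_snd, ← Functor.map_comp, ← Functor.map_comp, pullback.condition])
  have st : IsPullback ((yon S).map (pullback.fst h t)) k a' n := by
    refine IsPullback.of_bot ?_ (IsPullback.lift_fst _ _ _ _).symm sn
    rw [IsPullback.lift_snd, pullback.lift_snd]
    exact (IsPullback.of_hasPullback h t).map (yon S)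
  refine hp (k ≫ pullback.fst p l) l (pullback.snd h t)
    (repWith_comp (repWith_of_isPullback st ha') (repWith_fst p hle)) hle ?_
  rw [Category.assoc, pullback.condition, ← Category.assoc, IsPullback.lift_snd]

/-- An fpqc covering can be refined, over an affine scheme etale over the base, by finitely many affine schemes
which are etale over the members of the covering. -/
theorem exists_etale_refinement {ι : Type u} {Y : Sp S} {Yi : ι → Sp S} {g : ∀ i, Yi i ⟶ Y}
    (hY : IsAlgSpace Y) (hYi : ∀ i, IsAlgSpace (Yi i)) (hg : IsFpqcCover Yi g) (Z : Over S)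
    (hZ : IsAffine Z.left) (z : (yon S).obj Z ⟶ Y) (hz : RepWith @Etale z) :
    ∃ (m : ℕ) (W : Fin m → Over S) (c : ∀ j, W j ⟶ Z),
      (∀ j, IsAffine (W j).left) ∧ (∀ j, Flat (c j).left) ∧
      (∀ x : ↥Z.left, ∃ j, x ∈ Set.range (c j).left) ∧
      ∀ j, ∃ (i : ι) (l : (yon S).obj (W j) ⟶ Yi i), RepWith @Etale l ∧ l ≫ g i = (yon S).map (c j) ≫ z := by
  classical
  obtain ⟨m, W, c, hW, -, hsurj, hl⟩ := hg.2 Z hZ z
  choose i l hl using hl
  -- for every point of every member, an affine chart of the fibre product around it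
  have key : ∀ (j : Fin m) (w : ↥(W j).left), ∃ (T : Over S) (d : T ⟶ Z) (e : (yon S).obj T ⟶ Yi (i j))
      (O : (W j).left.Opens),
      IsAffine T.left ∧ Flat d.left ∧ RepWith @Etale e ∧ e ≫ g (i j) = (yon S).map d ≫ z ∧ w ∈ O ∧
      (c j).left '' (O : Set ↥(W j).left) ⊆ Set.range d.left := by
    intro j w
    let Q := pullback (g (i j)) z
    have hQ : IsAlgSpace Q := isAlgSpace_pullback (hYi _) (IsAlgSpace.yon_obj Z) hY _ _
    obtain ⟨U, a, ha, ha'⟩ := hQ.atlas
    let lw : (yon S).obj (W j) ⟶ Q := pullback.lift (l j) ((yon S).map (c j)) (hl j)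
    obtain ⟨u, hu⟩ := surjective_ofPt ha' (Points.ofPt lw w)
    obtain ⟨A, hA, huA, -⟩ := exists_isAffineOpen_mem_and_subset (U := (⊤ : U.left.Opens)) (x := u) trivial
    let T : Over S := Over.mk (A.ι ≫ U.hom)
    let ι' : T ⟶ U := Over.homMk A.ι rfl
    let aT : (yon S).obj T ⟶ Q := (yon S).map ι' ≫ a
    have hι : Etale ι'.left := inferInstanceAs (Etale A.ι)
    have haT : RepWith @Etale aT := repWith_comp ((repWith_yon_map_iff _ _).2 hι) ha
    let d : T ⟶ Z := (yon S).preimage (aT ≫ pullback.snd (g (i j)) z)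
    have hd : (yon S).map d = aT ≫ pullback.snd (g (i j)) z := (yon S).map_preimage _
    have he : RepWith @Etale (aT ≫ pullback.fst (g (i j)) z) :=
      repWith_comp haT (repWith_fst (g (i j)) hz)
    have hcomm : (aT ≫ pullback.fst (g (i j)) z) ≫ g (i j) = (yon S).map d ≫ z := by
      rw [hd, Category.assoc (aT), Category.assoc aT, pullback.condition]
    refine ⟨T, d, aT ≫ pullback.fst (g (i j)) z,
      ⟨Points.ofPt lw ⁻¹' Set.range (Points.ofPt aT),
        (isOpenMap_ofPt haT).isOpen_range.preimage (Points.continuous_ofPt _)⟩,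
      hA, hg.1 (i j) _ z d he hz hcomm, he, hcomm,
      ⟨(⟨u, huA⟩ : A), (ofPt_comp ι' a _).trans hu⟩, ?_⟩
    rintro _ ⟨w', ⟨t, ht⟩, rfl⟩
    refine ⟨t, ?_⟩
    have h1 := congrArg (Points.map (pullback.snd (g (i j)) z)) ht
    rw [Points.map_ofPt, Points.map_ofPt, pullback.lift_snd, ← hd] at h1
    have h2 := congrArg (Points.toScheme Z) h1
    rwa [Points.toScheme_ofPt, Points.toScheme_ofPt] at h2
  choose T d e O hT hd he hcomm hmem hsub using key
  have hfin : ∀ j, ∃ t : Finset ↥(W j).left, ∀ w, ∃ w₀ ∈ t, w ∈ O j w₀ := by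
    intro j
    have := hW j
    have hc : IsCompact (Set.univ : Set ↥(W j).left) := CompactSpace.isCompact_univ
    obtain ⟨t, ht⟩ := hc.elim_finite_subcover (fun w => (O j w : Set ↥(W j).left))
      (fun w => (O j w).isOpen) fun w _ => Set.mem_iUnion.2 ⟨w, hmem j w⟩
    exact ⟨t, fun w => by simpa using ht (Set.mem_univ w)⟩
  choose t ht using hfin
  let E := Fintype.equivFin (Σ j, t j)
  refine ⟨Fintype.card (Σ j, t j), fun k => T (E.symm k).1 (E.symm k).2.1, fun k => d _ _,
    fun k => hT _ _, fun k => hd _ _, fun x => ?_, fun k => ⟨_, e _ _, he _ _, hcomm _ _⟩⟩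
  obtain ⟨j, w, hw⟩ := hsurj x
  obtain ⟨w₀, hw₀, hwO⟩ := ht j w
  have key' : ∀ p : (Σ j, t j), p = ⟨j, w₀, hw₀⟩ → x ∈ Set.range (d p.1 p.2.1).left := by
    rintro p rfl
    exact hsub _ _ ⟨w, hwO, hw⟩
  exact ⟨E ⟨j, w₀, hw₀⟩, key' _ (E.symm_apply_apply _)⟩

/-- An etale local property stable under flat base change which is local on the target and descends along fpqc
coverings of schemes is local on the base in the fpqc topology on algebraic spaces. -/
theorem isLocalOnBase_fpqc_locPW [IsEtLocalW P] [IsZariskiLocalAtTarget P]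
    [P.DescendsAlong (@Surjective ⊓ @Flat ⊓ @QuasiCompact)] :
    IsLocalOnBase (IsFpqcCover (S := S)) (LocP P) := by
  intro ι Y Yi g hY hYi hg X f hX Xi p q hXi sq
  refine ⟨fun hf i => locP_of_flat_isPullbackW (sq i) hX hY (hYi i) (hg.1 i) hf, fun hp => ?_⟩
  obtain ⟨U, V, a, b, h, ha, ha', hb, -, w⟩ := exists_chart hX hY f
  refine locP_of_chartW ha ha' hb w ?_
  rw [IsZariskiLocalAtTarget.iff_of_iSup_eq_top (P := P) _ (iSup_affineOpens_eq_top V.left)]
  intro Z
  let Z₀ : Over S := Over.mk (Z.1.ι ≫ V.hom)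
  let ιZ : Z₀ ⟶ V := Over.homMk Z.1.ι rfl
  have hιZ : Etale ιZ.left := inferInstanceAs (Etale Z.1.ι)
  obtain ⟨m, W, c, hW, hc, hsurj, hl⟩ := exists_etale_refinement hY hYi hg Z₀ Z.2 ((yon S).map ιZ ≫ b)
    (repWith_comp ((repWith_yon_map_iff _ _).2 hιZ) hb)
  choose i l hle hl using hl
  have hcov (j : Fin m) :
      P (pullback.snd h.left ((c j).left ≫ Z.1.ι)) := by
    have h1 : P (pullback.snd h (c j ≫ ιZ)).left :=
      property_pullback_snd_of_etale_lift (sq (i j)) (hp _) ha hb w (c j ≫ ιZ) (l j) (hle j)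
        (by rw [hl, Functor.map_comp, Category.assoc])
    have e : IsPullback (pullback.fst h (c j ≫ ιZ)).left (pullback.snd h (c j ≫ ιZ)).left h.left
        ((c j).left ≫ Z.1.ι) := (IsPullback.of_hasPullback h (c j ≫ ιZ)).map (Over.forget S)
    rw [← e.isoPullback_hom_snd] at h1
    exact (P.cancel_left_of_respectsIso e.isoPullback.hom _).1 h1
  let C : (∐ fun j => (W j).left) ⟶ Z.1 := Sigma.desc fun j => (c j).left
  have : Surjective C := ⟨fun z => by
    obtain ⟨j, y, hy⟩ := hsurj z
    exact ⟨Sigma.ι (fun j => (W j).left) j y,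
      by rw [← Scheme.Hom.comp_apply, Sigma.ι_desc]; exact hy⟩⟩
  have : Flat C := by
    rw [IsZariskiLocalAtSource.iff_of_openCover (P := @Flat) (sigmaOpenCover _)]
    intro j
    rw [sigmaOpenCover_f, Sigma.ι_desc]
    exact hc j
  have : IsAffine (Z.1 : Scheme.{u}) := Z.2
  have := hW
  have hsq := isPullback_morphismRestrict h.left Z.1
  refine MorphismProperty.of_pullback_snd_of_descendsAlong (P := P)
    (Q := @Surjective ⊓ @Flat ⊓ @QuasiCompact) (g := C) ⟨⟨‹_›, ‹_›⟩, inferInstance⟩ ?_
  rw [IsZariskiLocalAtTarget.iff_of_openCover (P := P) (sigmaOpenCover _)]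
  intro j
  have h2 := hcov j
  have s1 := ((IsPullback.of_hasPullback (pullback.snd (h.left ∣_ Z.1) C)
      ((sigmaOpenCover fun j => (W j).left).f j)).paste_horiz
    (IsPullback.of_hasPullback (h.left ∣_ Z.1) C)).paste_horiz hsq.flip
  rw [show (sigmaOpenCover fun j => (W j).left).f j ≫ C = (c j).left by
    rw [sigmaOpenCover_f, Sigma.ι_desc]] at s1
  refine (P.cancel_left_of_respectsIso s1.isoPullback.inv _).1 ?_
  rw [Scheme.Cover.pullbackHom, s1.isoPullback_inv_snd]
  exact h2

end Groth.Agent.AlgSpMor
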