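import Groth.Prelude.Def_AlgSpMor6
import Groth.Agent.KRegLib.FpqcDescent
import Groth.Agent.KRegLib.Descend
import Groth.Agent.S9699
import Groth.Agent.AlgSpMor.EtLocalW

/-!
# Local complete intersection morphisms of algebraic spaces
-/

set_option autoImplicit false
set_option backward.isDefEq.respectTransparency false
set_option backward.isDefEq.respectTransparency.types false

universe u

open CategoryTheory CategoryTheory.Limits AlgebraicGeometry Opposite AlgSp

namespace Groth.Agent.AlgSpMor

open Groth.Agent.AlgSpLib Groth.Agent.KRegLib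

variable {S : Scheme.{u}} {F G H : Sp S}

theorem lci_eq : (AlgSp.lci.{u}) = IsLCI'.{u} := by
  funext X Y f
  exact propext (forall_isKoszulAt_iff f)

theorem isLCI'_of_etale {X Y : Scheme.{u}} (f : X ⟶ Y) [Etale f] : IsLCI' f :=
  (forall_isKoszulAt_iff f).1 fun x => Synt29.isKoszulAt_of_isSyntomicMor f (S9699.result f) x

instance : (IsLCI'.{u}).DescendsAlong (@Surjective ⊓ @Flat ⊓ @QuasiCompact) := isLCI'_descendsAlong

instance : IsEtLocalW (IsLCI'.{u}) where
  etale_comp f g hf hg := have := hf; MorphismProperty.comp_mem _ f g (isLCI'_of_etale f) hg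
  comp_etale f g hf hg := have := hg; MorphismProperty.comp_mem _ f g hf (isLCI'_of_etale g)
  of_precomp f g hf hs h :=
    have := hf; have := hs
    (forall_isKoszulAt_iff g).1
      (isKoszulAt_of_syntomic_precomp f (S9699.result f) g ((forall_isKoszulAt_iff _).2 h))
  of_isPullback sq hg h := have := hg; isLCI'_of_isPullback sq h

theorem isLCIMor_iff (f : F ⟶ G) : IsLCIMor f ↔ LocP IsLCI' f := by
  rw [IsLCIMor, lci_eq]

/-- Being a local complete intersection morphism is local on the base in the fpqc topology. -/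
theorem isLCIMor_isLocalOnBase : IsLocalOnBase (IsFpqcCover (S := S)) IsLCIMor := by
  have h : IsLocalOnBase (IsFpqcCover (S := S)) (LocP (S := S) IsLCI') := isLocalOnBase_fpqc_locPW
  rwa [IsLCIMor, lci_eq]

/-- Cancellation of a smooth morphism. -/
theorem isLCIMor_of_comp_smooth (hF : IsAlgSpace F) (hG : IsAlgSpace G) (hH : IsAlgSpace H)
    (f : F ⟶ G) (q : G ⟶ H) (hq : LocP @Smooth q) (hp : IsLCIMor (f ≫ q)) : IsLCIMor f := by
  rw [isLCIMor_iff] at hp ⊢
  obtain ⟨V, T, b, c, k, hb, hbs, hc, -, hk⟩ := exists_chart hG hH q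
  obtain ⟨U, a₀, h, h1, h2, h3⟩ := exists_chart_over hF hG f b
  have ha : RepWith @Etale (a₀ ≫ pullback.fst f b) := repWith_comp h1 (repWith_fst f hb)
  have w : (a₀ ≫ pullback.fst f b) ≫ f = (yon S).map h ≫ b := by
    rw [Category.assoc, pullback.condition, ← Category.assoc, h3]
  refine locP_of_chartW ha (repWith_comp h2 (repWith_fst f hbs)) hb w ?_
  have hs : Smooth k.left := hq b c k hb hc hk
  have hlci : IsLCI' (h.left ≫ k.left) := hp (a₀ ≫ pullback.fst f b) c (h ≫ k) ha hc (by
    rw [← Category.assoc, w, Category.assoc, hk, Functor.map_comp, Category.assoc])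
  exact (forall_isKoszulAt_iff _).1
    (isKoszulAt_of_comp_smooth h.left k.left ((forall_isKoszulAt_iff _).2 hlci))

end Groth.Agent.AlgSpMor
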