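import Mathlib
import Groth.Agent.RegImmLib.Basic
import Groth.Agent.KRegLib.Kinds
import Groth.Agent.CAlgOdd.H1Append

/-!
# Regular immersions of schemes of the kinds Koszul, H_1 and quasi: implications, composition, descent
-/

set_option autoImplicit false
set_option linter.style.haveILetI false
set_option backward.isDefEq.respectTransparency.types false

universe u

open AlgebraicGeometry CategoryTheory

namespace Groth.Agent.AlgSpMor

open Groth.Agent.KRegLib Groth.Agent.RegImmLib

/-- `H_1`-regularity is preserved by flat ring maps. -/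
theorem isH1Regular_map {A B : Type u} [CommRing A] [CommRing B] [Algebra A B] [Module.Flat A B] {r : ℕ}
    {x : Fin r → A} (hx : CAlgX.IsH1Regular x) : CAlgX.IsH1Regular fun i => algebraMap A B (x i) := by
  classical
  intro u hu
  let φ : (Fin r → A) →ₗ[A] A := Fintype.linearCombination A x
  let ι := (LinearMap.ker φ).subtype
  have hex : Function.Exact (ι.lTensor B) (φ.lTensor B) :=
    Module.Flat.lTensor_exact B (LinearMap.exact_subtype_ker_map φ)
  let e := TensorProduct.piScalarRight A B B (Fin r)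
  have he : ∀ z : TensorProduct A B (Fin r → A),
      Algebra.TensorProduct.rid A B B (φ.lTensor B z) = ∑ i, e z i * algebraMap A B (x i) := by
    intro z
    induction z using TensorProduct.induction_on with
    | zero => simp
    | tmul b v =>
      rw [LinearMap.lTensor_tmul, Algebra.TensorProduct.rid_tmul]
      simp only [φ, Fintype.linearCombination_apply, smul_eq_mul, e, TensorProduct.piScalarRight_apply,
        TensorProduct.piScalarRightHom_tmul, Algebra.smul_def, map_sum, Finset.sum_mul, map_mul]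
      exact Finset.sum_congr rfl fun i _ => by ring
    | add a b ha hb => simp only [map_add, ha, hb, Pi.add_apply, add_mul, Finset.sum_add_distrib]
  obtain ⟨w, hw⟩ := (hex (e.symm u)).1 ((Algebra.TensorProduct.rid A B B).injective (by
    rw [he, LinearEquiv.apply_symm_apply, hu, map_zero]))
  rw [← e.apply_symm_apply u, ← hw]
  clear hw
  induction w using TensorProduct.induction_on with
  | zero => simp
  | add a b ha hb => rw [map_add, map_add]; exact add_mem ha hb
  | tmul b v =>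
    have hv : ∑ i, v.1 i * x i = 0 := by
      have hv0 : φ v.1 = 0 := v.2
      simpa only [φ, Fintype.linearCombination_apply, smul_eq_mul] using hv0
    have h1 := hx v.1 hv
    have h2 : e ((ι.lTensor B) (b ⊗ₜ[A] v)) = b • fun i => algebraMap A B (v.1 i) := by
      funext i
      simp [e, ι, Algebra.smul_def, mul_comm]
    rw [h2]
    refine Submodule.smul_mem _ _ ?_
    let ψ : (Fin r → A) →ₗ[A] (Fin r → B) := (Algebra.linearMap A B).compLeft (Fin r)
    have h3 : ψ v.1 ∈ (Submodule.span B {w : Fin r → B | ∃ i j : Fin r, w =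
        Pi.single i (algebraMap A B (x j)) - Pi.single j (algebraMap A B (x i))}).restrictScalars A := by
      refine (Submodule.map_span_le ψ _ _).2 ?_ ⟨_, h1, rfl⟩
      rintro _ ⟨i, j, rfl⟩
      refine Submodule.subset_span ⟨i, j, ?_⟩
      funext k
      simp [ψ, Pi.single_apply, apply_ite (algebraMap A B)]
    exact h3

/-- The two kinds `H_1` and quasi, on sequences indexed by `Fin n`. -/
def SeqFin (k : RegImm.Kind) {R : Type u} [CommRing R] {n : ℕ} (f : Fin n → R) : Prop :=
  match k with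
  | .quasi => CAlgX.IsQuasiRegular f
  | _ => CAlgX.IsH1Regular f

theorem seqFin_map {k : RegImm.Kind} {A B : Type u} [CommRing A] [CommRing B] [Algebra A B] (g : A)
    [IsLocalization.Away g B] {n : ℕ} {f : Fin n → A} (hf : SeqFin k f) :
    SeqFin k fun i => algebraMap A B (f i) := by
  haveI : Module.Flat A B := IsLocalization.flat _ (Submonoid.powers g)
  cases k with
  | quasi => exact QRegBC.isQuasiRegular_localization (Submonoid.powers g) f hf
  | regular => exact isH1Regular_map (B := B) hf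
  | koszul => exact isH1Regular_map (B := B) hf
  | h1 => exact isH1Regular_map (B := B) hf

/-- Regular immersion at a point of kind `H_1` or quasi, with the sequence indexed by `Fin n`. -/
def IsSeqAt (k : RegImm.Kind) {Z X : Scheme.{u}} (i : Z ⟶ X) (z : Z) : Prop :=
  ∃ (U : X.Opens) (_ : IsAffineOpen U), i z ∈ U ∧ IsClosedImmersion (i ∣_ U) ∧
    ∃ (n : ℕ) (f : Fin n → Γ(X, U)), SeqFin k f ∧ RingHom.ker (i.app U).hom = Ideal.span (Set.range f)

theorem range_get_eq {R : Type u} [CommRing R] (rs : List R) :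
    Ideal.span (Set.range rs.get) = Ideal.ofList rs := by
  rw [span_range_eq_ofList, List.ofFn_get]

theorem seq_ofFn_iff {R : Type u} [CommRing R] {n : ℕ} (f : Fin n → R) :
    (CAlgX.IsQuasiRegular (List.ofFn f).get ↔ CAlgX.IsQuasiRegular f) ∧
      (CAlgX.IsH1Regular (List.ofFn f).get ↔ CAlgX.IsH1Regular f) := by
  have key : ∀ (m : ℕ) (h : m = n) (g : Fin m → R), (∀ i, g i = f (Fin.cast h i)) →
      (CAlgX.IsQuasiRegular g ↔ CAlgX.IsQuasiRegular f) ∧ (CAlgX.IsH1Regular g ↔ CAlgX.IsH1Regular f) := by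
    rintro m rfl g hg
    obtain rfl : g = f := funext fun i => hg i
    exact ⟨Iff.rfl, Iff.rfl⟩
  exact key _ (List.length_ofFn) _ fun i => by simp [Fin.cast]

theorem isSeqAt_iff {k : RegImm.Kind} (hk : k = .h1 ∨ k = .quasi) {Z X : Scheme.{u}} (i : Z ⟶ X) (z : Z) :
    RegImm.IsRegularImmersionAt k i z ↔ IsSeqAt k i z := by
  constructor
  · rintro ⟨U, hz, hci, rs, hrs, hker⟩
    refine ⟨U.1, U.2, hz, hci, rs.length, rs.get, ?_, by rw [hker, range_get_eq]⟩
    rcases hk with rfl | rfl <;> exact hrs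
  · rintro ⟨U, hU, hz, hci, n, f, hf, hker⟩
    refine ⟨⟨U, hU⟩, hz, hci, List.ofFn f, ?_, by rw [hker, span_range_eq_ofList]⟩
    rcases hk with rfl | rfl
    · exact (seq_ofFn_iff f).2.2 hf
    · exact (seq_ofFn_iff f).1.2 hf

theorem seqFin_append {k : RegImm.Kind} {A : Type u} [CommRing A] {n m : ℕ} {f : Fin n → A} {g : Fin m → A}
    (hf : SeqFin k f) (hg : CAlgX.IsH1Regular fun j => Ideal.Quotient.mk (Ideal.span (Set.range f)) (g j)) :
    SeqFin k (Fin.append f g) := by
  cases k with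
  | quasi => exact CAlgOdd.H1Append.isQuasiRegular_append f g hf hg
  | regular => exact CAlgOdd.H1Append.isH1Regular_append f g hf hg
  | koszul => exact CAlgOdd.H1Append.isH1Regular_append f g hf hg
  | h1 => exact CAlgOdd.H1Append.isH1Regular_append f g hf hg

/-- Restricting to a basic open. -/
theorem seq_restrict_basicOpen {k : RegImm.Kind} {Z X : Scheme.{u}} (i : Z ⟶ X) {U : X.Opens}
    (hU : IsAffineOpen U) [IsClosedImmersion (i ∣_ U)] (g : Γ(X, U)) {n : ℕ} {f : Fin n → Γ(X, U)}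
    (hf : SeqFin k f) (hker : RingHom.ker (i.app U).hom = Ideal.span (Set.range f)) :
    ∃ f' : Fin n → Γ(X, X.basicOpen g), SeqFin k f' ∧
      RingHom.ker (i.app (X.basicOpen g)).hom = Ideal.span (Set.range f') := by
  obtain ⟨hU', hs⟩ := Synt29.surjective_app_of_isClosedImmersion_restrict i U hU
  letI : Algebra Γ(X, U) Γ(X, X.basicOpen g) := (X.presheaf.map (homOfLE (X.basicOpen_le g)).op).hom.toAlgebra
  haveI : IsLocalization.Away g Γ(X, X.basicOpen g) := hU.isLocalization_basicOpen g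
  refine ⟨fun j => algebraMap Γ(X, U) Γ(X, X.basicOpen g) (f j), seqFin_map g hf,
    (app_basicOpen_props i hU hU' hs g).2.2.trans ?_⟩
  rw [hker, Ideal.map_span, ← Set.range_comp]
  rfl

/-- Composition: an `H_1`-regular immersion followed by one of kind `H_1` or quasi. -/
theorem isSeqAt_comp {k : RegImm.Kind} {X Y Z : Scheme.{u}} (i : Y ⟶ X) (j : Z ⟶ Y) (z : Z)
    (hi : IsSeqAt k i (j z)) (hj : IsSeqAt .h1 j z) : IsSeqAt k (j ≫ i) z := by
  obtain ⟨U, hU, hzU, hci, n, f, hf, hker⟩ := hi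
  obtain ⟨V, hV, hzV, hcj, m, h, hh, hkerh⟩ := hj
  obtain ⟨hU', hUs⟩ := Synt29.surjective_app_of_isClosedImmersion_restrict i U hU
  obtain ⟨g, g', hgg, hzg⟩ := exists_basicOpen_le_affine_inter hU' hV (j z) ⟨hzU, hzV⟩
  obtain ⟨G, rfl⟩ := hUs g
  let W := X.basicOpen G
  have hW : IsAffineOpen W := hU.basicOpen G
  haveI hciW : IsClosedImmersion (i ∣_ W) := isClosedImmersion_restrict_of_le i (X.basicOpen_le G)
  obtain ⟨hW', hWs⟩ := Synt29.surjective_app_of_isClosedImmersion_restrict i W hW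
  obtain ⟨f', hf', hkerf'⟩ := seq_restrict_basicOpen i hU G hf hker
  obtain ⟨h', hh', hkerh'⟩ := seq_restrict_basicOpen j hV g' hh hkerh
  have hpre : i ⁻¹ᵁ W = Y.basicOpen g' := (Scheme.preimage_basicOpen i G).trans hgg
  have key : ∀ O : Y.Opens, O = Y.basicOpen g' → IsClosedImmersion (j ∣_ O) ∧
      ∃ h'' : Fin m → Γ(Y, O), SeqFin .h1 h'' ∧ RingHom.ker (j.app O).hom = Ideal.span (Set.range h'') := by
    rintro O rfl
    exact ⟨isClosedImmersion_restrict_of_le j (Y.basicOpen_le g'), h', hh', hkerh'⟩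
  obtain ⟨hcjW, h'', hh'', hkerh''⟩ := key (i ⁻¹ᵁ W) hpre
  choose l hl using fun k => hWs (h'' k)
  have hq : CAlgX.IsH1Regular fun t => Ideal.Quotient.mk (Ideal.span (Set.range f')) (l t) := by
    let e : (Γ(X, W) ⧸ Ideal.span (Set.range f')) ≃+* Γ(Y, i ⁻¹ᵁ W) :=
      (Ideal.quotEquivOfEq hkerf'.symm).trans (RingHom.quotientKerEquivOfSurjective hWs)
    letI : Algebra Γ(Y, i ⁻¹ᵁ W) (Γ(X, W) ⧸ Ideal.span (Set.range f')) := e.symm.toRingHom.toAlgebra
    haveI : Module.Flat Γ(Y, i ⁻¹ᵁ W) (Γ(X, W) ⧸ Ideal.span (Set.range f')) :=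
      RingHom.Flat.of_bijective (f := algebraMap _ _) e.symm.bijective
    have h1 := isH1Regular_map (B := Γ(X, W) ⧸ Ideal.span (Set.range f')) hh''
    have h2 : (fun t => algebraMap Γ(Y, i ⁻¹ᵁ W) (Γ(X, W) ⧸ Ideal.span (Set.range f')) (h'' t)) =
        fun t => Ideal.Quotient.mk (Ideal.span (Set.range f')) (l t) := funext fun t => by
      show e.symm (h'' t) = _
      rw [RingEquiv.symm_apply_eq, ← hl t]
      rfl
    rwa [h2] at h1
  refine ⟨W, hW, ?_, ?_, n + m, Fin.append f' l, seqFin_append hf' hq, ?_⟩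
  · show j z ∈ i ⁻¹ᵁ W
    rw [hpre, ← hgg]
    exact hzg
  · rw [morphismRestrict_comp]
    exact MorphismProperty.comp_mem @IsClosedImmersion _ _ hcjW hciW
  · show RingHom.ker ((j.app (i ⁻¹ᵁ W)).hom.comp (i.app W).hom) = _
    rw [← RingHom.comap_ker, hkerh'']
    have h5 : (Ideal.span (Set.range l)).map (i.app W).hom = Ideal.span (Set.range h'') := by
      rw [Ideal.map_span, ← Set.range_comp]
      exact congrArg (fun z => Ideal.span (Set.range z)) (funext hl)
    rw [← h5, Ideal.comap_map_of_surjective _ hWs, ← RingHom.ker_eq_comap_bot, hkerf', sup_comm,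
      ← Ideal.span_union]
    congr 1
    ext y
    simp only [Set.mem_union, Set.mem_range]
    constructor
    · rintro (⟨t, rfl⟩ | ⟨t, rfl⟩)
      · exact ⟨Fin.castAdd m t, Fin.append_left f' l t⟩
      · exact ⟨Fin.natAdd n t, Fin.append_right f' l t⟩
    · rintro ⟨t, rfl⟩
      exact t.addCases (fun a => Or.inl ⟨a, (Fin.append_left f' l a).symm⟩)
        (fun a => Or.inr ⟨a, (Fin.append_right f' l a).symm⟩)

/-- The composition rules for the three kinds of regular immersions. -/
theorem isRegularImmersion_comp {X Y Z : Scheme.{u}} (i : Y ⟶ X) (j : Z ⟶ Y) {kj ki k : RegImm.Kind}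
    (hk : (kj = .koszul ∧ ki = .koszul ∧ k = .koszul) ∨ (kj = .h1 ∧ (ki = .h1 ∨ ki = .quasi) ∧ k = ki))
    (hj : RegImm.IsRegularImmersion kj j) (hi : RegImm.IsRegularImmersion ki i) :
    RegImm.IsRegularImmersion k (j ≫ i) := by
  haveI := hi.1
  haveI := hj.1
  refine ⟨inferInstance, fun z => ?_⟩
  rcases hk with ⟨rfl, rfl, rfl⟩ | ⟨rfl, hki, rfl⟩
  · obtain ⟨n, hn⟩ := (isRegularImmersionAt_iff i (j z)).1 (hi.2 (j z))
    obtain ⟨m, hm⟩ := (isRegularImmersionAt_iff j z).1 (hj.2 z)
    exact (isRegularImmersionAt_iff _ z).2 ⟨n + m, hn.comp i j z hm⟩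
  · exact (isSeqAt_iff hki _ z).2
      (isSeqAt_comp i j z ((isSeqAt_iff hki _ _).1 (hi.2 _)) ((isSeqAt_iff (.inl rfl) _ _).1 (hj.2 z)))

/-- Koszul regular implies `H_1`-regular implies quasi-regular. -/
theorem isRegularImmersion_mono {Z X : Scheme.{u}} (i : Z ⟶ X) :
    (RegImm.IsRegularImmersion .koszul i → RegImm.IsRegularImmersion .h1 i) ∧
      (RegImm.IsRegularImmersion .h1 i → RegImm.IsRegularImmersion .quasi i) := by
  constructor <;> intro h <;> refine ⟨h.1, fun z => ?_⟩ <;> obtain ⟨U, hz, hci, rs, hrs, hker⟩ := h.2 z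
  · exact ⟨U, hz, hci, rs, h1_of_koszul rs hrs, hker⟩
  · exact ⟨U, hz, hci, rs, Groth.Agent.S2103.result _ hrs, hker⟩

/-- A regular immersion of the restriction over an open is one of the immersion. -/
theorem regImmAt_of_restrict {k : RegImm.Kind} {Z X : Scheme.{u}} (i : Z ⟶ X) (U : X.Opens)
    (z : (i ⁻¹ᵁ U).toScheme) (h : RegImm.IsRegularImmersionAt k (i ∣_ U) z) :
    RegImm.IsRegularImmersionAt k i z.1 := by
  obtain ⟨⟨V, hV⟩, hz, hci, rs, hrs, hker⟩ := h
  refine ⟨⟨U.ι ''ᵁ V, hV.image_of_isOpenImmersion U.ι⟩, ?_, ?_, rs, hrs, ?_⟩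
  · refine ⟨(i ∣_ U) z, hz, ?_⟩
    show ((i ∣_ U) ≫ U.ι) z = i z.1
    rw [morphismRestrict_ι]
    rfl
  · exact (MorphismProperty.arrow_mk_iso_iff @IsClosedImmersion (morphismRestrictRestrict i U V)).1 hci
  · refine Eq.trans ?_ hker
    rw [morphismRestrict_app]
    ext x
    exact (map_eq_zero_iff (Z.presheaf.map (eqToHom (image_morphismRestrict_preimage i U V)).op).hom
      (ConcreteCategory.bijective_of_isIso (Z.presheaf.map (eqToHom (image_morphismRestrict_preimage i U V)).op)).1).symm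

/-- Descent of Koszul regularity along open flat surjections. -/
theorem isRegularImmersion_koszul_of_flat {X Y X' Y' : Scheme.{u}} (i : Y ⟶ X) [IsImmersion i]
    (g : X' ⟶ X) [Flat g] [Surjective g] [UniversallyOpen g] (i' : Y' ⟶ X') (g' : Y' ⟶ Y)
    (hsq : IsPullback g' i' i g) (hi' : RegImm.IsRegularImmersion .koszul i') :
    RegImm.IsRegularImmersion .koszul i := by
  refine ⟨inferInstance, fun z => ?_⟩
  obtain ⟨U, hU, hzU, -⟩ := exists_isAffineOpen_mem_and_subset (U := (⊤ : X.Opens)) (x := i z) trivial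
  have hcov : (U : Set X) ⊆ ⋃ A : {A : X'.affineOpens // A.1 ≤ g ⁻¹ᵁ U}, g '' (A.1.1 : Set X') := by
    intro x hx
    obtain ⟨x', rfl⟩ := g.surjective x
    obtain ⟨A, hA, hxA, hAU⟩ := exists_isAffineOpen_mem_and_subset (U := g ⁻¹ᵁ U) (x := x') hx
    exact Set.mem_iUnion.2 ⟨⟨⟨A, hA⟩, hAU⟩, x', hxA, rfl⟩
  obtain ⟨t, ht⟩ := hU.isCompact.elim_finite_subcover _ (fun A => g.isOpenMap _ A.1.1.isOpen) hcov
  let W : X'.Opens := ⨆ A ∈ t, A.1.1
  have hWc : IsCompact (W : Set X') := by
    simp only [W, TopologicalSpace.Opens.coe_iSup]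
    exact t.isCompact_biUnion fun A _ => A.1.2.isCompact
  have hWU : W ≤ g ⁻¹ᵁ U := iSup₂_le fun A _ => A.2
  let q : W.toScheme ⟶ U.toScheme := IsOpenImmersion.lift U.ι (W.ι ≫ g) (by
    rintro _ ⟨w, rfl⟩
    rw [Scheme.Opens.range_ι]
    exact hWU w.2)
  have hq : q ≫ U.ι = W.ι ≫ g := IsOpenImmersion.lift_fac _ _ _
  haveI : CompactSpace W.toScheme := isCompact_iff_compactSpace.1 hWc
  haveI : IsAffine U.toScheme := hU
  haveI : QuasiCompact q := quasiCompact_of_compactSpace q
  haveI : Flat q := by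
    refine MorphismProperty.of_postcomp (W := @Flat) (W' := @IsOpenImmersion) q U.ι inferInstance ?_
    rw [hq]
    infer_instance
  haveI : Surjective q := ⟨fun x => by
    obtain ⟨A, hA, x', hx', hxe⟩ := Set.mem_iUnion₂.1 (ht x.2)
    refine ⟨⟨x', TopologicalSpace.Opens.mem_iSup.2 ⟨A, TopologicalSpace.Opens.mem_iSup.2 ⟨hA, hx'⟩⟩⟩, ?_⟩
    apply U.ι.isOpenEmbedding.injective
    rw [← Scheme.Hom.comp_apply, hq, Scheme.Hom.comp_apply]
    exact hxe⟩
  have h1 : RegImm.IsRegularImmersion .koszul (Limits.pullback.snd i' W.ι) :=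
    isRegularImmersion_baseChange (IsPullback.of_hasPullback i' W.ι) hi'
  have s1 : IsPullback (Limits.pullback.fst i' W.ι ≫ g') (Limits.pullback.snd i' W.ι) i (q ≫ U.ι) := by
    rw [hq]
    exact (IsPullback.of_hasPullback i' W.ι).paste_horiz hsq
  let l : Limits.pullback i' W.ι ⟶ (i ⁻¹ᵁ U).toScheme :=
    (isPullback_morphismRestrict i U).flip.lift (Limits.pullback.fst i' W.ι ≫ g')
      (Limits.pullback.snd i' W.ι ≫ q) (by rw [Category.assoc]; exact s1.w.trans (by simp))
  have s2 : IsPullback l (Limits.pullback.snd i' W.ι) (i ∣_ U) q := by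
    refine IsPullback.of_right ?_ (IsPullback.lift_snd _ _ _ _) (isPullback_morphismRestrict i U).flip
    rw [IsPullback.lift_fst]
    exact s1
  haveI : IsImmersion (i ∣_ U) :=
    MorphismProperty.of_isPullback (P := @IsImmersion) (isPullback_morphismRestrict i U).flip ‹_›
  exact regImmAt_of_restrict i U ⟨z, hzU⟩
    ((RegImmLib.isRegularImmersion_of_fpqc (i ∣_ U) q _ _ s2 h1).2 _)

end Groth.Agent.AlgSpMor
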