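import Groth.Prelude.Def_AlgSpMor6
import Groth.Agent.AlgSpLib.Descent2
import Groth.Agent.AlgSpMor.RegImmSch
import Groth.Agent.AlgSpMor.LCI
import Groth.Agent.S8656

/-!
# Regular immersions of algebraic spaces
-/

set_option autoImplicit false
set_option backward.isDefEq.respectTransparency false
set_option backward.isDefEq.respectTransparency.types false

universe u

open CategoryTheory CategoryTheory.Limits AlgebraicGeometry Opposite AlgSp

namespace Groth.Agent.AlgSpMor

open Groth.Agent.AlgSpLib

variable {S : Scheme.{u}} {F G H : Sp S}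

theorem regImm_iso_comp {k : RegImm.Kind} {W Z X : Scheme.{u}} (e : W ⟶ Z) [IsIso e] (i : Z ⟶ X)
    (h : RegImm.IsRegularImmersion k i) : RegImm.IsRegularImmersion k (e ≫ i) := by
  haveI := h.1
  refine ⟨inferInstance, fun w => ?_⟩
  obtain ⟨U, hz, hci, rs, hrs, hker⟩ := h.2 (e w)
  refine ⟨U, hz, ?_, rs, hrs, ?_⟩
  · rw [morphismRestrict_comp]
    haveI := hci
    infer_instance
  · refine Eq.trans ?_ hker
    rw [Scheme.Hom.comp_app]
    ext x
    simp only [RingHom.mem_ker, CommRingCat.comp_apply]
    exact map_eq_zero_iff _ (ConcreteCategory.bijective_of_isIso (e.app _)).1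

theorem isRegImmMor_koszul_h1_quasi (i : F ⟶ G) :
    (IsRegImmMor RegImm.Kind.koszul i → IsRegImmMor RegImm.Kind.h1 i) ∧
      (IsRegImmMor RegImm.Kind.h1 i → IsRegImmMor RegImm.Kind.quasi i) :=
  ⟨fun h => ⟨h.1, fun _ _ b fst snd hb sq => (isRegularImmersion_mono snd.left).1 (h.2 b fst snd hb sq)⟩,
    fun h => ⟨h.1, fun _ _ b fst snd hb sq => (isRegularImmersion_mono snd.left).2 (h.2 b fst snd hb sq)⟩⟩

/-- Every etale chart of a locally Noetherian algebraic space is locally Noetherian. -/
theorem isLocallyNoetherian_of_chart (hG : IsLocNoethSp G) {V : Over S} {b : (yon S).obj V ⟶ G}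
    (hb : RepWith @Etale b) : IsLocallyNoetherian V.left := by
  obtain ⟨U, a, ha, ha', hU⟩ := hG
  have hr : Representable a := ha.rep
  haveI : IsLocallyNoetherian U.left := hU
  haveI : Etale (hr.fst' b).left := hb.property _ _ _ (hr.isPullback' b).flip
  haveI : Etale (hr.snd b).left := ha.property_snd b
  haveI : Surjective (hr.snd b).left := ha'.property _ _ _ (hr.isPullback b)
  haveI : IsLocallyNoetherian (hr.pullback b).left := LocallyOfFiniteType.isLocallyNoetherian (hr.fst' b).left
  exact isLocallyNoetherian_of_flat (hr.snd b).left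

theorem isRegImmMor_iff_of_locNoeth (i : F ⟶ G) (hG : IsLocNoethSp G) (k k' : RegImm.Kind) :
    IsRegImmMor k i → IsRegImmMor k' i := fun h => ⟨h.1, fun V _ b fst snd hb sq => by
  haveI := isLocallyNoetherian_of_chart hG hb
  exact KRegLib.regImm_of_regImm k k' snd.left (h.2 b fst snd hb sq)⟩

/-- Composition of regular immersions. -/
theorem isRegImmMor_comp (i : F ⟶ G) (j : G ⟶ H) {ki kj k : RegImm.Kind}
    (hk : (ki = .koszul ∧ kj = .koszul ∧ k = .koszul) ∨ (ki = .h1 ∧ (kj = .h1 ∨ kj = .quasi) ∧ k = kj))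
    (hi : IsRegImmMor ki i) (hj : IsRegImmMor kj j) : IsRegImmMor k (i ≫ j) := by
  refine ⟨MorphismProperty.comp_mem _ _ _ hi.1 hj.1, fun V W b fst snd hb sq => ?_⟩
  let g := hj.1.fst b
  have sj : IsPullback g ((yon S).map (hj.1.snd b)) j b := hj.1.isPullback b
  have hg : RepWith @Etale g := repWith_of_isPullback sj.flip hb
  have si := hi.1.isPullback g
  have sij := si.paste_vert sj
  rw [← Functor.map_comp] at sij
  let e := IsPullback.isoIsPullback _ _ sq sij
  let e₀ := (yon S).preimageIso e
  have he : e₀.hom ≫ hi.1.snd g ≫ hj.1.snd b = snd := (yon S).map_injective (by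
    rw [Functor.map_comp, Functor.preimageIso_hom, Functor.map_preimage, IsPullback.isoIsPullback_hom_snd])
  haveI : IsIso e₀.hom.left := ((Over.forget S).mapIso e₀).isIso_hom
  show RegImm.IsRegularImmersion k snd.left
  rw [← he, Over.comp_left, Over.comp_left]
  exact regImm_iso_comp e₀.hom.left _ (isRegularImmersion_comp _ _ hk (hi.2 g _ _ hg si) (hj.2 b _ _ hb sj))

/-- Koszul regular immersions are local complete intersection morphisms. -/
theorem isLCIMor_of_isRegImmMor (hG : IsAlgSpace G) (i : F ⟶ G) (hi : IsRegImmMor RegImm.Kind.koszul i) :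
    IsLCIMor i := by
  rw [isLCIMor_iff]
  obtain ⟨V, b, hb, hb'⟩ := hG.atlas
  have sq := hi.1.isPullback b
  refine locP_of_chartW (repWith_of_isPullback sq.flip hb) (repWith_of_isPullback sq.flip hb') hb sq.w ?_
  have hreg := hi.2 b _ _ hb sq
  refine (KRegLib.forall_isKoszulAt_iff _).1 fun w => ?_
  haveI := hreg.1
  refine ⟨⊤, V.left, (⊤ : (hi.1.pullback b).left.Opens).ι ≫ (hi.1.snd b).left, 𝟙 _, trivial,
    inferInstance, ?_, inferInstance, by simp⟩
  haveI : IsIso (⊤ : (hi.1.pullback b).left.Opens).ι := by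
    rw [← Scheme.topIso_hom]
    infer_instance
  exact regImm_iso_comp _ _ hreg

/-- An immersion of an etale neighbourhood of the source of a local complete intersection morphism into a space
smooth over the target is Koszul regular. -/
theorem isRegImmMor_of_lci_smooth {X Y P U : Sp S} (hY : IsAlgSpace Y)
    (hU : IsAlgSpace U) {f : X ⟶ Y} {g : P ⟶ Y} {e : U ⟶ X} {i : U ⟶ P}
    (hc : i ≫ g = e ≫ f) (hf : IsLCIMor f) (hg : LocP @Smooth g)
    (he : IsEtaleMor e) (hi : RepWith @IsImmersion i) : IsRegImmMor RegImm.Kind.koszul i := by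
  refine ⟨hi.rep, fun V W b fst snd hb sq => ?_⟩
  obtain ⟨T, c, hc1, hc2⟩ := hY.atlas
  have hr : Representable c := hc1.rep
  let r : hr.pullback (b ≫ g) ⟶ V := hr.snd (b ≫ g)
  let t : hr.pullback (b ≫ g) ⟶ T := hr.fst' (b ≫ g)
  haveI hre : Etale r.left := hc1.property_snd _
  haveI : Surjective r.left := hc2.property _ _ _ (hr.isPullback (b ≫ g))
  haveI : Smooth t.left := hg ((yon S).map r ≫ b) c t
    (repWith_comp ((repWith_yon_map_iff _ _).2 hre) hb) hc1
    (by rw [Category.assoc, Functor.relativelyRepresentable.map_fst', hr.w])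
  let W' := Limits.pullback snd r
  let p : W' ⟶ W := Limits.pullback.fst snd r
  let i' : W' ⟶ hr.pullback (b ≫ g) := Limits.pullback.snd snd r
  have s := (IsPullback.of_hasPullback snd r).map (Over.forget S)
  haveI himm : IsImmersion i'.left :=
    MorphismProperty.of_isPullback (P := @IsImmersion) s (hi.property b fst snd sq)
  have hp : Etale p.left := MorphismProperty.of_isPullback (P := @Etale) s.flip hre
  have hfst : RepWith @Etale fst := repWith_of_isPullback sq.flip hb
  have ha : RepWith @Etale (((yon S).map p ≫ fst) ≫ e) :=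
    he _ (repWith_comp ((repWith_yon_map_iff _ _).2 hp) hfst)
  have hlci : AlgSp.lci (i' ≫ t).left := hf _ c (i' ≫ t) ha hc1 (by
    calc (((yon S).map p ≫ fst) ≫ e) ≫ f = (yon S).map p ≫ (fst ≫ i) ≫ g := by
          simp only [Category.assoc, hc]
      _ = (yon S).map (p ≫ snd) ≫ b ≫ g := by rw [sq.w, Category.assoc, Functor.map_comp, Category.assoc]
      _ = (yon S).map (i' ≫ t) ≫ c := by
        rw [show p ≫ snd = i' ≫ r from pullback.condition, Functor.map_comp, Functor.map_comp, Category.assoc,
          Category.assoc, Functor.relativelyRepresentable.map_fst', hr.w])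
  have hreg : RegImm.IsRegularImmersion .koszul i'.left :=
    S8656.result (i' ≫ t).left hlci t.left i'.left rfl
  haveI : IsImmersion snd.left := hi.property b fst snd sq
  exact isRegularImmersion_koszul_of_flat snd.left r.left i'.left p.left s hreg

end Groth.Agent.AlgSpMor
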