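import Groth.Agent.KRegLib.FlatBase
import Groth.Agent.AlgSpPts.OpenSub
import Groth.Agent.AlgSpDec.LqfScheme
import Groth.Agent.AlgSpMor.RegImm

/-!
# The Koszul locus of a morphism of algebraic spaces and base change
-/

set_option autoImplicit false
set_option backward.isDefEq.respectTransparency false
set_option backward.isDefEq.respectTransparency.types false

universe u

open CategoryTheory CategoryTheory.Limits AlgebraicGeometry Opposite AlgSp

namespace Groth.Agent.AlgSpMor

open Groth.Agent.AlgSpLib Groth.Agent.AlgSpPts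

variable {S : Scheme.{u}} {F G : Sp S}

/-- Koszul at a point means lci on some open neighbourhood. -/
theorem isKoszulAt_iff_exists_open {X Y : Scheme.{u}} (h : X ⟶ Y) (x : X) :
    Synt.IsKoszulAt h x ↔ ∃ A : X.Opens, x ∈ A ∧ KRegLib.IsLCI' (A.ι ≫ h) := by
  constructor
  · rintro ⟨A, P, i, π, hx, hft, hi, hπ, hc⟩
    refine ⟨A, hx, (KRegLib.forall_isKoszulAt_iff _).1 fun w => ?_⟩
    haveI := hft
    haveI : IsIso (⊤ : A.toScheme.Opens).ι := by
      rw [← Scheme.topIso_hom]
      infer_instance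
    exact ⟨⊤, P, (⊤ : A.toScheme.Opens).ι ≫ i, π, trivial, inferInstance, regImm_iso_comp _ _ hi, hπ,
      by rw [Category.assoc, hc]⟩
  · rintro ⟨A, hx, hA⟩
    obtain ⟨B, P, i, π, hw, hft, hi, hπ, hc⟩ := (KRegLib.forall_isKoszulAt_iff _).2 hA ⟨x, hx⟩
    let e : (A.ι ''ᵁ B).toScheme ≅ B.toScheme := (A.ι.isoImage B).symm
    have he : e.hom ≫ B.ι ≫ A.ι = (A.ι ''ᵁ B).ι := A.ι.isoImage_inv_ι B
    refine ⟨A.ι ''ᵁ B, P, e.hom ≫ i, π, ⟨⟨x, hx⟩, hw, rfl⟩, ?_, regImm_iso_comp _ _ hi, hπ, ?_⟩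
    · rw [← he]
      haveI := hft
      have : LocallyOfFiniteType (e.hom ≫ B.ι ≫ A.ι ≫ h) := inferInstance
      simpa only [Category.assoc] using this
    · rw [Category.assoc, hc, ← he]
      simp only [Category.assoc]

/-- Being Koszul at a point, near the point, read off one chart. -/
theorem locPNear_lci_iff (hF : IsAlgSpace F) {f : F ⟶ G} {U V : Over S} {a : (yon S).obj U ⟶ F}
    {b : (yon S).obj V ⟶ G} {h : U ⟶ V} (ha : RepWith @Etale a) (hb : RepWith @Etale b)
    (w : a ≫ f = (yon S).map h ≫ b) (u : ↥U.left) :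
    LocPNear AlgSp.lci f (Points.ofPt a u) ↔ Synt.IsKoszulAt h.left u := by
  constructor
  · rintro ⟨W, j, hj, ⟨y, hy⟩, hP⟩
    rw [lci_eq] at hP
    let O := hj.rep.pullback a
    let r : O ⟶ U := hj.rep.snd a
    haveI : IsOpenImmersion r.left := hj.property_snd a
    have ho : RepWith @Etale (hj.rep.fst a) := repWith_of_isPullback (hj.rep.isPullback a).flip ha
    obtain ⟨o, -, hu⟩ := exists_lift (hj.rep.isPullback a) hy
    have hlci : KRegLib.IsLCI' (r ≫ h).left := hP (hj.rep.fst a) b (r ≫ h) ho hb (by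
      rw [← Category.assoc, hj.rep.w, Category.assoc, w, Functor.map_comp, Category.assoc])
    refine (isKoszulAt_iff_exists_open h.left u).2 ⟨r.left.opensRange, ⟨o, hu⟩, ?_⟩
    rw [← MorphismProperty.cancel_left_of_respectsIso (P := KRegLib.IsLCI'.{u}) r.left.isoOpensRange.hom,
      ← Category.assoc, Scheme.Hom.isoOpensRange_hom_ι]
    exact hlci
  · intro hu
    obtain ⟨A, huA, hA⟩ := (isKoszulAt_iff_exists_open h.left u).1 hu
    let O : Over S := Over.mk (A.ι ≫ U.hom)
    let ι' : O ⟶ U := Over.homMk A.ι rfl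
    have hι : Etale ι'.left := inferInstanceAs (Etale A.ι)
    have hao : RepWith @Etale ((yon S).map ι' ≫ a) := repWith_comp ((repWith_yon_map_iff _ _).2 hι) ha
    obtain ⟨W, j, -, hj, hrange⟩ := exists_open_subspace hF (isOpenMap_ofPt hao).isOpen_range
    obtain ⟨l, hl⟩ := AlgSpDec.exists_factor_open hj ((yon S).map ι' ≫ a) fun o => hrange.ge ⟨o, rfl⟩
    have hje : RepWith @Etale j :=
      repWith_mono (P := @IsOpenImmersion) (Q := @Etale) (fun _ _ f (_ : IsOpenImmersion f) => inferInstanceAs (Etale f)) _ hj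
    have hle : RepWith @Etale l := repWith_etale_of_comp l j (by rw [hl]; exact hao) hje
    have hls : RepWith @Surjective l := repWith_surjective_of_surjective hle.rep fun y => by
      obtain ⟨o, ho⟩ := (hrange.le ⟨y, rfl⟩ : Points.map j y ∈ Set.range (Points.ofPt ((yon S).map ι' ≫ a)))
      refine ⟨Points.ofScheme O o, injective_map (repWith_mono
        (fun _ _ g (hg : IsOpenImmersion g) => g.isOpenEmbedding.injective) _ hj) ?_⟩
      rw [Points.map_ofPt, Points.map_ofPt, Category.id_comp, hl, ho]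
    refine ⟨W, j, hj, hrange.symm ▸ ⟨(⟨u, huA⟩ : A), ofPt_comp ι' a _⟩, ?_⟩
    rw [lci_eq]
    refine locP_of_chartW (h := ι' ≫ h) hle hls hb ?_ hA
    rw [← Category.assoc, hl, Category.assoc, w, Functor.map_comp, Category.assoc]

/-- Base change of a chart diagram whose source chart is a chart of the fibre product. -/
theorem exists_bc_chart {F' G' : Sp S} {f : F ⟶ G} {g : G' ⟶ G} {fst : F' ⟶ F} {snd : F' ⟶ G'}
    (sq : IsPullback fst snd f g) {U V W : Over S} {b : (yon S).obj V ⟶ G}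
    {a₀ : (yon S).obj U ⟶ pullback f b} {h : U ⟶ V} (h₀ : a₀ ≫ pullback.snd f b = (yon S).map h)
    {c : (yon S).obj W ⟶ G'} {t : W ⟶ V} (hct : c ≫ g = (yon S).map t ≫ b) :
    ∃ a' : (yon S).obj (Limits.pullback h t) ⟶ F',
      a' ≫ fst = (yon S).map (Limits.pullback.fst h t) ≫ a₀ ≫ pullback.fst f b ∧
      a' ≫ snd = (yon S).map (Limits.pullback.snd h t) ≫ c ∧
      ∀ (R : MorphismProperty Scheme.{u}) [R.IsStableUnderBaseChange] [R.IsMultiplicative],
        RepWith R a₀ → RepWith R c → RepWith R a' := by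
  let Q := pullback f (c ≫ g)
  let n : Q ⟶ pullback f b := pullback.lift (pullback.fst _ _) (pullback.snd _ _ ≫ (yon S).map t)
    (pullback.condition.trans ((congrArg (pullback.snd f (c ≫ g) ≫ ·) hct).trans (Category.assoc _ _ _).symm))
  have sn : IsPullback n (pullback.snd f (c ≫ g)) (pullback.snd f b) ((yon S).map t) := by
    refine IsPullback.of_right ?_ (pullback.lift_snd _ _ _) (IsPullback.of_hasPullback f b)
    rw [pullback.lift_fst, ← hct]
    exact IsPullback.of_hasPullback f (c ≫ g)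
  let m : Q ⟶ F' := sq.lift (pullback.fst _ _) (pullback.snd _ _ ≫ c)
    (pullback.condition.trans (Category.assoc _ _ _).symm)
  have sm : IsPullback m (pullback.snd f (c ≫ g)) snd c := by
    refine IsPullback.of_right ?_ (sq.lift_snd _ _ _) sq
    rw [IsPullback.lift_fst]
    exact IsPullback.of_hasPullback f (c ≫ g)
  have st := IsPullback.of_hasPullback a₀ n
  have sX : IsPullback ((yon S).map (Limits.pullback.fst h t)) ((yon S).map (Limits.pullback.snd h t))
      ((yon S).map h) ((yon S).map t) := (IsPullback.of_hasPullback h t).map (yon S)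
  have sY : IsPullback (pullback.fst a₀ n) (pullback.snd a₀ n ≫ pullback.snd f (c ≫ g))
      ((yon S).map h) ((yon S).map t) := h₀ ▸ st.paste_vert sn
  let e := IsPullback.isoIsPullback _ _ sX sY
  refine ⟨(e.hom ≫ pullback.snd a₀ n) ≫ m, ?_, ?_, fun R _ _ h1 h2 =>
    repWith_comp (repWith_comp (repWith_of_isIso R e.hom) (repWith_of_isPullback st h1))
      (repWith_of_isPullback sm.flip h2)⟩
  · calc ((e.hom ≫ pullback.snd a₀ n) ≫ m) ≫ fst
        = e.hom ≫ (pullback.snd a₀ n ≫ n) ≫ pullback.fst f b := by simp [m, n]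
      _ = e.hom ≫ (pullback.fst a₀ n ≫ a₀) ≫ pullback.fst f b := by rw [pullback.condition]
      _ = _ := by simp [e]
  · calc ((e.hom ≫ pullback.snd a₀ n) ≫ m) ≫ snd
        = (e.hom ≫ pullback.snd a₀ n ≫ pullback.snd f (c ≫ g)) ≫ c := by simp [sm.w]
      _ = _ := by rw [IsPullback.isoIsPullback_hom_snd]

/-- The Koszul locus of a morphism between spaces flat and locally of finite presentation over a base commutes
with base change. -/
theorem koszulLocus_baseChange {X Y Z Z' Y' X' : Sp S} (hX : IsAlgSpace X) (hY : IsAlgSpace Y)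
    (hZ : IsAlgSpace Z) (hZ' : IsAlgSpace Z') (hX' : IsAlgSpace X') {f : X ⟶ Y} {q : Y ⟶ Z}
    (hp1 : LocP @Flat (f ≫ q)) (hp2 : LocP @LocallyOfFinitePresentation (f ≫ q))
    (hq1 : LocP @Flat q) (hq2 : LocP @LocallyOfFinitePresentation q)
    {g : Z' ⟶ Z} {gY : Y' ⟶ Y} {q' : Y' ⟶ Z'} (sY : IsPullback gY q' q g) {gX : X' ⟶ X} {f' : X' ⟶ Y'}
    (sX : IsPullback gX f' f gY) (x' : Points X') :
    LocPNear AlgSp.lci f' x' ↔ LocPNear AlgSp.lci f (Points.map gX x') := by
  obtain ⟨T, c, hc, hc'⟩ := hZ.atlas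
  obtain ⟨T', c₀, t, hc1, hc2, hc3⟩ := exists_chart_over hZ' hZ g c
  obtain ⟨V, b₀, k, hb1, hb2, hb3⟩ := exists_chart_over hY hZ q c
  obtain ⟨U, a₀, h, ha1, ha2, ha3⟩ := exists_chart_over hX hY f (b₀ ≫ pullback.fst q c)
  let cT := c₀ ≫ pullback.fst g c
  have hcT : cT ≫ g = (yon S).map t ≫ c := by
    rw [Category.assoc, pullback.condition, ← Category.assoc, hc3]
  have hbe : RepWith @Etale (b₀ ≫ pullback.fst q c) := repWith_comp hb1 (repWith_fst q hc)
  have hbs : RepWith @Surjective (b₀ ≫ pullback.fst q c) := repWith_comp hb2 (repWith_fst q hc')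
  obtain ⟨b', hb'1, hb'2, hb'3⟩ := exists_bc_chart sY hb3 hcT
  obtain ⟨a', ha'1, ha'2, ha'3⟩ := exists_bc_chart sX ha3 (t := Limits.pullback.fst k t) (c := b') hb'1
  have hcTe : RepWith @Etale cT := repWith_comp hc1 (repWith_fst g hc)
  have hb'e : RepWith @Etale b' := hb'3 _ hb1 hcTe
  have hb's : RepWith @Surjective b' := hb'3 _ hb2 (repWith_comp hc2 (repWith_fst g hc'))
  obtain ⟨w, rfl⟩ := surjective_ofPt (ha'3 _ ha2 hb's) x'
  rw [Points.map_ofPt, ha'1, ofPt_comp,
    locPNear_lci_iff hX' (ha'3 _ ha1 hb'e) hb'e ha'2, locPNear_lci_iff hX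
      (repWith_comp ha1 (repWith_fst f hbe)) hbe (by rw [Category.assoc, pullback.condition, ← Category.assoc, ha3])]
  have ha : RepWith @Etale (a₀ ≫ pullback.fst f (b₀ ≫ pullback.fst q c)) := repWith_comp ha1 (repWith_fst f hbe)
  have hk : (b₀ ≫ pullback.fst q c) ≫ q = (yon S).map k ≫ c := by
    rw [Category.assoc, pullback.condition, ← Category.assoc, hb3]
  have hhk : (a₀ ≫ pullback.fst f (b₀ ≫ pullback.fst q c)) ≫ f ≫ q = (yon S).map (h ≫ k) ≫ c := by
    calc _ = (a₀ ≫ pullback.snd f (b₀ ≫ pullback.fst q c)) ≫ (b₀ ≫ pullback.fst q c) ≫ q := by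
          rw [Category.assoc, pullback.condition_assoc]; simp only [Category.assoc]
      _ = _ := by rw [ha3, hk, Functor.map_comp, Category.assoc]
  haveI : Flat (h.left ≫ k.left) := hp1 _ c (h ≫ k) ha hc hhk
  haveI : LocallyOfFinitePresentation (h.left ≫ k.left) := hp2 _ c (h ≫ k) ha hc hhk
  haveI : Flat k.left := hq1 _ c k hbe hc hk
  haveI : LocallyOfFinitePresentation k.left := hq2 _ c k hbe hc hk
  exact KRegLib.isKoszulAt_baseChange_iff h.left k.left
    ((IsPullback.of_hasPullback k t).map (Over.forget S))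
    ((IsPullback.of_hasPullback h (Limits.pullback.fst k t)).map (Over.forget S)) w

end Groth.Agent.AlgSpMor
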