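import Mathlib.AlgebraicGeometry.Morphisms.FlatMono
import Groth.Prelude.Def_AlgSpSub
import Groth.Agent.AlgSpDec.RedImage
import Groth.Agent.AlgSpDec.LqfScheme
import Groth.Agent.AlgSpDec.LqfQuot
import Groth.Agent.AlgSpDec.LqfSplitZ
import Groth.Agent.AlgSpLib.EtaleSmoothLocal
import Groth.Agent.AlgSpPts.OpenSub

/-!
# Morphisms out of an elementary distinguished square
-/

set_option autoImplicit false
set_option backward.isDefEq.respectTransparency false
set_option backward.isDefEq.respectTransparency.types false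

universe u

open CategoryTheory CategoryTheory.Limits AlgebraicGeometry Opposite AlgSp

namespace Groth.Agent.AlgSpMor

open Groth.Agent.AlgSpLib Groth.Agent.AlgSpPts

variable {S : Scheme.{u}} {U V W P Z : Sp S}

/-- The diagonal of an etale morphism of algebraic spaces is an open immersion. -/
theorem repWith_openImm_diagonal_of_isEtaleMor (hV : IsAlgSpace V) (hW : IsAlgSpace W) {f : V ⟶ W}
    (hf : IsEtaleMor f) : RepWith @IsOpenImmersion (pullback.diagonal f) := by
  have hQ : IsAlgSpace (pullback f f) := isAlgSpace_pullback hV hV hW f f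
  have hfst : IsEtaleMor (pullback.fst f f) :=
    isEtaleMor_of_isPullback (IsPullback.of_hasPullback f f).flip hV hW hV hf
  have hd : IsEtaleMor (pullback.diagonal f) := isEtaleMor_of_comp hV hQ hV
    (by rw [pullback.diagonal_fst]; exact Groth.Agent.AlgSpLib.isEtaleMor_of_isIso _) hfst
  have hr := representable_diagonal hV f
  have he : RepWith @Etale (pullback.diagonal f) :=
    repWith_of_locP hQ hr ((isEtaleMor_iff_locP hV hQ _).1 hd)
  have hm := repWith_diagonal_monomorphisms hV f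
  refine ⟨hr, fun T W g fst snd sq => ?_⟩
  haveI : Etale snd.left := he.property g fst snd sq
  haveI : Mono snd.left := hm.property g fst snd sq
  show IsOpenImmersion snd.left
  exact IsOpenImmersion.of_flat_of_mono snd.left

/-- The open subscheme as an object over `S`. -/
noncomputable abbrev opOver {T : Over S} (O : T.left.Opens) : Over S := Over.mk (O.ι ≫ T.hom)

/-- The inclusion of an open subscheme. -/
noncomputable abbrev opι {T : Over S} (O : T.left.Opens) : opOver O ⟶ T := Over.homMk O.ι rfl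

/-- Two maps out of a scheme agree when they agree on an open neighbourhood of each point. -/
theorem hom_ext_of_nhds {F : Sp S} {T : Over S} {x y : (yon S).obj T ⟶ F}
    (h : ∀ t : ↥T.left, ∃ O : T.left.Opens, t ∈ O ∧ (yon S).map (opι O) ≫ x = (yon S).map (opι O) ≫ y) :
    x = y := by
  choose O hO he using h
  exact AlgSpDec.hom_ext_of_openCover (T.left.openCoverOfIsOpenCover O (TopologicalSpace.Opens.ext
    (Set.eq_univ_of_forall fun t => by
      simp only [TopologicalSpace.Opens.coe_iSup]; exact Set.mem_iUnion.2 ⟨t, hO t⟩))) x y fun t => he t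

theorem isReducedSp_yon {T : Over S} [IsReduced T.left] : IsReducedSp ((yon S).obj T) :=
  ⟨T, 𝟙 _, repWith_id _ T, repWith_id _ T, inferInstance⟩

variable {j : U ⟶ W} {f : V ⟶ W}

/-- The two legs of an elementary distinguished square cover the points. -/
theorem exists_point_of_isElemDistSq (h : IsElemDistSq j f) (w : Points W) :
    w ∈ Set.range (Points.map j) ∨ ∃ v, Points.map f v = w := by
  obtain ⟨-, -, T, P₀, i, p₁, p₂, ⟨-, hr, -⟩, sq, _⟩ := h
  by_cases hw : w ∈ Set.range (Points.map j)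
  · exact .inl hw
  · rw [← Set.mem_compl_iff, ← hr] at hw
    obtain ⟨t, rfl⟩ := hw
    refine .inr ⟨Points.map p₂ (Points.map (inv p₁) t), ?_⟩
    rw [← Points.map_comp, ← Points.map_comp, ← sq.w, IsIso.inv_hom_id_assoc]

/-- Compatible maps from the two legs agree on overlapping lifts. -/
theorem eq_of_lifts_UV {p : P ⟶ U} {q : P ⟶ V} (hP : IsPullback p q j f) {u : U ⟶ Z} {v : V ⟶ Z}
    (huv : p ≫ u = q ≫ v) {T : Sp S} (a : T ⟶ U) (b : T ⟶ V) (h : a ≫ j = b ≫ f) : a ≫ u = b ≫ v := by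
  calc a ≫ u = (hP.lift a b h ≫ p) ≫ u := by rw [IsPullback.lift_fst]
    _ = (hP.lift a b h ≫ q) ≫ v := by simp only [Category.assoc, huv]
    _ = b ≫ v := by rw [IsPullback.lift_snd]

/-- Two lifts to the etale leg give the same map. -/
theorem eq_of_lifts_VV (hV : IsAlgSpace V) (hW : IsAlgSpace W) (h : IsElemDistSq j f)
    {p : P ⟶ U} {q : P ⟶ V} (hP : IsPullback p q j f) {u : U ⟶ Z} {v : V ⟶ Z} (huv : p ≫ u = q ≫ v)
    {T : Over S} (b b' : (yon S).obj T ⟶ V) (hb : b ≫ f = b' ≫ f) : b ≫ v = b' ≫ v := by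
  obtain ⟨hj, hf, C, P₀, i, p₁, p₂, ⟨hi, hr, -⟩, sq, _⟩ := h
  have hΔ := repWith_openImm_diagonal_of_isEtaleMor hV hW hf
  let m := b ≫ f
  let l : (yon S).obj T ⟶ pullback f f := pullback.lift b b' hb
  haveI : IsOpenImmersion (hj.rep.snd m).left := hj.property_snd m
  haveI : IsOpenImmersion (hΔ.rep.snd l).left := hΔ.property_snd l
  refine hom_ext_of_nhds fun t => ?_
  by_cases ht : Points.ofPt m t ∈ Set.range (Points.map j)
  · refine ⟨(hj.rep.snd m).left.opensRange, ?_, ?_⟩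
    · obtain ⟨x, hx⟩ := ht
      obtain ⟨o, -, ho⟩ := exists_lift (hj.rep.isPullback m) hx
      exact ⟨o, ho⟩
    obtain ⟨k, hk⟩ := AlgSpDec.exists_factor_openImm (hj.rep.snd m)
      (opι (hj.rep.snd m).left.opensRange) fun x => x.2
    rw [← hk, Functor.map_comp, Category.assoc, Category.assoc]
    congr 1
    have e1 : (hj.rep.fst m) ≫ j = ((yon S).map (hj.rep.snd m) ≫ b) ≫ f := by
      rw [hj.rep.w, Category.assoc]
    have e2 : (hj.rep.fst m) ≫ j = ((yon S).map (hj.rep.snd m) ≫ b') ≫ f := by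
      rw [hj.rep.w, Category.assoc, ← hb]
    rw [← Category.assoc, ← Category.assoc, ← eq_of_lifts_UV hP huv _ _ e1, ← eq_of_lifts_UV hP huv _ _ e2]
  · let K : Over S := Over.mk (T.left.fromSpecResidueField t ≫ T.hom)
    let x : K ⟶ T := Over.homMk (T.left.fromSpecResidueField t) rfl
    have hx : ∀ k : ↥K.left, x.left k = t := fun k => T.left.fromSpecResidueField_apply t k
    haveI : IsReduced K.left := inferInstanceAs (IsReduced (Spec (T.left.residueField t)))
    obtain ⟨τ, hτ⟩ := AlgSpDec.exists_factor_reduced isReducedSp_yon ((yon S).map x ≫ m) hi (by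
      rintro _ ⟨k, rfl⟩
      rw [hr, ← Points.ofScheme_toScheme K k, Points.map_ofPt, Category.id_comp, ofPt_comp, hx]
      exact ht)
    have hbb : (yon S).map x ≫ b = (yon S).map x ≫ b' := by
      let z := sq.lift τ ((yon S).map x ≫ b) (by rw [hτ, Category.assoc])
      let z' := sq.lift τ ((yon S).map x ≫ b') (by rw [hτ, Category.assoc, ← hb])
      have hz : z = z' := by rw [← cancel_mono p₁, sq.lift_fst, sq.lift_fst]
      rw [← sq.lift_snd τ ((yon S).map x ≫ b) (by rw [hτ, Category.assoc]),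
        ← sq.lift_snd τ ((yon S).map x ≫ b') (by rw [hτ, Category.assoc, ← hb])]
      exact congrArg (· ≫ p₂) hz
    refine ⟨(hΔ.rep.snd l).left.opensRange, ?_, ?_⟩
    · have hl : ((yon S).map x ≫ b) ≫ pullback.diagonal f = (yon S).map x ≫ l := by
        apply pullback.hom_ext
        · simp [l, pullback.lift_fst]
        · simp [l, pullback.lift_snd, hbb]
      obtain ⟨o, ho⟩ := (yon S).map_surjective ((hΔ.rep.isPullback l).lift _ _ hl)
      let k₀ : ↥K.left := (IsLocalRing.closedPoint (T.left.residueField t) :)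
      refine ⟨o.left k₀, ?_⟩
      have h3 : o ≫ hΔ.rep.snd l = x := (yon S).map_injective (by
        rw [Functor.map_comp, ho, IsPullback.lift_snd])
      rw [← Scheme.Hom.comp_apply, ← Over.comp_left, h3]
      exact hx k₀
    obtain ⟨k, hk⟩ := AlgSpDec.exists_factor_openImm (hΔ.rep.snd l)
      (opι (hΔ.rep.snd l).left.opensRange) fun x => x.2
    rw [← hk, Functor.map_comp, Category.assoc, Category.assoc]
    congr 1
    have h1 := hΔ.rep.w l
    have e1 : hΔ.rep.fst l = (yon S).map (hΔ.rep.snd l) ≫ b := by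
      simpa [l, pullback.lift_fst] using h1 =≫ pullback.fst f f
    have e2 : hΔ.rep.fst l = (yon S).map (hΔ.rep.snd l) ≫ b' := by
      simpa [l, pullback.lift_snd] using h1 =≫ pullback.snd f f
    rw [← Category.assoc, ← Category.assoc, ← e1, ← e2]

/-- The chart of the target made of charts of the two legs. -/
theorem exists_chart_of_isElemDistSq (hU : IsAlgSpace U) (hV : IsAlgSpace V) (hW : IsAlgSpace W)
    (h : IsElemDistSq j f) :
    ∃ (U₀ V₀ X : Over S) (a : (yon S).obj U₀ ⟶ U) (b : (yon S).obj V₀ ⟶ V) (ι₁ : U₀ ⟶ X) (ι₂ : V₀ ⟶ X)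
      (c : (yon S).obj X ⟶ W),
      RepWith @Etale a ∧ RepWith @Surjective a ∧ RepWith @Etale b ∧ RepWith @Surjective b ∧
      RepWith @Etale c ∧ RepWith @Surjective c ∧
      (yon S).map ι₁ ≫ c = a ≫ j ∧ (yon S).map ι₂ ≫ c = b ≫ f ∧
      IsOpenImmersion ι₁.left ∧ IsOpenImmersion ι₂.left ∧
      (∀ x : ↥X.left, x ∈ Set.range ι₁.left ∨ x ∈ Set.range ι₂.left) ∧
      ∀ {F : Sp S} (g₁ : (yon S).obj U₀ ⟶ F) (g₂ : (yon S).obj V₀ ⟶ F),
        ∃ g : (yon S).obj X ⟶ F, (yon S).map ι₁ ≫ g = g₁ ∧ (yon S).map ι₂ ≫ g = g₂ := by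
  obtain ⟨U₀, a, ha, ha'⟩ := hU.atlas
  obtain ⟨V₀, b, hb, hb'⟩ := hV.atlas
  let Ti : ULift.{u} Bool → Over S := fun i => if i.down then U₀ else V₀
  let ci : ∀ i, (yon S).obj (Ti i) ⟶ W := fun i => match i with
    | ⟨true⟩ => a ≫ j
    | ⟨false⟩ => b ≫ f
  obtain ⟨c, hc⟩ := AlgSpDec.exists_hom_sigma Ti ci
  let ι₁ : U₀ ⟶ AlgSpDec.sigmaOver Ti := AlgSpDec.sigmaι Ti ⟨true⟩
  let ι₂ : V₀ ⟶ AlgSpDec.sigmaOver Ti := AlgSpDec.sigmaι Ti ⟨false⟩
  have h1 : (yon S).map ι₁ ≫ c = a ≫ j := hc ⟨true⟩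
  have h2 : (yon S).map ι₂ ≫ c = b ≫ f := hc ⟨false⟩
  have hce : RepWith @Etale c := by
    refine AlgSpDec.repWith_etale_sigma (representable_from_yon' hW c) fun i => ?_
    rw [hc]
    rcases i with ⟨_ | _⟩
    · exact h.2.1 b hb
    · exact Groth.Agent.AlgSpLib.isEtaleMor_of_repWith_isOpenImmersion h.1 a ha
  refine ⟨U₀, V₀, _, a, b, ι₁, ι₂, c, ha, ha', hb, hb', hce,
    repWith_surjective_of_surjective hce.rep fun w => ?_, h1, h2,
    inferInstanceAs (IsOpenImmersion (AlgSpDec.sigmaι Ti ⟨true⟩).left),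
    inferInstanceAs (IsOpenImmersion (AlgSpDec.sigmaι Ti ⟨false⟩).left), fun x => ?_, fun g₁ g₂ => ?_⟩
  · rcases exists_point_of_isElemDistSq h w with ⟨x, rfl⟩ | ⟨x, rfl⟩
    · obtain ⟨y, rfl⟩ := surjective_map_of_repWith ha' x
      exact ⟨Points.map ((yon S).map ι₁) y, by simp only [← Points.map_comp, h1]⟩
    · obtain ⟨y, rfl⟩ := surjective_map_of_repWith hb' x
      exact ⟨Points.map ((yon S).map ι₂) y, by simp only [← Points.map_comp, h2]⟩
  · obtain ⟨⟨_ | _⟩, v, rfl⟩ := AlgSpDec.exists_sigmaι Ti x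
    · exact .inr ⟨v, rfl⟩
    · exact .inl ⟨v, rfl⟩
  · obtain ⟨g, hg⟩ := AlgSpDec.exists_hom_sigma Ti (fun i => match i with
      | ⟨true⟩ => g₁
      | ⟨false⟩ => g₂)
    exact ⟨g, hg ⟨true⟩, hg ⟨false⟩⟩

/-- The legs of an elementary distinguished square are jointly epimorphic. -/
theorem hom_ext_of_isElemDistSq (hU : IsAlgSpace U) (hV : IsAlgSpace V) (hW : IsAlgSpace W)
    (h : IsElemDistSq j f) {g g' : W ⟶ Z} (h₁ : j ≫ g = j ≫ g') (h₂ : f ≫ g = f ≫ g') : g = g' := by
  obtain ⟨U₀, V₀, X, a, b, ι₁, ι₂, c, -, -, -, -, hc, hcs, e₁, e₂, hι₁, hι₂, hcov, -⟩ :=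
    exists_chart_of_isElemDistSq hU hV hW h
  haveI := epi_of_etale_surjective hc hcs
  rw [← cancel_epi c]
  refine hom_ext_of_nhds fun x => ?_
  rcases hcov x with hx | hx
  · refine ⟨ι₁.left.opensRange, hx, ?_⟩
    obtain ⟨k, hk⟩ := AlgSpDec.exists_factor_openImm ι₁ (opι ι₁.left.opensRange) fun x => x.2
    rw [← hk, Functor.map_comp, Category.assoc, Category.assoc, reassoc_of% e₁, reassoc_of% e₁, h₁]
  · refine ⟨ι₂.left.opensRange, hx, ?_⟩
    obtain ⟨k, hk⟩ := AlgSpDec.exists_factor_openImm ι₂ (opι ι₂.left.opensRange) fun x => x.2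
    rw [← hk, Functor.map_comp, Category.assoc, Category.assoc, reassoc_of% e₂, reassoc_of% e₂, h₂]

/-- Compatible maps out of the legs of an elementary distinguished square extend to the space. -/
theorem exists_desc_of_isElemDistSq (hU : IsAlgSpace U) (hV : IsAlgSpace V) (hW : IsAlgSpace W)
    (h : IsElemDistSq j f) {p : P ⟶ U} {q : P ⟶ V} (hP : IsPullback p q j f) {u : U ⟶ Z} {v : V ⟶ Z}
    (huv : p ≫ u = q ≫ v) : ∃ g : W ⟶ Z, j ≫ g = u ∧ f ≫ g = v := by
  obtain ⟨U₀, V₀, X, a, b, ι₁, ι₂, c, ha, ha', hb, hb', hc, hcs, e₁, e₂, hι₁, hι₂, hcov, hglue⟩ :=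
    exists_chart_of_isElemDistSq hU hV hW h
  obtain ⟨F, hF₁, hF₂⟩ := hglue (a ≫ u) (b ≫ v)
  haveI := mono_of_repWith (repWith_mono
    (fun _ _ e (_ : IsOpenImmersion e) => (inferInstance : Mono e)) _ h.1)
  haveI := isLocallySurjective_of_etale_surjective hc hcs
  let R := hc.rep.pullback c
  let t : R ⟶ X := hc.rep.fst' c
  let s : R ⟶ X := hc.rep.snd c
  obtain ⟨g, hg⟩ := AlgSpDec.exists_desc_of_kernelPair (hc.rep.isPullback' c) F (by
    refine hom_ext_of_nhds fun r => ?_
    have key : ∀ (A B : Over S) (α : A ⟶ X) (β : B ⟶ X) [IsOpenImmersion α.left] [IsOpenImmersion β.left],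
        t.left r ∈ Set.range α.left → s.left r ∈ Set.range β.left →
        (∀ {O : Over S} (x : O ⟶ A) (y : O ⟶ B), (yon S).map x ≫ (yon S).map α ≫ c =
          (yon S).map y ≫ (yon S).map β ≫ c →
          (yon S).map x ≫ (yon S).map α ≫ F = (yon S).map y ≫ (yon S).map β ≫ F) →
        ∃ O : R.left.Opens, r ∈ O ∧ (yon S).map (opι O) ≫ (yon S).map t ≫ F =
          (yon S).map (opι O) ≫ (yon S).map s ≫ F := by
      intro A B α β _ _ hα hβ hkey
      let O := t.left ⁻¹ᵁ α.left.opensRange ⊓ s.left ⁻¹ᵁ β.left.opensRange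
      refine ⟨O, ⟨hα, hβ⟩, ?_⟩
      obtain ⟨x, hx⟩ := AlgSpDec.exists_factor_openImm α (opι O ≫ t) fun o => o.2.1
      obtain ⟨y, hy⟩ := AlgSpDec.exists_factor_openImm β (opι O ≫ s) fun o => o.2.2
      rw [← Functor.map_comp_assoc, ← Functor.map_comp_assoc, ← hx, ← hy, Functor.map_comp_assoc,
        Functor.map_comp_assoc]
      refine hkey x y ?_
      rw [← Functor.map_comp_assoc, ← Functor.map_comp_assoc, hx, hy, Functor.map_comp_assoc,
        Functor.map_comp_assoc]
      congr 1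
      exact (hc.rep.isPullback' c).w
    rcases hcov (t.left r) with ht | ht <;> rcases hcov (s.left r) with hs | hs
    · refine key U₀ U₀ ι₁ ι₁ ht hs fun x y e => ?_
      rw [e₁, ← Category.assoc, ← Category.assoc, cancel_mono] at e
      rw [hF₁, ← Category.assoc, ← Category.assoc, e]
    · refine key U₀ V₀ ι₁ ι₂ ht hs fun x y e => ?_
      rw [e₁, e₂] at e
      rw [hF₁, hF₂, ← Category.assoc, ← Category.assoc]
      exact eq_of_lifts_UV hP huv _ _ (by simpa only [Category.assoc] using e)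
    · refine key V₀ U₀ ι₂ ι₁ ht hs fun x y e => ?_
      rw [e₁, e₂] at e
      rw [hF₁, hF₂, ← Category.assoc, ← Category.assoc]
      exact (eq_of_lifts_UV hP huv _ _ (by simpa only [Category.assoc] using e.symm)).symm
    · refine key V₀ V₀ ι₂ ι₂ ht hs fun x y e => ?_
      rw [e₂] at e
      rw [hF₂, ← Category.assoc, ← Category.assoc]
      exact eq_of_lifts_VV hV hW h hP huv _ _ (by simpa only [Category.assoc] using e))
  haveI := epi_of_etale_surjective ha ha'
  haveI := epi_of_etale_surjective hb hb'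
  refine ⟨g, ?_, ?_⟩
  · rw [← cancel_epi a, ← reassoc_of% e₁, hg, hF₁]
  · rw [← cancel_epi b, ← reassoc_of% e₂, hg, hF₂]

end Groth.Agent.AlgSpMor
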