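import Groth.Agent.AlgSpDec.FppfFamily
import Groth.Agent.AlgSpDec.FppfDescent
import Groth.Agent.AlgSpDec.QuotRep
import Groth.Agent.AlgSpLib.EtLocalInst

/-!
# Sheaves covered by jointly epimorphic families with etale fibre products
-/

set_option autoImplicit false
set_option linter.style.haveILetI false
set_option backward.isDefEq.respectTransparency false
set_option backward.isDefEq.respectTransparency.types false

universe u

open CategoryTheory CategoryTheory.Limits AlgebraicGeometry Opposite AlgSp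

namespace Groth.Agent.AlgSpMor

open Groth.Agent.AlgSpLib Groth.Agent.AlgSpPts

variable {S : Scheme.{u}} {ι : Type u} {G : Sp S}

/-- A family of maps into a sheaf is jointly epimorphic. -/
def JointEpi {A : ι → Sp S} (a : ∀ i, A i ⟶ G) : Prop :=
  ∀ {Z : Sp S} (g h : G ⟶ Z), (∀ i, a i ≫ g = a i ≫ h) → g = h

theorem JointEpi.precomp {A B : ι → Sp S} {a : ∀ i, A i ⟶ G} (h : JointEpi a) (c : ∀ i, B i ⟶ A i)
    [∀ i, Epi (c i)] : JointEpi fun i => c i ≫ a i := fun g g' he =>
  h g g' fun i => by rw [← cancel_epi (c i), ← Category.assoc, ← Category.assoc, he i]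

/-- Maps into a sheaf with a jointly epimorphic family lift after an fppf base change, summand by summand. -/
theorem exists_lift_of_jointEpi {V : ι → Over S} {m : ∀ i, (yon S).obj (V i) ⟶ G} (hm : JointEpi m)
    {p : (yon S).obj (AlgSpDec.sigmaOver V) ⟶ G} (hp : ∀ i, (yon S).map (AlgSpDec.sigmaι V i) ≫ p = m i)
    {T : Over S} (ξ : (yon S).obj T ⟶ G) :
    ∃ (T' : Over S) (k : T' ⟶ T) (x : T' ⟶ AlgSpDec.sigmaOver V), fppf k.left ∧
      (yon S).map x ≫ p = (yon S).map k ≫ ξ := by
  haveI : Epi p := ⟨fun g g' h => hm g g' fun i => by rw [← hp, Category.assoc, Category.assoc, h]⟩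
  haveI := (Sheaf.isLocallySurjective_iff_epi p).2 inferInstance
  obtain ⟨T', k, x, hk, hx⟩ := AlgSpDec.exists_fppf_lift_of_locallySurjective p ξ
  exact ⟨T', k, (yon S).preimage x, hk, by rw [Functor.map_preimage]; exact hx⟩

/-- A map to `h_T` is an open immersion if it is one after an fppf base change. -/
theorem repWith_openImm_of_fppf_base {P' P : Sp S} {T T' : Over S} {q : P ⟶ (yon S).obj T} {k : T' ⟶ T}
    (hk : fppf k.left) {fst : P' ⟶ P} {snd : P' ⟶ (yon S).obj T'} (sq : IsPullback fst snd q ((yon S).map k))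
    (h : RepWith @IsOpenImmersion snd) : RepWith @IsOpenImmersion q :=
  AlgSpDec.Fppf.repWith_isOpenImmersion_of_fppf_cover ((repWith_yon_map_iff _ _).2 hk) sq h

/-- A map into a scheme is an open immersion when it is one over each summand of a covering by opens. -/
theorem repWith_openImm_of_sigma {M : Sp S} {V : ι → Over S} (f : M ⟶ (yon S).obj (AlgSpDec.sigmaOver V))
    (h : ∀ i, RepWith @IsOpenImmersion (pullback.snd f ((yon S).map (AlgSpDec.sigmaι V i)))) :
    RepWith @IsOpenImmersion f := by
  have hj : IsZarCover (fun i => (yon S).obj (V i)) fun i => (yon S).map (AlgSpDec.sigmaι V i) := by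
    refine ⟨fun i => (repWith_yon_map_iff _ _).2
      (inferInstanceAs (IsOpenImmersion (AlgSpDec.sigmaι V i).left)), fun x => ?_⟩
    obtain ⟨w, rfl⟩ := (Points.schemeHomeo (AlgSpDec.sigmaOver V)).surjective x
    obtain ⟨i, v, rfl⟩ := AlgSpDec.exists_sigmaι V w
    exact ⟨i, Points.ofScheme (V i) v, Points.map_yon_map_apply _ v⟩
  have hr : Representable f :=
    AlgSpDec.representable_of_zarCover hj (fun i => IsPullback.of_hasPullback f _) fun i => (h i).rep
  let W := hr.pullback (𝟙 _)
  let w : W ⟶ AlgSpDec.sigmaOver V := hr.snd (𝟙 _)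
  have sqW : IsPullback (hr.fst (𝟙 _)) ((yon S).map w) f (𝟙 _) := hr.isPullback (𝟙 _)
  haveI : IsIso (hr.fst (𝟙 ((yon S).obj (AlgSpDec.sigmaOver V)))) := sqW.isIso_fst_of_isIso
  have hw : IsOpenImmersion w.left := by
    refine IsZariskiLocalAtTarget.of_openCover (P := @IsOpenImmersion)
      (sigmaOpenCover fun i => (V i).left) fun i => ?_
    let ιi := AlgSpDec.sigmaι V i
    have sq1 : IsPullback ((yon S).map (pullback.fst w ιi) ≫ hr.fst (𝟙 _)) ((yon S).map (pullback.snd w ιi))
        f ((yon S).map ιi) := by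
      simpa only [Category.comp_id] using ((IsPullback.of_hasPullback w ιi).map (yon S)).paste_horiz sqW
    have h3 : RepWith @IsOpenImmersion ((yon S).map (pullback.snd w ιi)) := by
      rw [← sq1.isoPullback_hom_snd]
      exact repWith_comp (repWith_of_isIso _ _) (h i)
    have h4 : IsOpenImmersion (pullback.snd w ιi).left := (repWith_yon_map_iff _ _).1 h3
    have sqF : IsPullback (pullback.fst w ιi).left (pullback.snd w ιi).left w.left
        (Sigma.ι (fun i => (V i).left) i) := (IsPullback.of_hasPullback w ιi).map (Over.forget S)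
    show IsOpenImmersion (Limits.pullback.snd w.left (Sigma.ι (fun i => (V i).left) i))
    rw [← sqF.isoPullback_inv_snd]
    infer_instance
  have hf : f = inv (hr.fst (𝟙 _)) ≫ (yon S).map w := by
    rw [IsIso.eq_inv_comp]; exact sqW.w.trans (Category.comp_id _)
  rw [hf]
  exact repWith_comp (repWith_of_isIso _ _) ((repWith_yon_map_iff _ _).2 hw)

/-- A map is an open immersion when it is one over each member of a jointly epimorphic family. -/
theorem repWith_openImm_of_jointEpi {M : Sp S} (m : M ⟶ G) {A : ι → Sp S} (hA : ∀ i, IsAlgSpace (A i))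
    (a : ∀ i, A i ⟶ G) (he : JointEpi a) (h : ∀ i, RepWith @IsOpenImmersion (pullback.snd m (a i))) :
    RepWith @IsOpenImmersion m := by
  choose V c hc hcs using fun i => (hA i).atlas
  haveI : ∀ i, Epi (c i) := fun i => epi_of_etale_surjective (hc i) (hcs i)
  obtain ⟨p, hp⟩ := AlgSpDec.exists_hom_sigma V fun i => c i ≫ a i
  have hX : RepWith @IsOpenImmersion (pullback.snd m p) := by
    refine repWith_openImm_of_sigma _ fun i => ?_
    have sq1 := (IsPullback.of_hasPullback (pullback.snd m p) ((yon S).map (AlgSpDec.sigmaι V i))).paste_horiz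
      (IsPullback.of_hasPullback m p)
    rw [hp] at sq1
    have sq2 := (IsPullback.of_hasPullback (pullback.snd m (a i)) (c i)).paste_horiz
      (IsPullback.of_hasPullback m (a i))
    rw [← IsPullback.isoIsPullback_hom_snd _ _ sq1 sq2]
    exact repWith_comp (repWith_of_isIso _ _) (repWith_of_isPullback (IsPullback.of_hasPullback _ _) (h i))
  have key : ∀ {T : Over S} (ξ : (yon S).obj T ⟶ G), RepWith @IsOpenImmersion (pullback.snd m ξ) := by
    intro T ξ
    obtain ⟨T', k, x, hk, hx⟩ := exists_lift_of_jointEpi (he.precomp c) hp ξ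
    have sq1 := (IsPullback.of_hasPullback (pullback.snd m ξ) ((yon S).map k)).paste_horiz
      (IsPullback.of_hasPullback m ξ)
    have sq2 := (IsPullback.of_hasPullback (pullback.snd m p) ((yon S).map x)).paste_horiz
      (IsPullback.of_hasPullback m p)
    rw [hx] at sq2
    refine repWith_openImm_of_fppf_base hk (IsPullback.of_hasPullback _ _) ?_
    rw [← IsPullback.isoIsPullback_hom_snd _ _ sq1 sq2]
    exact repWith_comp (repWith_of_isIso _ _) (repWith_of_isPullback (IsPullback.of_hasPullback _ _) hX)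
  have hr : Representable m := fun T ξ => by
    let r := (key ξ).rep
    refine ⟨r.pullback (𝟙 _), r.snd (𝟙 _), r.fst (𝟙 _) ≫ pullback.fst m ξ, ?_⟩
    simpa only [Category.comp_id, Category.id_comp] using
      (r.isPullback (𝟙 _)).paste_horiz (IsPullback.of_hasPullback m ξ)
  refine ⟨hr, fun T W ξ fst snd sq => ?_⟩
  have h1 : RepWith @IsOpenImmersion ((yon S).map snd) := by
    rw [← IsPullback.isoIsPullback_hom_snd _ _ sq (IsPullback.of_hasPullback m ξ)]
    exact repWith_comp (repWith_of_isIso _ _) (key ξ)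
  exact (repWith_yon_map_iff _ _).1 h1

/-- An fppf descending property of a map to a scheme descends along an fppf base change. -/
theorem locP_of_fppf_base {Q : MorphismProperty Scheme.{u}} [IsEtLocal Q]
    [IsZariskiLocalAtTarget Q] [Q.DescendsAlong (@Surjective ⊓ @Flat ⊓ @QuasiCompact)]
    {P' P : Sp S} (hP : IsAlgSpace P) {T T' : Over S} {q : P ⟶ (yon S).obj T} {k : T' ⟶ T}
    (hk : fppf k.left) {fst : P' ⟶ P} {snd : P' ⟶ (yon S).obj T'} (sq : IsPullback fst snd q ((yon S).map k))
    (h : LocP Q snd) : LocP Q q := by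
  obtain ⟨Z, c, hc, hcs⟩ := hP.atlas
  obtain ⟨g, hg⟩ := (yon S).map_surjective (c ≫ q)
  refine locP_of_chart hc hcs (repWith_id _ T) (by rw [Category.comp_id, hg]) ?_
  have sqZ : IsPullback ((yon S).map (pullback.fst g k)) ((yon S).map (pullback.snd g k))
      (c ≫ q) ((yon S).map k) := hg ▸ (IsPullback.of_hasPullback g k).map (yon S)
  let l : (yon S).obj (pullback g k) ⟶ P' := sq.lift ((yon S).map (pullback.fst g k) ≫ c)
    ((yon S).map (pullback.snd g k)) (by rw [Category.assoc, sqZ.w])
  have sql : IsPullback ((yon S).map (pullback.fst g k)) l c fst :=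
    IsPullback.of_bot (by rw [sq.lift_snd]; exact sqZ) (sq.lift_fst _ _ _).symm sq
  have h1 : Q (pullback.snd g k).left := h l (𝟙 _) (pullback.snd g k) (repWith_of_isPullback sql hc)
    (repWith_id _ T') (by rw [Category.comp_id]; exact sq.lift_snd _ _ _)
  exact MorphismProperty.of_isPullback_of_descendsAlong (P := Q)
    (Q := @Surjective ⊓ @Flat ⊓ @LocallyOfFinitePresentation)
    ((IsPullback.of_hasPullback g k).map (Over.forget S)).flip hk h1

/-- Fibre products with the members of a jointly epimorphic family that are etale over them are algebraic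
spaces and etale over every scheme mapping to the sheaf. -/
theorem pullback_props_of_jointEpi {V : ι → Over S} {m : ∀ i, (yon S).obj (V i) ⟶ G} (hm : JointEpi m)
    {B : Sp S} (b : B ⟶ G) (h : ∀ i, IsAlgSpace (pullback b (m i)) ∧ LocP @Etale (pullback.snd b (m i)))
    {T : Over S} (ξ : (yon S).obj T ⟶ G) :
    IsAlgSpace (pullback b ξ) ∧ LocP @Etale (pullback.snd b ξ) := by
  obtain ⟨p, hp⟩ := AlgSpDec.exists_hom_sigma V m
  let P₀ := pullback b p
  let J : ∀ i, pullback b (m i) ⟶ P₀ := fun i => pullback.lift (pullback.fst _ _)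
    (pullback.snd _ _ ≫ (yon S).map (AlgSpDec.sigmaι V i)) (by rw [Category.assoc, hp]; exact pullback.condition)
  have sqJ : ∀ i, IsPullback (J i) (pullback.snd b (m i)) (pullback.snd b p)
      ((yon S).map (AlgSpDec.sigmaι V i)) := fun i => by
    refine IsPullback.of_right ?_ (pullback.lift_snd _ _ _) (IsPullback.of_hasPullback b p)
    rw [pullback.lift_fst, hp]
    exact IsPullback.of_hasPullback b (m i)
  have hJ : IsZarCover (fun i => pullback b (m i)) J := by
    refine ⟨fun i => repWith_of_isPullback (sqJ i).flip ((repWith_yon_map_iff _ _).2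
      (inferInstanceAs (IsOpenImmersion (AlgSpDec.sigmaι V i).left))), fun x => ?_⟩
    obtain ⟨w, hw⟩ := (Points.schemeHomeo (AlgSpDec.sigmaOver V)).surjective (Points.map (pullback.snd b p) x)
    obtain ⟨i, v, rfl⟩ := AlgSpDec.exists_sigmaι V w
    obtain ⟨z, hz, -⟩ := exists_point_of_isPullback (sqJ i) (x := x) (y := Points.ofScheme (V i) v)
      (hw.symm.trans (Points.map_yon_map_apply _ v).symm)
    exact ⟨i, z, hz⟩
  have hP₀ : IsAlgSpace P₀ := AlgSpDec.isAlgSpace_of_zarCover hJ fun i => (h i).1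
  have hs₀ : LocP @Etale (pullback.snd b p) := AlgSpDec.locP_of_zarCover hJ (fun i => (h i).1) _ fun i => by
    rw [(sqJ i).w]
    exact locP_comp (h i).1 (IsAlgSpace.yon_obj _) (IsAlgSpace.yon_obj _) (h i).2
      (locP_of_repWith ((repWith_yon_map_iff _ _).2 (inferInstanceAs (Etale (AlgSpDec.sigmaι V i).left))))
  obtain ⟨T', k, x, hk, hx⟩ := exists_lift_of_jointEpi hm hp ξ
  let P' := pullback (pullback.snd b ξ) ((yon S).map k)
  have sq1 := (IsPullback.of_hasPullback (pullback.snd b ξ) ((yon S).map k)).paste_horiz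
    (IsPullback.of_hasPullback b ξ)
  let L : pullback (pullback.snd b p) ((yon S).map x) ⟶ P' :=
    sq1.lift (pullback.fst _ _ ≫ pullback.fst b p) (pullback.snd (pullback.snd b p) ((yon S).map x))
      (by rw [← hx, Category.assoc, pullback.condition, ← Category.assoc, pullback.condition, Category.assoc])
  have sq2 : IsPullback L
      (pullback.snd (pullback.snd b p) ((yon S).map x))
      (pullback.snd (pullback.snd b ξ) ((yon S).map k)) (𝟙 _) := by
    refine IsPullback.of_right ?_ (by rw [Category.comp_id, IsPullback.lift_snd]) sq1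
    rw [IsPullback.lift_fst, Category.id_comp, ← hx]
    exact (IsPullback.of_hasPullback (pullback.snd b p) ((yon S).map x)).paste_horiz
      (IsPullback.of_hasPullback b p)
  haveI := sq2.isIso_fst_of_isIso
  have hQ := isAlgSpace_of_isPullback (IsPullback.of_hasPullback (pullback.snd b p) ((yon S).map x)) hP₀
    (IsAlgSpace.yon_obj T') (IsAlgSpace.yon_obj _)
  have hP' : IsAlgSpace P' := IsAlgSpace.of_iso hQ (@asIso _ _ _ _ _ sq2.isIso_fst_of_isIso)
  have e1 : pullback.snd (pullback.snd b ξ) ((yon S).map k) = inv L ≫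
      pullback.snd (pullback.snd b p) ((yon S).map x) := by
    rw [IsIso.eq_inv_comp]; exact sq2.w.trans (Category.comp_id _)
  have hs' : LocP @Etale (pullback.snd (pullback.snd b ξ) ((yon S).map k)) := by
    rw [e1]
    exact locP_comp hP' hQ (IsAlgSpace.yon_obj _) (locP_of_repWith (repWith_of_isIso _ _))
      (locP_of_isPullback (IsPullback.of_hasPullback (pullback.snd b p) ((yon S).map x)) hP₀
        (IsAlgSpace.yon_obj _) (IsAlgSpace.yon_obj _) hs₀)
  have hP : IsAlgSpace (pullback b ξ) := AlgSpDec.isAlgSpace_of_fppf_local (ι := PUnit.{u + 1})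
    (Xi := fun _ => (yon S).obj T') (IsAlgSpace.yon_obj T) (fun _ => IsAlgSpace.yon_obj T')
    (fun _ => (yon S).map k)
    ⟨fun _ => ⟨locP_of_repWith ((repWith_yon_map_iff _ _).2 hk.1.2),
      locP_of_repWith ((repWith_yon_map_iff _ _).2 hk.2)⟩, fun y => by
      obtain ⟨t, rfl⟩ := (Points.schemeHomeo T).surjective y
      obtain ⟨t', rfl⟩ := hk.1.1.surj t
      exact ⟨⟨⟩, Points.ofScheme T' t', Points.map_yon_map_apply _ t'⟩⟩
    (pullback.snd b ξ) fun _ => hP'
  exact ⟨hP, locP_of_fppf_base hP hk (IsPullback.of_hasPullback _ _) hs'⟩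

/-- Fibre products of etale charts of two members of a family with etale fibre products. -/
theorem pair_props {A A' : Sp S} {a : A ⟶ G} {a' : A' ⟶ G} (hA : IsAlgSpace A) (hA' : IsAlgSpace A')
    (h : IsAlgSpace (pullback a a') ∧ IsEtaleMor (pullback.snd a a')) {Z Z' : Over S} {φ : (yon S).obj Z ⟶ A}
    (hφ : RepWith @Etale φ) (c : (yon S).obj Z' ⟶ A') :
    IsAlgSpace (pullback (φ ≫ a) (c ≫ a')) ∧ LocP @Etale (pullback.snd (φ ≫ a) (c ≫ a')) := by
  obtain ⟨hR, hRe⟩ := h
  have sqL := (IsPullback.of_hasPullback (pullback.snd a a') c).paste_horiz (IsPullback.of_hasPullback a a')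
  have hL : IsAlgSpace (pullback (pullback.snd a a') c) :=
    isAlgSpace_pullback hR (IsAlgSpace.yon_obj Z') hA' _ _
  have hLe : LocP @Etale (pullback.snd (pullback.snd a a') c) :=
    locP_of_isPullback (IsPullback.of_hasPullback _ _) hR hA' (IsAlgSpace.yon_obj _)
      ((isEtaleMor_iff_locP hR hA' _).1 hRe)
  let fL : pullback (pullback.snd a a') c ⟶ A := pullback.fst (pullback.snd a a') c ≫ pullback.fst a a'
  have hM : IsAlgSpace (pullback φ fL) := isAlgSpace_pullback (IsAlgSpace.yon_obj Z) hL hA _ _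
  have sqM := (IsPullback.of_hasPullback φ fL).paste_vert sqL
  let e := IsPullback.isoIsPullback _ _ sqM (IsPullback.of_hasPullback (φ ≫ a) (c ≫ a'))
  refine ⟨IsAlgSpace.of_iso hM e, ?_⟩
  have he : pullback.snd (φ ≫ a) (c ≫ a') =
      e.inv ≫ pullback.snd φ fL ≫ pullback.snd (pullback.snd a a') c := by
    rw [Iso.eq_inv_comp]; exact IsPullback.isoIsPullback_hom_snd _ _ sqM _
  rw [he]
  exact locP_comp (IsAlgSpace.of_iso hM e) hM (IsAlgSpace.yon_obj _) (locP_of_repWith (repWith_of_isIso _ _))
    (locP_comp hM hL (IsAlgSpace.yon_obj _)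
      (locP_of_repWith (repWith_of_isPullback (IsPullback.of_hasPullback φ fL) hφ)) hLe)

/-- A sheaf with a jointly epimorphic family of algebraic spaces having etale fibre products is an algebraic
space, and the members of the family are etale over it. -/
theorem isAlgSpace_of_etale_jointEpi {A : ι → Sp S} (hA : ∀ i, IsAlgSpace (A i)) (a : ∀ i, A i ⟶ G)
    (he : JointEpi a)
    (hR : ∀ i k, IsAlgSpace (pullback (a i) (a k)) ∧ IsEtaleMor (pullback.snd (a i) (a k))) :
    IsAlgSpace G ∧ ∀ i, IsEtaleMor (a i) := by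
  choose V c hc hcs using fun i => (hA i).atlas
  haveI : ∀ i, Epi (c i) := fun i => epi_of_etale_surjective (hc i) (hcs i)
  have hm : JointEpi fun i => c i ≫ a i := he.precomp c
  obtain ⟨p, hp⟩ := AlgSpDec.exists_hom_sigma V fun i => c i ≫ a i
  have hpair : ∀ (i : ι) {Z : Over S} (φ : (yon S).obj Z ⟶ A i), RepWith @Etale φ → ∀ {T : Over S}
      (ξ : (yon S).obj T ⟶ G), IsAlgSpace (pullback (φ ≫ a i) ξ) ∧ LocP @Etale (pullback.snd (φ ≫ a i) ξ) :=
    fun i Z φ hφ T ξ => pullback_props_of_jointEpi hm _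
      (fun k => pair_props (hA i) (hA k) (hR i k) hφ (c k)) ξ
  have hG : IsAlgSpace G := by
    refine AlgSpDec.isAlgSpace_of_fppf_family (fun i => c i ≫ a i) (fun i T ξ => ?_) (fun T ξ => ?_)
    · obtain ⟨h1, h2⟩ := hpair i (c i) (hc i) ξ
      exact ⟨h1, locP_mono (fun _ _ e (_ : Etale e) => inferInstanceAs (Flat e)) h2,
        locP_mono (fun _ _ e (_ : Etale e) => inferInstanceAs (LocallyOfFinitePresentation e)) h2⟩
    · obtain ⟨T', k, x, hk, hx⟩ := exists_lift_of_jointEpi hm hp ξ
      refine ⟨fun i => pullback x (AlgSpDec.sigmaι V i), fun i => pullback.fst _ _ ≫ k,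
        fun i => pullback.snd _ _, fun i => ?_, fun t => ?_⟩
      · dsimp only
        rw [← hp, ← Functor.map_comp_assoc, ← pullback.condition, Functor.map_comp, Functor.map_comp,
          Category.assoc, Category.assoc, hx]
      · obtain ⟨t', rfl⟩ := hk.1.1.surj t
        obtain ⟨i, v, hv⟩ := AlgSpDec.exists_sigmaι V (x.left t')
        obtain ⟨ω, hω, -⟩ := Scheme.exists_preimage_of_isPullback
          ((IsPullback.of_hasPullback x (AlgSpDec.sigmaι V i)).map (Over.forget S)) t' v hv.symm
        exact ⟨i, ω, congrArg k.left hω⟩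
  refine ⟨hG, fun i Z φ hφ => ?_⟩
  refine ⟨hG.representable_from_yon _, fun T W ξ fst snd sq => ?_⟩
  obtain ⟨h1, h2⟩ := hpair i φ hφ ξ
  let e := IsPullback.isoIsPullback _ _ sq (IsPullback.of_hasPullback (φ ≫ a i) ξ)
  have h3 : LocP @Etale ((yon S).map snd) := by
    rw [← IsPullback.isoIsPullback_hom_snd _ _ sq (IsPullback.of_hasPullback (φ ≫ a i) ξ)]
    exact locP_comp (IsAlgSpace.yon_obj _) h1 (IsAlgSpace.yon_obj _)
      (locP_of_repWith (repWith_of_isIso _ _)) h2
  exact h3 (𝟙 _) (𝟙 _) snd (repWith_id _ W) (repWith_id _ T)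
    ((Category.id_comp _).trans (Category.comp_id _).symm)

end Groth.Agent.AlgSpMor
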