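import Mathlib.CategoryTheory.Adhesive.Basic
import Groth.Agent.AlgSpMor.JointEpi
import Groth.Agent.AlgSpMor.Glue
import Groth.Agent.AlgSpDec.RedInduced
import Groth.Agent.AlgSpDec.LimOpen
import Groth.Agent.AlgSpDec.SpQuot

/-!
# Gluing along a separated etale map from an open subspace
-/

set_option autoImplicit false
set_option linter.style.haveILetI false
set_option backward.isDefEq.respectTransparency false
set_option backward.isDefEq.respectTransparency.types false

universe u

open CategoryTheory CategoryTheory.Limits AlgebraicGeometry Opposite AlgSp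

namespace Groth.Agent.AlgSpMor

open Groth.Agent.AlgSpLib Groth.Agent.AlgSpPts

variable {S : Scheme.{u}}

/-- A map to a space without points is an isomorphism. -/
theorem isIso_of_isEmpty_points {A B : Sp S} (hB : IsEmpty (Points B)) (φ : A ⟶ B) : IsIso φ := by
  have hA : ∀ {T : Over S}, ((yon S).obj T ⟶ A) → IsEmpty ↥T.left := fun {T} a =>
    ⟨fun t => hB.false (Points.map φ (Points.ofPt a t))⟩
  haveI : Mono φ := mono_of_yon_injective fun T a b _ =>
    haveI := hA a
    AlgSpDec.hom_ext_of_isEmpty a b
  haveI : Sheaf.IsLocallySurjective φ := isLocallySurjective_of_lifts φ fun T b => by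
    haveI : IsEmpty ↥T.left := ⟨fun t => hB.false (Points.ofPt b t)⟩
    obtain ⟨G, -⟩ := AlgSpDec.exists_hom_sigma (S := S) (F := A) (fun i : PEmpty.{u + 1} => i.elim)
      fun i => i.elim
    let z : T ⟶ AlgSpDec.sigmaOver (fun i : PEmpty.{u + 1} => (i.elim : Over S)) :=
      Over.homMk (isInitialOfIsEmpty.to _) (isInitialOfIsEmpty.hom_ext _ _)
    exact ⟨T, 𝟙 T, (yon S).map z ≫ G, fppf_of_etale _, AlgSpDec.hom_ext_of_isEmpty _ _⟩
  exact isIso_of_mono_of_locallySurjective φ

/-- Points lift along a jointly epimorphic family. -/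
theorem JointEpi.exists_point {ι : Type u} {G : Sp S} {A : ι → Sp S} {a : ∀ i, A i ⟶ G} (he : JointEpi a)
    (hA : ∀ i, IsAlgSpace (A i)) (x : Points G) : ∃ i y, Points.map (a i) y = x := by
  choose V c hc hcs using fun i => (hA i).atlas
  haveI : ∀ i, Epi (c i) := fun i => epi_of_etale_surjective (hc i) (hcs i)
  have hm : JointEpi fun i => c i ≫ a i := he.precomp c
  obtain ⟨p, hp⟩ := AlgSpDec.exists_hom_sigma V fun i => c i ≫ a i
  obtain ⟨T, g, w, -, rfl⟩ := exists_ofPt_eq x
  obtain ⟨T', k, y, hk, hy⟩ := exists_lift_of_jointEpi hm hp g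
  obtain ⟨w', rfl⟩ := hk.1.1.surj w
  obtain ⟨i, v, hv⟩ := AlgSpDec.exists_sigmaι V (y.left w')
  refine ⟨i, Points.ofPt (c i) v, ?_⟩
  rw [Points.map_ofPt, ← hp, ofPt_comp, hv, ← ofPt_comp, hy, ofPt_comp]

/-- Being etale can be tested on a Zariski covering of the source. -/
theorem isEtaleMor_of_zarCover {ι : Type u} {K V : Sp S} (hV : IsAlgSpace V) {Y : ι → Sp S} {j : ∀ i, Y i ⟶ K}
    (hj : IsZarCover Y j) (hY : ∀ i, IsAlgSpace (Y i)) (q : K ⟶ V) (h : ∀ i, IsEtaleMor (j i ≫ q)) :
    IsEtaleMor q := by
  have hK := AlgSpDec.isAlgSpace_of_zarCover hj hY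
  choose T c hc hcs using fun i => (hY i).atlas
  obtain ⟨p, hp⟩ := AlgSpDec.exists_hom_sigma T fun i => c i ≫ j i
  have hpe : RepWith @Etale p := AlgSpDec.repWith_etale_sigma (representable_from_yon' hK p) fun i => by
    rw [hp]
    exact repWith_comp (hc i)
      (repWith_mono (fun _ _ e (_ : IsOpenImmersion e) => inferInstanceAs (Etale e)) _ (hj.1 i))
  have hps : RepWith @Surjective p := repWith_surjective_of_surjective hpe.rep fun x => by
    obtain ⟨i, y, rfl⟩ := hj.2 x
    obtain ⟨v, rfl⟩ := surjective_map_of_repWith (hcs i) y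
    exact ⟨Points.map ((yon S).map (AlgSpDec.sigmaι T i)) v, by simp only [← Points.map_comp, hp]⟩
  have hq : RepWith @Etale (p ≫ q) := AlgSpDec.repWith_etale_sigma (representable_from_yon' hV _) fun i => by
    rw [reassoc_of% (hp i)]
    exact h i (c i) (hc i)
  exact (isEtaleMor_iff_locP hK hV q).2 (AlgSpDec.locP_of_precomp hpe hps (locP_of_repWith hq))

section Pushout

variable {U V V' W : Sp S} {jV : V' ⟶ V} {f' : V' ⟶ U} {f : V ⟶ W} {j : U ⟶ W}
  (H : IsPushout jV f' f j) [Mono jV]

include H

omit [Mono jV] in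
/-- The two legs as a family. -/
theorem jointEpi_legs {A : ULift.{u} Bool → Sp S} {a : ∀ i, A i ⟶ W} (e₁ : A ⟨true⟩ = U) (e₂ : A ⟨false⟩ = V)
    (h₁ : a ⟨true⟩ = eqToHom e₁ ≫ j) (h₂ : a ⟨false⟩ = eqToHom e₂ ≫ f) : JointEpi a := fun g g' h => by
  have t := h ⟨true⟩
  have b := h ⟨false⟩
  rw [h₁, Category.assoc, Category.assoc, cancel_epi] at t
  rw [h₂, Category.assoc, Category.assoc, cancel_epi] at b
  exact H.hom_ext b t

/-- The second projection restricted to the pullback of the overlap. -/
noncomputable def kappa : pullback f' f' ⟶ pullback f f :=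
  pullback.lift (pullback.fst f' f' ≫ jV) (pullback.snd f' f' ≫ jV) (by
    rw [Category.assoc, Category.assoc, H.w, pullback.condition_assoc])

theorem isPullback_kappa : IsPullback (kappa H) (pullback.snd f' f') (pullback.snd f f) jV := by
  refine IsPullback.of_right (h₁₂ := pullback.fst f f) (v₁₃ := f) (h₂₂ := f) ?_ (pullback.lift_snd _ _ _)
    (IsPullback.of_hasPullback f f)
  rw [kappa, pullback.lift_fst]
  have := (IsPullback.of_hasPullback f' f').paste_horiz (Adhesive.isPullback_of_isPushout_of_mono_left H)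
  rwa [← H.w] at this

/-- The self product of the second leg is the union of the diagonal and the self product over the overlap. -/
theorem jointEpi_diagonal_kappa {A : ULift.{u} Bool → Sp S} {a : ∀ i, A i ⟶ pullback f f} (e₁ : A ⟨true⟩ = V)
    (e₂ : A ⟨false⟩ = pullback f' f') (h₁ : a ⟨true⟩ = eqToHom e₁ ≫ pullback.diagonal f)
    (h₂ : a ⟨false⟩ = eqToHom e₂ ≫ kappa H) : JointEpi a := by
  let Δ := pullback.diagonal f
  let κ := kappa H
  have hκ := isPullback_kappa H
  haveI : Mono κ := ⟨fun g g' h => by
    apply pullback.hom_ext <;> rw [← cancel_mono jV]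
    · simpa [κ, kappa] using h =≫ pullback.fst f f
    · simpa [κ, kappa] using h =≫ pullback.snd f f⟩
  let sP := pullback.snd Δ κ
  let fP := pullback.fst Δ κ
  have outer₀ : IsPullback fP (sP ≫ pullback.snd f' f') (Δ ≫ pullback.snd f f) jV :=
    (IsPullback.of_hasPullback Δ κ).paste_vert hκ
  haveI : IsIso (Δ ≫ pullback.snd f f) := by rw [pullback.diagonal_snd]; infer_instance
  haveI : IsIso (sP ≫ pullback.snd f' f') := outer₀.isIso_snd_of_isIso
  have hfP : fP = (sP ≫ pullback.snd f' f') ≫ jV := by
    rw [← outer₀.w, pullback.diagonal_snd]; exact (Category.comp_id _).symm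
  have hsP : sP ≫ pullback.fst f' f' = sP ≫ pullback.snd f' f' := by
    rw [← cancel_mono jV, ← hfP]
    have h := (IsPullback.of_hasPullback Δ κ).w =≫ pullback.fst f f
    simpa [Δ, κ, kappa, sP, fP] using h.symm
  haveI : IsIso (sP ≫ pullback.fst f' f') := hsP ▸ inferInstance
  let inl := pushout.inl fP sP
  let inr := pushout.inr fP sP
  let ι : pushout fP sP ⟶ pullback f f := pushout.desc Δ κ pullback.condition
  haveI : Mono ι := inferInstanceAs (Mono (pushout.desc Δ κ pullback.condition))
  have hl : inl ≫ ι = Δ := pushout.inl_desc _ _ _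
  have hr : inr ≫ ι = κ := pushout.inr_desc _ _ _
  have top : IsPushout inr (pullback.fst f' f') (ι ≫ pullback.fst f f) jV := by
    refine (IsPushout.of_left ?_ ?_ (IsPushout.of_hasPushout fP sP).flip).flip
    · haveI : IsIso (inl ≫ ι ≫ pullback.fst f f) := by
        rw [reassoc_of% hl, pullback.diagonal_fst]; infer_instance
      refine IsPushout.of_horiz_isIso ⟨?_⟩
      rw [reassoc_of% hl, pullback.diagonal_fst, hsP, hfP]
      exact (Category.comp_id _).symm
    · rw [reassoc_of% hr]; simp [κ, kappa]
  have back : IsPullback inr (pullback.snd f' f') (ι ≫ pullback.snd f f) jV := by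
    have s : IsPullback inr (𝟙 _) ι κ := IsPullback.of_vert_isIso_mono ⟨by rw [Category.id_comp, hr]⟩
    simpa only [Category.id_comp] using s.paste_vert hκ
  have key := ((Adhesive.van_kampen H) inr (pullback.fst f' f') (ι ≫ pullback.fst f f) jV (pullback.snd f' f')
    (ι ≫ pullback.snd f f) f' f back (IsPullback.of_hasPullback f' f')
    ⟨by rw [Category.assoc, Category.assoc, pullback.condition]⟩ ⟨H.w⟩ ⟨top.w⟩).1 top
  haveI : IsIso ι := by
    have : ι = (IsPullback.isoIsPullback _ _ key.1 (IsPullback.of_hasPullback f f)).hom := by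
      apply pullback.hom_ext <;> simp
    rw [this]; infer_instance
  intro Z g g' h
  have t := h ⟨true⟩
  have b := h ⟨false⟩
  rw [h₁, Category.assoc, Category.assoc, cancel_epi] at t
  rw [h₂, Category.assoc, Category.assoc, cancel_epi] at b
  rw [← cancel_epi ι]
  apply pushout.hom_ext
  · rw [reassoc_of% hl, reassoc_of% hl]; exact t
  · rw [reassoc_of% hr, reassoc_of% hr]; exact b

omit [Mono jV] in
/-- The gluing of two algebraic spaces along a separated etale map from an open subspace. -/
theorem glue_props (hU : IsAlgSpace U) (hV : IsAlgSpace V) (hV' : IsAlgSpace V')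
    (hjV : RepWith @IsOpenImmersion jV) (het : IsEtaleMor f') :
    IsAlgSpace W ∧ RepWith @IsOpenImmersion j ∧ IsEtaleMor f ∧ IsPullback jV f' f j := by
  haveI : Mono jV := AlgSpDec.mono_of_openImmersion hjV
  have hpb := Adhesive.isPullback_of_isPushout_of_mono_left H
  haveI : Mono j := Adhesive.mono_of_isPushout_of_mono_left H
  let A : ULift.{u} Bool → Sp S := fun i => if i.down then U else V
  let a : ∀ i, A i ⟶ W := fun i => match i with
    | ⟨true⟩ => j
    | ⟨false⟩ => f
  have hA : ∀ i, IsAlgSpace (A i) := fun i => by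
    rcases i with ⟨_ | _⟩
    · exact hV
    · exact hU
  have he : JointEpi a :=
    jointEpi_legs H rfl rfl (by exact (Category.id_comp _).symm) (by exact (Category.id_comp _).symm)
  have hj : RepWith @IsOpenImmersion j := repWith_openImm_of_jointEpi j hA a he fun i => by
    rcases i with ⟨_ | _⟩
    · show RepWith _ (pullback.snd j f)
      rw [← hpb.flip.isoPullback_inv_snd]
      exact repWith_comp (repWith_of_isIso _ _) hjV
    · show RepWith _ (pullback.snd j j)
      exact repWith_of_isIso _ _
  let K := pullback f f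
  let C := pullback f' f'
  let B : ULift.{u} Bool → Sp S := fun i => if i.down then V else C
  let b : ∀ i, B i ⟶ K := fun i => match i with
    | ⟨true⟩ => pullback.diagonal f
    | ⟨false⟩ => kappa H
  have hC : IsAlgSpace C := isAlgSpace_pullback hV' hV' hU f' f'
  have hB : ∀ i, IsAlgSpace (B i) := fun i => by
    rcases i with ⟨_ | _⟩
    · exact hC
    · exact hV
  have hbe : JointEpi b :=
    jointEpi_diagonal_kappa H rfl rfl (by exact (Category.id_comp _).symm) (by exact (Category.id_comp _).symm)
  have hκ := isPullback_kappa H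
  have hκo : RepWith @IsOpenImmersion (kappa H) := repWith_of_isPullback hκ.flip hjV
  have hΔ : RepWith @IsOpenImmersion (pullback.diagonal f) :=
    repWith_openImm_of_jointEpi _ hB b hbe fun i => by
      rcases i with ⟨_ | _⟩
      · show RepWith _ (pullback.snd (pullback.diagonal f) (kappa H))
        have sqD : IsPullback jV (pullback.diagonal f') (pullback.diagonal f) (kappa H) := by
          refine IsPullback.of_bot ?_ ?_ hκ
          · rw [pullback.diagonal_snd, pullback.diagonal_snd]
            exact IsPullback.of_vert_isIso ⟨by rw [Category.comp_id, Category.id_comp]⟩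
          · apply pullback.hom_ext <;> simp [kappa]
        rw [← sqD.isoPullback_inv_snd]
        exact repWith_comp (repWith_of_isIso _ _) (repWith_openImm_diagonal_of_isEtaleMor hV' hU het)
      · show RepWith _ (pullback.snd (pullback.diagonal f) (pullback.diagonal f))
        exact repWith_of_isIso _ _
  have hzar : IsZarCover B b := by
    refine ⟨fun i => ?_, fun x => hbe.exists_point hB x⟩
    rcases i with ⟨_ | _⟩
    · exact hκo
    · exact hΔ
  have hK : IsAlgSpace K := AlgSpDec.isAlgSpace_of_zarCover hzar hB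
  have hjVe := Groth.Agent.AlgSpLib.isEtaleMor_of_repWith_isOpenImmersion hjV
  have hKe : IsEtaleMor (pullback.snd f f) := isEtaleMor_of_zarCover hV hzar hB _ fun i => by
    rcases i with ⟨_ | _⟩
    · show IsEtaleMor (kappa H ≫ pullback.snd f f)
      rw [hκ.w]
      have h1 : IsEtaleMor (pullback.snd f' f') :=
        isEtaleMor_of_isPullback (IsPullback.of_hasPullback f' f') hV' hU hV' het
      exact isEtaleMor_comp hC hV' hV h1 hjVe
    · show IsEtaleMor (pullback.diagonal f ≫ pullback.snd f f)
      rw [pullback.diagonal_snd]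
      exact Groth.Agent.AlgSpLib.isEtaleMor_of_isIso _
  obtain ⟨hW, hae⟩ := isAlgSpace_of_etale_jointEpi hA a he fun i k => by
    rcases i with ⟨_ | _⟩ <;> rcases k with ⟨_ | _⟩
    · exact ⟨hK, hKe⟩
    · refine ⟨IsAlgSpace.of_iso hV' hpb.isoPullback, ?_⟩
      show IsEtaleMor (pullback.snd f j)
      rw [← hpb.isoPullback_inv_snd]
      exact isEtaleMor_comp (IsAlgSpace.of_iso hV' hpb.isoPullback) hV' hU
        (Groth.Agent.AlgSpLib.isEtaleMor_of_isIso _) het
    · refine ⟨IsAlgSpace.of_iso hV' hpb.flip.isoPullback, ?_⟩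
      show IsEtaleMor (pullback.snd j f)
      rw [← hpb.flip.isoPullback_inv_snd]
      exact isEtaleMor_comp (IsAlgSpace.of_iso hV' hpb.flip.isoPullback) hV' hV
        (Groth.Agent.AlgSpLib.isEtaleMor_of_isIso _) hjVe
    · exact ⟨IsAlgSpace.of_iso hU (IsKernelPair.id_of_mono j).isoPullback,
        Groth.Agent.AlgSpLib.isEtaleMor_of_isIso (pullback.snd j j)⟩
  exact ⟨hW, hj, hae ⟨false⟩, hpb⟩

omit [Mono jV] in
/-- The glued square is an elementary distinguished square. -/
theorem glue_isElemDistSq (hU : IsAlgSpace U) (hV : IsAlgSpace V) (hV' : IsAlgSpace V')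
    (hjV : RepWith @IsOpenImmersion jV) (het : IsEtaleMor f') : IsElemDistSq j f := by
  obtain ⟨hW, hj, hf, -⟩ := glue_props H hU hV hV' hjV het
  haveI : Mono jV := AlgSpDec.mono_of_openImmersion hjV
  obtain ⟨T, i, hi⟩ := AlgSpDec.exists_reduced_induced hW
    (AlgSpDec.isOpen_range_openImm hW hj).isClosed_compl
  refine ⟨hj, hf, T.obj, _, i, pullback.fst i f, pullback.snd i f, hi, IsPullback.of_hasPullback i f, ?_⟩
  have hempty : IsEmpty (Points (pullback i j)) := ⟨fun z => by
    have h1 : Points.map i (Points.map (pullback.fst i j) z) ∈ Set.range (Points.map i) := ⟨_, rfl⟩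
    rw [hi.2.1] at h1
    exact h1 ⟨Points.map (pullback.snd i j) z, by rw [← Points.map_comp, ← Points.map_comp, pullback.condition]⟩⟩
  obtain ⟨W', f'', g', αW, -, -, top⟩ := (Adhesive.van_kampen H).exists_cube_filling
    (IsPullback.of_hasPullback i f) (IsPullback.of_hasPullback i j)
  haveI := isIso_of_isEmpty_points hempty g'
  exact top.isIso_inl_of_isIso

end Pushout

end Groth.Agent.AlgSpMor
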