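import Groth.Agent.AlgSpQC10.FP
import Groth.Agent.AlgSpQC10.StalkFin
import Mathlib.RingTheory.Noetherian.Basic

/-!
# Coherent modules on locally Noetherian algebraic spaces
-/

universe u

set_option autoImplicit false
set_option linter.style.haveILetI false
set_option backward.isDefEq.respectTransparency false
set_option backward.isDefEq.respectTransparency.types false

open CategoryTheory CategoryTheory.Limits AlgebraicGeometry Opposite AlgSp
open Groth.Agent.AlgSpQC10

namespace Groth.Agent.AlgSpMor

variable {S : Scheme.{u}} {X : Sp S} (hX : IsLocNoethSp X)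
include hX

theorem isNoetherian_sections (M : ModEt X) [M.IsQuasicoherent] [M.IsFiniteType] (E : EtOver X)
    [IsAffine E.obj.left.left] : IsNoetherian (A E) (Msec M E) := by
  haveI := isNoetherianRing_A hX E
  haveI := finite_Msec M E
  exact isNoetherian_of_isNoetherianRing_of_finite _ _

theorem isFinitePresentation_of_mono {M N : ModEt X} [M.IsQuasicoherent] [M.IsFiniteType] (ι : N ⟶ M) [Mono ι]
    [N.IsQuasicoherent] : N.IsFinitePresentation :=
  isFinitePresentation_of_finite hX N fun E hE => by
    haveI := hE
    haveI := isNoetherian_sections hX M E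
    exact Module.Finite.of_injective (ap ι E) (QCart.injective_app_of_mono (R := OEt X) ι E)

theorem isFinitePresentation_of_epi {M Q : ModEt X} [M.IsQuasicoherent] [M.IsFiniteType] (π : M ⟶ Q) [Epi π]
    [Q.IsQuasicoherent] : Q.IsFinitePresentation :=
  isFinitePresentation_of_finite hX Q fun E hE => by
    haveI := hE
    have hT : (ShortComplex.mk (kernel.ι π) π (kernel.condition π)).ShortExact :=
      { exact := ShortComplex.exact_kernel π }
    haveI := finite_Msec M E
    exact Module.Finite.of_surjective (ap π E)
      (((isCart M).kernel (R := OEt X) π (isCart Q)).surjective_app hT hE)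

theorem isFinitePresentation_kernel_cokernel {M N : ModEt X} [M.IsQuasicoherent] [M.IsFiniteType]
    [N.IsQuasicoherent] [N.IsFiniteType] (φ : M ⟶ N) :
    (kernel φ).IsFinitePresentation ∧ (cokernel φ).IsFinitePresentation := by
  haveI : (kernel φ).IsQuasicoherent :=
    (QCart.isQuasicoherent_iff X _).2 ((isCart M).kernel (R := OEt X) φ (isCart N))
  haveI : (cokernel φ).IsQuasicoherent :=
    (QCart.isQuasicoherent_iff X _).2 ((isCart M).cokernel (R := OEt X) φ (isCart N))
  exact ⟨isFinitePresentation_of_mono hX (kernel.ι φ), isFinitePresentation_of_epi hX (cokernel.π φ)⟩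

theorem isFinitePresentation_of_shortExact (T : ShortComplex (ModEt X)) (hT : T.ShortExact)
    [T.X₁.IsQuasicoherent] [T.X₁.IsFiniteType] [T.X₃.IsQuasicoherent] [T.X₃.IsFiniteType] :
    T.X₂.IsFinitePresentation := by
  haveI : T.X₂.IsQuasicoherent :=
    (QCart.isQuasicoherent_iff X _).2 ((isCart T.X₁).extension (R := OEt X) hT (isCart T.X₃))
  refine isFinitePresentation_of_finite hX T.X₂ fun E hE => ?_
  haveI := hE
  haveI := hT.mono_f
  haveI := finite_Msec T.X₁ E
  haveI := finite_Msec T.X₃ E
  have hker : LinearMap.range (ap T.f E) = LinearMap.ker (ap T.g E) := by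
    refine le_antisymm ?_ fun x hx => ?_
    · rintro _ ⟨y, rfl⟩
      exact QCart.app_g_f (R := OEt X) T y
    · exact QCart.exists_app_eq_of_exact (R := OEt X) T hT.exact x hx
  haveI : Module.Finite (A E) (Msec T.X₂ E ⧸ LinearMap.range (ap T.f E)) := Module.Finite.equiv ((Submodule.quotEquivOfEq _ _ hker).trans ((ap T.g E).quotKerEquivOfSurjective
    ((isCart T.X₁).surjective_app (R := OEt X) hT hE))).symm
  exact Module.Finite.of_submodule_quotient (LinearMap.range (ap T.f E))

end Groth.Agent.AlgSpMor
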