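import Groth.Agent.AlgSpMor.Coherent
import Groth.Agent.AlgSpDec.LimDescent
import Mathlib.CategoryTheory.Subobject.Basic

/-!
# Ascending chains of quasi-coherent submodules of coherent modules
-/

universe u

set_option autoImplicit false
set_option linter.style.haveILetI false
set_option backward.isDefEq.respectTransparency false
set_option backward.isDefEq.respectTransparency.types false

open CategoryTheory CategoryTheory.Limits AlgebraicGeometry Opposite AlgSp
open Groth.Agent.AlgSpQC10

namespace Groth.Agent.AlgSpMor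

variable {S : Scheme.{u}} {X : Sp S}

/-- A quasi-compact space has one affine etale object covering it. -/
theorem exists_affine_cover (hqc : IsQuasiCompactSp X) :
    ∃ (E : EtOver X) (_ : IsAffine E.obj.left.left), ∀ x, x ∈ Set.range (Points.ofPt E.obj.hom) := by
  obtain ⟨U, a, hU, ha, has⟩ := AlgSpDec.exists_affine_atlas hqc
  exact ⟨EtOver.mk a ha, hU, fun x => AlgSpLib.surjective_ofPt has x⟩

/-- A map of modules bijective on all objects is an isomorphism. -/
theorem isIso_of_bijective_ap {G F : ModEt X} (φ : G ⟶ F) (h : ∀ E, Function.Bijective (ap φ E)) :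
    IsIso φ := by
  haveI : ∀ E, IsIso (φ.val.app E) := fun E =>
    (ConcreteCategory.isIso_iff_bijective _).2 (h E.unop)
  let e : G.val ≅ F.val := PresheafOfModules.isoMk (fun E => asIso (φ.val.app E))
  haveI : IsIso ((SheafOfModules.forget _).map φ) := by
    rw [show (SheafOfModules.forget _).map φ = e.hom from by ext E x; rfl]
    infer_instance
  exact isIso_of_reflects_iso φ (SheafOfModules.forget _)

theorem subobject_stabilizes (hA : IsAlgSpace X) (hqc : IsQuasiCompactSp X) (hX : IsLocNoethSp X) {M : ModEt X}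
    [M.IsQuasicoherent] [M.IsFiniteType] (N : ℕ →o Subobject M)
    (hq : ∀ n, (Subobject.underlying.obj (N n)).IsQuasicoherent) : ∃ n, ∀ m, n ≤ m → N m = N n := by
  obtain ⟨E, hE, hcov⟩ := exists_affine_cover hqc
  haveI := hE
  haveI := isNoetherian_sections hX M E
  let R : ℕ →o Submodule (A E) (Msec M E) := ⟨fun n => LinearMap.range (ap (N n).arrow E), fun m n h => by
    rintro _ ⟨x, rfl⟩
    refine ⟨ap (Subobject.ofLE _ _ (N.monotone h)) E x, ?_⟩
    show ap (Subobject.ofLE _ _ (N.monotone h) ≫ (N n).arrow) E x = _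
    rw [Subobject.ofLE_arrow]⟩
  obtain ⟨n, hn⟩ := monotone_stabilizes_iff_noetherian.2 ‹IsNoetherian (A E) (Msec M E)› R
  refine ⟨n, fun m h => le_antisymm ?_ (N.monotone h)⟩
  haveI := hq n
  haveI := hq m
  let φ := Subobject.ofLE _ _ (N.monotone h)
  have hb : Function.Bijective (ap φ E) := by
    refine ⟨QCart.injective_app_of_mono (R := OEt X) φ E, fun y => ?_⟩
    obtain ⟨x, hx⟩ : ap (N m).arrow E y ∈ R n := (hn m h).symm ▸ ⟨y, rfl⟩
    refine ⟨x, QCart.injective_app_of_mono (R := OEt X) (N m).arrow E ?_⟩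
    refine Eq.trans ?_ hx
    show ap (φ ≫ (N m).arrow) E x = _
    rw [Subobject.ofLE_arrow]
  haveI : IsIso φ := isIso_of_bijective_ap φ fun E' =>
    bijective_ap_of_range hA φ hb E' fun x _ => hcov x
  exact Subobject.le_of_comm (inv φ) (by rw [IsIso.inv_comp_eq, Subobject.ofLE_arrow])

end Groth.Agent.AlgSpMor
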