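import Groth.Agent.AlgSpMor.CoherentGen
import Mathlib.CategoryTheory.Subobject.MonoOver

/-!
# A quasi-coherent module is the union of its coherent submodules
-/

universe u

set_option autoImplicit false
set_option linter.style.haveILetI false
set_option backward.isDefEq.respectTransparency false
set_option backward.isDefEq.respectTransparency.types false

open CategoryTheory CategoryTheory.Limits AlgebraicGeometry Opposite AlgSp TensorProduct
open Groth.Agent.AlgSpQC10

namespace Groth.Agent.AlgSpMor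

variable {S : Scheme.{u}} {X : Sp S} {E₀ : EtOver X} [hE₀ : IsAffine E₀.obj.left.left]
  (hcov : ∀ x, x ∈ Set.range (Points.ofPt E₀.obj.hom)) {M : ModEt X} [M.IsQuasicoherent]

include hcov in
/-- An inclusion of coherent submodules is read on a covering affine object. -/
theorem exists_le_of_range (hA : IsAlgSpace X) {N N' : ModEt X} [N.IsQuasicoherent] [N'.IsQuasicoherent]
    (ι : N ⟶ M) (ι' : N' ⟶ M) [Mono ι'] (h : LinearMap.range (ap ι E₀) ≤ LinearMap.range (ap ι' E₀)) :
    ∃ k : N ⟶ N', k ≫ ι' = ι := by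
  haveI : (cokernel ι').IsQuasicoherent :=
    (QCart.isQuasicoherent_iff X _).2 ((isCart N').cokernel (R := OEt X) ι' (isCart M))
  let φ := ι ≫ cokernel.π ι'
  haveI : (kernel φ).IsQuasicoherent :=
    (QCart.isQuasicoherent_iff X _).2 ((isCart N).kernel (R := OEt X) φ (isCart (cokernel ι')))
  have hφ : ∀ x, ap φ E₀ x = 0 := fun x => by
    obtain ⟨y, hy⟩ := h ⟨x, rfl⟩
    show ap (cokernel.π ι') E₀ (ap ι E₀ x) = 0
    rw [← hy]
    exact QCart.app_g_f (R := OEt X) (ShortComplex.mk ι' (cokernel.π ι') (cokernel.condition ι')) y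
  have hb : Function.Bijective (ap (kernel.ι φ) E₀) :=
    ⟨QCart.injective_app_of_mono (R := OEt X) _ E₀, fun x => by
      haveI : Mono (ShortComplex.mk (kernel.ι φ) φ (kernel.condition φ)).f := inferInstanceAs (Mono (kernel.ι φ))
      exact QCart.exists_app_eq_of_exact (R := OEt X) (ShortComplex.mk (kernel.ι φ) φ (kernel.condition φ))
        (ShortComplex.exact_kernel φ) x (hφ x)⟩
  haveI : IsIso (kernel.ι φ) := isIso_of_bijective_ap _ fun E =>
    bijective_ap_of_range hA _ hb E fun x _ => hcov x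
  have h0 : φ = 0 := by rw [← cancel_epi (kernel.ι φ), kernel.condition, comp_zero]
  exact ⟨Abelian.monoLift ι' ι h0, Abelian.monoLift_comp _ _ _⟩

variable [QuasiSeparatedSpace ↥S] (hqs : IsQuasiSeparatedSp X) (hX : IsLocNoethSp X)

/-- Being a submodule of finite presentation. -/
abbrev FP (M : ModEt X) : ObjectProperty (MonoOver M) := fun N => SheafOfModules.IsFinitePresentation N.obj.left

include hcov hqs hX in
theorem exists_obj_containing (s : Finset (Msec M E₀)) :
    ∃ N : ObjectProperty.FullSubcategory (FP M), ∀ x ∈ s, x ∈ LinearMap.range (ap N.obj.arrow E₀) := by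
  obtain ⟨N, ι, hm, hN, hs⟩ := exists_coherent_sub hqs hX M hcov s
  exact ⟨⟨MonoOver.mk ι, hN⟩, hs⟩

include hcov hqs hX in
theorem isFiltered_fp (hA : IsAlgSpace X) : IsFiltered (ObjectProperty.FullSubcategory (FP M)) := by
  classical
  haveI : Nonempty (ObjectProperty.FullSubcategory (FP M)) :=
    ⟨(exists_obj_containing hcov hqs hX ∅).choose⟩
  haveI : IsFilteredOrEmpty (ObjectProperty.FullSubcategory (FP M)) := by
    refine ⟨fun N₁ N₂ => ?_, fun N₁ N₂ f g => ⟨N₂, 𝟙 N₂, congrArg (· ≫ 𝟙 N₂) (ObjectProperty.hom_ext _ (Subsingleton.elim f.hom g.hom))⟩⟩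
    haveI : SheafOfModules.IsFinitePresentation (R := OEtRing X) N₁.obj.obj.left := N₁.property
    haveI : SheafOfModules.IsFinitePresentation (R := OEtRing X) N₂.obj.obj.left := N₂.property
    obtain ⟨s₁, hs₁⟩ := (finite_Msec N₁.obj.obj.left E₀).fg_top
    obtain ⟨s₂, hs₂⟩ := (finite_Msec N₂.obj.obj.left E₀).fg_top
    obtain ⟨N, hN⟩ := exists_obj_containing hcov hqs hX
      (s₁.image (ap N₁.obj.arrow E₀) ∪ s₂.image (ap N₂.obj.arrow E₀))
    haveI : SheafOfModules.IsFinitePresentation (R := OEtRing X) N.obj.obj.left := N.property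
    have le₁ : LinearMap.range (ap N₁.obj.arrow E₀) ≤ LinearMap.range (ap N.obj.arrow E₀) := by
      rw [LinearMap.range_eq_map, ← hs₁, Submodule.map_span, Submodule.span_le]
      rintro _ ⟨x, hx, rfl⟩
      exact hN _ (Finset.mem_union_left _ (Finset.mem_image_of_mem _ hx))
    have le₂ : LinearMap.range (ap N₂.obj.arrow E₀) ≤ LinearMap.range (ap N.obj.arrow E₀) := by
      rw [LinearMap.range_eq_map, ← hs₂, Submodule.map_span, Submodule.span_le]
      rintro _ ⟨x, hx, rfl⟩
      exact hN _ (Finset.mem_union_right _ (Finset.mem_image_of_mem _ hx))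
    obtain ⟨k₁, hk₁⟩ := exists_le_of_range hcov hA N₁.obj.arrow N.obj.arrow le₁
    obtain ⟨k₂, hk₂⟩ := exists_le_of_range hcov hA N₂.obj.arrow N.obj.arrow le₂
    exact ⟨N, ObjectProperty.homMk (MonoOver.homMk k₁ hk₁), ObjectProperty.homMk (MonoOver.homMk k₂ hk₂), trivial⟩
  exact {}

include hcov hqs hX in
/-- Every section over an affine object lies in a coherent submodule. -/
theorem exists_obj_lift (E : EtOver X) [hE : IsAffine E.obj.left.left] (m : Msec M E) :
    ∃ N : ObjectProperty.FullSubcategory (FP M), m ∈ LinearMap.range (ap N.obj.arrow E) := by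
  classical
  obtain ⟨c, hc⟩ := (QCart.etBasis X).cover (E := E) hE _ (sieve_to_cover_mem hcov E)
  have ha : ∀ i, ∃ a : c.Z i ⟶ E₀, True := fun i => by
    obtain ⟨-, l, -⟩ := (Sieve.mem_ofArrows_iff _ _ _).1 (hc i)
    exact ⟨l ≫ EtOver.prodSnd E E₀, trivial⟩
  choose a _ using ha
  choose t ht using fun i => (isCart M hE₀ (c.aff_Z i) (a i)).2
    (QCart.toSec (a i) (QCart.psh (R := OEt X) M) (rs M (c.m i) m))
  choose τ hτ using fun i => TensorProduct.exists_finset (t i)
  obtain ⟨N, hN⟩ := exists_obj_containing hcov hqs hX (Finset.univ.biUnion fun i => (τ i).image Prod.snd)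
  haveI : SheafOfModules.IsFinitePresentation (R := OEtRing X) N.obj.obj.left := N.property
  refine ⟨N, QCart.mem_range_of_cover c (ap N.obj.arrow E) m fun i => ?_⟩
  let P := QCart.psh (R := OEt X) M
  let ι : QCart.psh (R := OEt X) N.obj.obj.left ⟶ P := QCart.phom (R := OEt X) N.obj.arrow
  suffices h : QCart.toSec (c.m i) P (rs M (c.m i) m) ∈ LinearMap.range (QCart.appSec ι (c.m i)) by
    obtain ⟨y, hy⟩ := h
    obtain ⟨z, rfl⟩ := (isCart N.obj.obj.left hE (c.aff_Z i) (c.m i)).2 y
    refine ⟨z, (isCart M hE (c.aff_Z i) (c.m i)).1 ?_⟩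
    rw [QCart.bcMap_tmul, one_smul]
    exact (QCart.bcMap_natural ι (c.m i) z).symm.trans hy
  show rs M (c.m i) m ∈ LinearMap.range (ap N.obj.arrow (c.Z i))
  rw [show rs M (c.m i) m = (show Msec M (c.Z i) from QCart.bcMap (a i) P (t i)) from (ht i).symm, hτ i, map_sum]
  refine Submodule.sum_mem (LinearMap.range (ap N.obj.arrow (c.Z i))) fun b hb => ?_
  rw [QCart.bcMap_tmul]
  refine Submodule.smul_mem (LinearMap.range (ap N.obj.arrow (c.Z i))) (show A (c.Z i) from b.1) ?_
  obtain ⟨y, hy⟩ := hN b.2 (Finset.mem_biUnion.2 ⟨i, Finset.mem_univ i, Finset.mem_image.2 ⟨b, hb, rfl⟩⟩)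
  refine ⟨rs N.obj.obj.left (a i) y, ?_⟩
  rw [ap_rs, hy]
  rfl

section Desc

omit [M.IsQuasicoherent] hE₀ [QuasiSeparatedSpace ↥S] in
theorem apply_eq_of_le (s : Cocone ((ObjectProperty.ι (FP M) ⋙ MonoOver.forget M) ⋙ Over.forget M))
    {N N' N'' : ObjectProperty.FullSubcategory (FP M)} (f : N ⟶ N'') (g : N' ⟶ N'') {E : EtOver X}
    (x : Msec N.obj.obj.left E) (x' : Msec N'.obj.obj.left E) (h : ap N.obj.arrow E x = ap N'.obj.arrow E x') :
    ap (s.ι.app N) E x = ap (s.ι.app N') E x' := by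
  let j : N.obj.obj.left ⟶ N''.obj.obj.left := f.hom.hom.left
  let j' : N'.obj.obj.left ⟶ N''.obj.obj.left := g.hom.hom.left
  have w : j ≫ N''.obj.arrow = N.obj.arrow := Over.w f.hom.hom
  have w' : j' ≫ N''.obj.arrow = N'.obj.arrow := Over.w g.hom.hom
  have hmid : ap j E x = ap j' E x' := QCart.injective_app_of_mono (R := OEt X) N''.obj.arrow E (by
    rw [← w, ← w'] at h
    exact h)
  have hf : j ≫ s.ι.app N'' = s.ι.app N := s.w f
  have hg : j' ≫ s.ι.app N'' = s.ι.app N' := s.w g
  rw [← hf, ← hg]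
  exact congrArg (ap (s.ι.app N'') E) hmid

include hcov hqs hX in
/-- The coherent submodules have the module as colimit. -/
theorem nonempty_isColimit (hA : IsAlgSpace X) :
    Nonempty (IsColimit ((Over.forgetCocone M).whisker (ObjectProperty.ι (FP M) ⋙ MonoOver.forget M))) := by
  classical
  haveI := isFiltered_fp (M := M) hcov hqs hX hA
  have lift := fun (W : EtOver X) (hW : IsAffine W.obj.left.left) (m : Msec M W) =>
    haveI := hW; exists_obj_lift hcov hqs hX W m
  choose L x hx using lift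
  have huniq : ∀ (s : Cocone ((ObjectProperty.ι (FP M) ⋙ MonoOver.forget M) ⋙ Over.forget M)) {E : EtOver X}
      (N N' : ObjectProperty.FullSubcategory (FP M)) (a : Msec N.obj.obj.left E) (b : Msec N'.obj.obj.left E),
      ap N.obj.arrow E a = ap N'.obj.arrow E b → ap (s.ι.app N) E a = ap (s.ι.app N') E b :=
    fun s {E} N N' a b h => apply_eq_of_le s (IsFiltered.leftToMax N N') (IsFiltered.rightToMax N N') a b h
  have hglue : ∀ (s : Cocone ((ObjectProperty.ι (FP M) ⋙ MonoOver.forget M) ⋙ Over.forget M)) (E : EtOver X)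
      (m : Msec M E), ∃ t : Msec s.pt E, ∀ (W : EtOver X) (hW : IsAffine W.obj.left.left) (f : W ⟶ E),
        rs s.pt f t = ap (s.ι.app (L W hW (rs M f m))) W (x W hW (rs M f m)) := by
    intro s E m
    let I := Σ W : EtOver X, {f : W ⟶ E // IsAffine W.obj.left.left}
    have hS : Sieve.ofArrows (fun i : I => i.1) (fun i => i.2.1) ∈ etTop X E := by
      refine (etTop X).superset_covering ?_ ((QCart.etBasis X).dense E)
      rintro V g ⟨W, p, q, hW, rfl⟩
      exact (Sieve.mem_ofArrows_iff _ _ _).2 ⟨⟨W, q, hW⟩, p, rfl⟩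
    obtain ⟨t, ht⟩ := QCart.exists_glue_sheaf (R := OEt X) s.pt hS
      (fun i => ap (s.ι.app (L i.1 i.2.2 (rs M i.2.1 m))) i.1 (x i.1 i.2.2 (rs M i.2.1 m)))
      (fun V i i' a b e => by
        show rs s.pt a (ap _ i.1 _) = rs s.pt b (ap _ i'.1 _)
        rw [← ap_rs, ← ap_rs]
        refine huniq s _ _ _ _ ?_
        erw [ap_rs, ap_rs, hx, hx, rs_rs, rs_rs, e])
    exact ⟨t, fun W hW f => ht ⟨W, f, hW⟩⟩
  choose d hd using hglue
  have hext : ∀ (T : ModEt X) {E : EtOver X} (a b : Msec T E),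
      (∀ (W : EtOver X) (_ : IsAffine W.obj.left.left) (f : W ⟶ E), rs T f a = rs T f b) → a = b := fun T E a b h => by
    refine QCart.sres_ext_of_mem T ((QCart.etBasis X).dense E) a b fun V g hg => ?_
    obtain ⟨W, p, q, hW, rfl⟩ := hg
    exact (rs_rs T q p a).symm.trans ((congrArg (rs T p) (h W hW q)).trans (rs_rs T q p b))
  have hchar : ∀ (s : Cocone ((ObjectProperty.ι (FP M) ⋙ MonoOver.forget M) ⋙ Over.forget M)) (E : EtOver X)
      (N : ObjectProperty.FullSubcategory (FP M)) (a : Msec N.obj.obj.left E),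
      d s E (ap N.obj.arrow E a) = ap (s.ι.app N) E a := fun s E N a => hext _ _ _ fun W hW f => by
    refine (hd s E _ W hW f).trans (Eq.trans ?_ (ap_rs (s.ι.app N) f a))
    refine huniq s _ _ _ _ ?_
    exact (hx W hW _).trans (ap_rs N.obj.arrow f a).symm
  have hadd : ∀ s E m m', d s E (m + m') = d s E m + d s E m' := fun s E m m' => hext _ _ _ fun W hW f => by
    obtain ⟨N, f₁, f₂, -⟩ := IsFilteredOrEmpty.cocone_objs (L W hW (rs M f m)) (L W hW (rs M f m'))
    rw [map_add, hd s E (m + m') W hW f, hd s E m W hW f, hd s E m' W hW f]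
    let y := ap f₁.hom.hom.left W (x W hW (rs M f m)) + ap f₂.hom.hom.left W (x W hW (rs M f m'))
    have w₁ : f₁.hom.hom.left ≫ N.obj.arrow = (L W hW (rs M f m)).obj.arrow := Over.w f₁.hom.hom
    have w₂ : f₂.hom.hom.left ≫ N.obj.arrow = (L W hW (rs M f m')).obj.arrow := Over.w f₂.hom.hom
    have h₁ : f₁.hom.hom.left ≫ s.ι.app N = s.ι.app (L W hW (rs M f m)) := s.w f₁
    have h₂ : f₂.hom.hom.left ≫ s.ι.app N = s.ι.app (L W hW (rs M f m')) := s.w f₂
    rw [huniq s _ N _ y, ← h₁, ← h₂]
    · exact map_add (ap (s.ι.app N) W) _ _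
    · rw [hx, show ap N.obj.arrow W y = _ from map_add (ap N.obj.arrow W) _ _, map_add]
      refine congrArg₂ (· + ·) ?_ ?_
      · conv_lhs => rw [← hx W hW (rs M f m), ← w₁]
        rfl
      · conv_lhs => rw [← hx W hW (rs M f m'), ← w₂]
        rfl
  have hsmul : ∀ (s : Cocone ((ObjectProperty.ι (FP M) ⋙ MonoOver.forget M) ⋙ Over.forget M)) (E : EtOver X)
      (c : A E) (m : Msec M E), d s E (c • m) = c • d s E m := fun s E c m => hext _ _ _ fun W hW f => by
    have e1 : rs M f (c • m) = (((OEt X).obj.map f.op).hom c : A W) • rs M f m :=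
      QCart.sres_smul (QCart.psh (R := OEt X) M) f c m
    have e2 : rs s.pt f (c • d s E m) = (((OEt X).obj.map f.op).hom c : A W) • rs s.pt f (d s E m) :=
      QCart.sres_smul (QCart.psh (R := OEt X) s.pt) f c (d s E m)
    rw [e2, hd s E (c • m) W hW f, hd s E m W hW f]
    refine Eq.trans ?_ ((ap (s.ι.app (L W hW (rs M f m))) W).map_smul _ _)
    refine huniq s _ _ _ _ ?_
    refine (hx W hW _).trans (Eq.trans ?_ ((ap (L W hW (rs M f m)).obj.arrow W).map_smul _ _).symm)
    rw [e1]
    exact congrArg _ (hx W hW _).symm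
  let desc : ∀ s : Cocone ((ObjectProperty.ι (FP M) ⋙ MonoOver.forget M) ⋙ Over.forget M), M ⟶ s.pt := fun s =>
    { val :=
        { app := fun E => ModuleCat.ofHom (X := Msec M E.unop) (Y := Msec s.pt E.unop)
            { toFun := d s E.unop
              map_add' := hadd s E.unop
              map_smul' := hsmul s E.unop }
          naturality := fun {E E'} g => by
            refine ModuleCat.hom_ext (LinearMap.ext fun m => ?_)
            show d s E'.unop (rs M g.unop m) = rs s.pt g.unop (d s E.unop m)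
            refine hext _ _ _ fun W hW f => ?_
            rw [rs_rs, hd s E'.unop _ W hW f, hd s E.unop m W hW (f ≫ g.unop), rs_rs] } }
  refine ⟨{ desc := desc, fac := fun s N => ?_, uniq := fun s m hm => ?_ }⟩
  · refine SheafOfModules.Hom.ext (PresheafOfModules.hom_ext fun E => ModuleCat.hom_ext (LinearMap.ext fun a => ?_))
    exact hchar s E.unop N a
  · refine SheafOfModules.Hom.ext (PresheafOfModules.hom_ext fun E => ModuleCat.hom_ext (LinearMap.ext fun a => ?_))
    refine hext _ _ _ fun W hW f => ?_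
    show rs s.pt f (ap m E.unop a) = rs s.pt f (d s E.unop a)
    rw [← ap_rs, hd s E.unop a W hW f]
    refine (congrArg (ap m W) (hx W hW (rs M f a)).symm).trans ?_
    exact congrArg (fun k => ap k W (x W hW (rs M f a))) (hm (L W hW (rs M f a)))

end Desc

end Groth.Agent.AlgSpMor
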