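import Groth.Agent.QCart.Sub
import Groth.Agent.AlgSpMor.CoherentACC
import Groth.Agent.AlgSpDec.ArtinAffine

/-!
# Coherent submodules containing given sections
-/

universe u

set_option autoImplicit false
set_option linter.style.haveILetI false
set_option backward.isDefEq.respectTransparency false
set_option backward.isDefEq.respectTransparency.types false

open CategoryTheory CategoryTheory.Limits AlgebraicGeometry Opposite AlgSp TensorProduct
open Groth.Agent.AlgSpQC10

namespace Groth.Agent.AlgSpMor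

variable {S : Scheme.{u}} {X : Sp S} {E₀ : EtOver X}

/-- Objects admitting a map to a covering object form a covering sieve. -/
theorem sieve_to_cover_mem (hcov : ∀ x, x ∈ Set.range (Points.ofPt E₀.obj.hom)) (E : EtOver X) :
    Sieve.ofArrows (fun _ : PUnit.{u + 1} => EtOver.prodObj E E₀) (fun _ => EtOver.prodFst E E₀) ∈ etTop X E :=
  AlgSp.ofArrows_mem_etTop _ _ fun u => by
    obtain ⟨v, hv⟩ := hcov (Points.ofPt E.obj.hom u)
    obtain ⟨w, -, hw⟩ := AlgSpLib.exists_ofPt_of_eq (E₀.property.1.isPullback' E.obj.hom) hv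
    exact ⟨PUnit.unit, w, hw⟩

/-- Finite families of affine objects covering the product of two affine objects. -/
theorem exists_prod_cover [QuasiSeparatedSpace ↥S] (hqs : IsQuasiSeparatedSp X) (E E' : EtOver X)
    [IsAffine E.obj.left.left] [IsAffine E'.obj.left.left] :
    ∃ (n : ℕ) (Z : Fin n → EtOver X) (p : ∀ k, Z k ⟶ E) (q : ∀ k, Z k ⟶ E'),
      (∀ k, IsAffine (Z k).obj.left.left) ∧
      ∀ {W : EtOver X} (f : W ⟶ E) (g : W ⟶ E'), ∃ Sv ∈ etTop X W, ∀ {V : EtOver X} (h : V ⟶ W), Sv h →
        ∃ (k : Fin n) (l : V ⟶ Z k), l ≫ p k = h ≫ f ∧ l ≫ q k = h ≫ g := by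
  classical
  let P := EtOver.prodObj E E'
  haveI : QuasiCompact (E'.property.1.snd E.obj.hom).left :=
    AlgSpDec.quasiCompact_fibreProd hqs (E'.property.1.isPullback' E.obj.hom)
  haveI : CompactSpace ↥P.obj.left.left :=
    QuasiCompact.compactSpace_of_compactSpace (E'.property.1.snd E.obj.hom).left
  choose O hO hxO _hle using fun x : ↥P.obj.left.left =>
    exists_isAffineOpen_mem_and_subset (U := (⊤ : P.obj.left.left.Opens)) (x := x) trivial
  obtain ⟨t, ht⟩ := isCompact_univ.elim_finite_subcover (fun x => (O x : Set ↥P.obj.left.left))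
    (fun x => (O x).isOpen) fun x _ => Set.mem_iUnion.2 ⟨x, hxO x⟩
  let e := t.equivFin.symm
  let Z : Fin t.card → EtOver X := fun k => AlgSpDec.etOpen P (O (e k))
  let ι : ∀ k, Z k ⟶ P := fun k => AlgSpDec.etOpenι P (O (e k))
  refine ⟨t.card, Z, fun k => ι k ≫ EtOver.prodFst E E', fun k => ι k ≫ EtOver.prodSnd E E',
    fun k => hO (e k), fun {W} f g => ?_⟩
  let L : W ⟶ P := (EtOver.prodIsLimit E E').lift (BinaryFan.mk f g)
  have h1 : L ≫ EtOver.prodFst E E' = f := (EtOver.prodIsLimit E E').fac (BinaryFan.mk f g) ⟨WalkingPair.left⟩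
  have h2 : L ≫ EtOver.prodSnd E E' = g := (EtOver.prodIsLimit E E').fac (BinaryFan.mk f g) ⟨WalkingPair.right⟩
  refine ⟨_, (etTop X).pullback_stable L (AlgSp.ofArrows_mem_etTop Z ι fun x => ?_), fun {V} h hh => ?_⟩
  · obtain ⟨x₀, hx₀, hx⟩ := Set.mem_iUnion₂.1 (ht (Set.mem_univ x))
    refine ⟨e.symm ⟨x₀, hx₀⟩, ?_⟩
    rw [AlgSpDec.range_etOpenι, Equiv.apply_symm_apply]
    exact hx
  · obtain ⟨k, l, hl⟩ := (Sieve.mem_ofArrows_iff _ _ _).1 hh
    exact ⟨k, l, by rw [reassoc_of% hl.symm, h1], by rw [reassoc_of% hl.symm, h2]⟩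

variable (M : ModEt X) (N₁ : Submodule (A E₀) (Msec M E₀))

/-- The submodule of the sections over `W` generated by given sections over `E₀`, along `a : W ⟶ E₀`. -/
noncomputable def pushSub {W : EtOver X} (a : W ⟶ E₀) : Submodule (A W) (Msec M W) :=
  Submodule.span (A W) (rs M a '' N₁)

variable {M N₁}

theorem rs_mem_pushSub {W W' : EtOver X} (a : W ⟶ E₀) (g : W' ⟶ W) {m : Msec M W} (hm : m ∈ pushSub M N₁ a) :
    rs M g m ∈ pushSub M N₁ (g ≫ a) := by
  induction hm using Submodule.span_induction with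
  | mem x hx =>
    obtain ⟨y, hy, rfl⟩ := hx
    exact Submodule.subset_span ⟨y, hy, (rs_rs M a g y).symm⟩
  | zero => rw [map_zero]; exact zero_mem _
  | add x y _ _ hx hy => rw [map_add]; exact add_mem hx hy
  | smul c x _ hx =>
    rw [show rs M g (c • x) = ((OEt X).obj.map g.op).hom c • rs M g x from
      QCart.sres_smul (QCart.psh (R := OEt X) M) g c x]
    exact Submodule.smul_mem _ _ hx

theorem pushSub_id : pushSub M N₁ (𝟙 E₀) = N₁ := by
  refine le_antisymm (Submodule.span_le.2 ?_) fun x hx => Submodule.subset_span ⟨x, hx, QCart.sres_id _ x⟩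
  rintro _ ⟨y, hy, rfl⟩
  show rs M (𝟙 E₀) y ∈ N₁
  rw [show rs M (𝟙 E₀) y = y from QCart.sres_id _ y]
  exact hy

variable [M.IsQuasicoherent]

theorem bcMap_mem_pushSub_iff {W W' : EtOver X} [hW : IsAffine W.obj.left.left] [hW' : IsAffine W'.obj.left.left]
    (a : W ⟶ E₀) (g : W' ⟶ W) (z : QCart.Rg (OEt X).obj g ⊗[A W] Msec M W) :
    (show Msec M W' from QCart.bcMap g (QCart.psh (R := OEt X) M) z) ∈ pushSub M N₁ (g ≫ a) ↔
      z ∈ LinearMap.range ((pushSub M N₁ a).subtype.lTensor (QCart.Rg (OEt X).obj g)) := by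
  constructor
  · intro h
    suffices key : ∀ y ∈ pushSub M N₁ (g ≫ a), ∃ v, (show Msec M W' from QCart.bcMap g (QCart.psh (R := OEt X) M)
        ((pushSub M N₁ a).subtype.lTensor (QCart.Rg (OEt X).obj g) v)) = y by
      obtain ⟨v, hv⟩ := key _ h
      exact ⟨v, (isCart M hW hW' g).1 hv⟩
    intro y hy
    induction hy using Submodule.span_induction with
    | mem x hx =>
      obtain ⟨n, hn, rfl⟩ := hx
      refine ⟨1 ⊗ₜ ⟨rs M a n, Submodule.subset_span ⟨n, hn, rfl⟩⟩, ?_⟩
      rw [LinearMap.lTensor_tmul, QCart.bcMap_tmul, one_smul]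
      exact rs_rs M a g n
    | zero => exact ⟨0, by rw [map_zero, map_zero]⟩
    | add x y _ _ hx hy =>
      obtain ⟨v, rfl⟩ := hx
      obtain ⟨w, rfl⟩ := hy
      exact ⟨v + w, by rw [map_add, map_add]⟩
    | smul c x _ hx =>
      obtain ⟨v, rfl⟩ := hx
      refine ⟨(show QCart.Rg (OEt X).obj g from c) • v, ?_⟩
      have e : (pushSub M N₁ a).subtype.lTensor (QCart.Rg (OEt X).obj g)
          ((show QCart.Rg (OEt X).obj g from c) • v) = (show QCart.Rg (OEt X).obj g from c) •
            (pushSub M N₁ a).subtype.lTensor (QCart.Rg (OEt X).obj g) v :=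
        ((pushSub M N₁ a).subtype.baseChange (QCart.Rg (OEt X).obj g)).map_smul _ v
      rw [e, map_smul]
  · rintro ⟨v, rfl⟩
    induction v using TensorProduct.induction_on with
    | zero => rw [map_zero, map_zero]; exact zero_mem _
    | add x y hx hy => rw [map_add, map_add]; exact add_mem hx hy
    | tmul b x =>
      rw [LinearMap.lTensor_tmul, QCart.bcMap_tmul]
      exact Submodule.smul_mem _ (show A W' from b) (rs_mem_pushSub a g x.2)

/-- Membership in the generated submodules is local. -/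
theorem mem_pushSub_of_local {W : EtOver X} [hW : IsAffine W.obj.left.left] (a : W ⟶ E₀) (m : Msec M W)
    {Sv : Sieve W} (hS : Sv ∈ etTop X W)
    (h : ∀ {V : EtOver X} (_ : IsAffine V.obj.left.left) (g : V ⟶ W), Sv g → rs M g m ∈ pushSub M N₁ (g ≫ a)) :
    m ∈ pushSub M N₁ a := by
  obtain ⟨c, hc⟩ := (QCart.etBasis X).cover (E := W) hW Sv hS
  obtain ⟨x, hx⟩ := QCart.mem_range_of_cover c (pushSub M N₁ a).subtype m fun i => by
    haveI : IsAffine (c.Z i).obj.left.left := c.aff_Z i
    refine (bcMap_mem_pushSub_iff a (c.m i) _).1 ?_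
    rw [QCart.bcMap_tmul, one_smul]
    exact h (c.aff_Z i) (c.m i) (hc i)
  exact hx ▸ x.2

variable (M N₁) in
/-- The sections with all pullbacks along pairs of maps in the generated submodules. -/
noncomputable def gluedData : QCart.SubData (R := OEt X) M (QCart.etBasis X) where
  A E _ :=
    { carrier := {m : Msec M E | ∀ ⦃W : EtOver X⦄ (_ : IsAffine W.obj.left.left) (f : W ⟶ E) (a : W ⟶ E₀),
        rs M f m ∈ pushSub M N₁ a}
      add_mem' := fun hx hy W hW f a => by rw [map_add]; exact add_mem (hx hW f a) (hy hW f a)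
      zero_mem' := fun W hW f a => by rw [map_zero]; exact zero_mem _
      smul_mem' := fun c x hx W hW f a => by
        rw [show rs M f (c • x) = ((OEt X).obj.map f.op).hom c • rs M f x from
          QCart.sres_smul (QCart.psh (R := OEt X) M) f c x]
        exact Submodule.smul_mem _ _ (hx hW f a) }
  res_mem E E' hE hE' g x hx W hW f a := by
    show rs M f (rs M g x) ∈ _
    rw [rs_rs]
    exact hx hW (f ≫ g) a
  local_mem E hE c x hx W hW f a := by
    refine mem_pushSub_of_local a _ ((etTop X).pullback_stable f c.mem) fun {V} hV g hg => ?_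
    obtain ⟨i, l, hl⟩ := (Sieve.mem_ofArrows_iff _ _ _).1 hg
    have h := hx i hV l (g ≫ a)
    show rs M g (rs M f x) ∈ _
    rw [rs_rs, hl, ← rs_rs]
    exact h

theorem gluedData_mem_pushSub {x : Msec M E₀} [hE₀ : IsAffine E₀.obj.left.left]
    (hx : x ∈ (gluedData M N₁).A E₀ hE₀) : x ∈ N₁ := by
  have h := hx hE₀ (𝟙 E₀) (𝟙 E₀)
  rw [pushSub_id, show rs M (𝟙 E₀) x = x from QCart.sres_id _ x] at h
  exact h

theorem isCart_glued [QuasiSeparatedSpace ↥S] (hqs : IsQuasiSeparatedSp X) [hE₀ : IsAffine E₀.obj.left.left] :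
    (QCart.etBasis X).IsCart (QCart.psh (R := OEt X) (gluedData M N₁).shf) := by
  classical
  refine (gluedData M N₁).isCart (isCart M) fun E E' hE hE' g z hz => ?_
  haveI : IsAffine E.obj.left.left := hE
  haveI : IsAffine E'.obj.left.left := hE'
  obtain ⟨n, Z, p, q, hZ, hcov⟩ := exists_prod_cover hqs E E₀
  let O := (OEt X).obj
  let P := QCart.psh (R := OEt X) M
  let B := QCart.Rg O g
  let N : ∀ k, Submodule (A E) (QCart.Sec P (p k)) := fun k =>
    (show Submodule (QCart.Rg O (p k)) (QCart.Sec P (p k)) from pushSub M N₁ (q k)).restrictScalars (A E)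
  let Φ : Msec M E →ₗ[A E] ∀ k, QCart.Sec P (p k) ⧸ N k :=
    LinearMap.pi fun k => (N k).mkQ ∘ₗ QCart.res (p k) P
  have hker : LinearMap.ker Φ ≤ (gluedData M N₁).A E hE := fun x hx W hW f a => by
    obtain ⟨Sv, hSv, hl⟩ := hcov f a
    refine mem_pushSub_of_local a _ hSv fun {V} hV h hh => ?_
    obtain ⟨k, l, h1, h2⟩ := hl h hh
    have hk : rs M (p k) x ∈ pushSub M N₁ (q k) :=
      (Submodule.Quotient.mk_eq_zero (N k)).1 (congrFun (LinearMap.mem_ker.1 hx) k)
    show rs M h (rs M f x) ∈ _
    rw [rs_rs, ← h1, ← h2, ← rs_rs]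
    exact rs_mem_pushSub (q k) l hk
  haveI : Module.Flat (A E) B := QCart.algebraMap_flat X hE hE' g
  obtain ⟨v, hv⟩ := (Module.Flat.lTensor_exact B (LinearMap.exact_subtype_ker_map Φ) z).1 (by
    refine (TensorProduct.piRight (A E) (A E) B fun k => QCart.Sec P (p k) ⧸ N k).injective (funext fun k => ?_)
    rw [map_zero, Pi.zero_apply]
    have e : ∀ w : B ⊗[A E] Msec M E,
        TensorProduct.piRight (A E) (A E) B (fun k => QCart.Sec P (p k) ⧸ N k) (Φ.lTensor B w) k =
          (N k).mkQ.lTensor B ((QCart.res (p k) P).lTensor B w) := fun w => by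
      induction w using TensorProduct.induction_on with
      | zero => simp only [map_zero, Pi.zero_apply]
      | add w w' hw hw' => simp only [map_add, Pi.add_apply, hw, hw']
      | tmul b x =>
        rw [LinearMap.lTensor_tmul, TensorProduct.piRight_apply, TensorProduct.piRightHom_tmul]
        rfl
    rw [e]
    let y := (QCart.res (p k) P).lTensor B z
    suffices hy : y ∈ LinearMap.range ((N k).subtype.lTensor B) by
      obtain ⟨w, hw⟩ := hy
      show (N k).mkQ.lTensor B y = 0
      rw [← hw, ← LinearMap.comp_apply, ← LinearMap.lTensor_comp,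
        show (N k).mkQ.comp (N k).subtype = 0 from LinearMap.ext fun w => (Submodule.Quotient.mk_eq_zero _).2 w.2,
        LinearMap.lTensor_zero, LinearMap.zero_apply]
    let b := QCart.etBasis X
    let fs := b.fst hE (hZ k) hE' (p k) g
    let sn := b.snd hE (hZ k) hE' (p k) g
    have sq := b.isRingSq hE (hZ k) hE' (p k) g
    have hP : IsAffine (b.prod hE (hZ k) hE' (p k) g).obj.left.left := b.aff_prod hE (hZ k) hE' (p k) g
    haveI := hP
    haveI := hZ k
    letI : Algebra (QCart.Rg O (p k)) (QCart.Rg O fs) := (O.map fs.op).hom.toAlgebra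
    letI : Algebra B (QCart.Rg O fs) := RingHom.toAlgebra (S := QCart.Rg O fs) (O.map sn.op).hom
    letI : Algebra (A E) (QCart.Rg O fs) :=
      RingHom.toAlgebra (S := QCart.Rg O fs) ((O.map fs.op).hom.comp (O.map (p k).op).hom)
    haveI : IsScalarTower (A E) (QCart.Rg O (p k)) (QCart.Rg O fs) := IsScalarTower.of_algebraMap_eq fun _ => rfl
    haveI : IsScalarTower (A E) B (QCart.Rg O fs) := IsScalarTower.of_algebraMap_eq fun a => by
      show (O.map fs.op).hom ((O.map (p k).op).hom a) = (O.map sn.op).hom ((O.map g.op).hom a)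
      rw [← CommRingCat.comp_apply, ← CommRingCat.comp_apply, ← O.map_comp, ← O.map_comp, ← op_comp, ← op_comp,
        sq.w]
    haveI : Algebra.IsPushout (A E) B (QCart.Rg O (p k)) (QCart.Rg O fs) :=
      CommRingCat.isPushout_iff_isPushout.1 (show CategoryTheory.IsPushout
        (CommRingCat.ofHom (algebraMap (A E) B)) (CommRingCat.ofHom (algebraMap (A E) (QCart.Rg O (p k))))
        (CommRingCat.ofHom (algebraMap B (QCart.Rg O fs)))
        (CommRingCat.ofHom (algebraMap (QCart.Rg O (p k)) (QCart.Rg O fs))) from sq.pushout.flip)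
    let eq := Algebra.IsPushout.cancelBaseChange (A E) B (QCart.Rg O (p k)) (QCart.Rg O fs) (QCart.Sec P (p k))
    have hmix : (show Msec M _ from QCart.bcMap fs P (eq.symm y)) = rs M sn
        (show Msec M E' from QCart.bcMap g P z) := by
      show _ = QCart.sres P sn _
      clear hz
      simp only [y]
      induction z using TensorProduct.induction_on with
      | zero => simp only [map_zero]
      | add w w' hw hw' => simp only [map_add]; rw [hw, hw']
      | tmul c x =>
        rw [LinearMap.lTensor_tmul, Algebra.IsPushout.cancelBaseChange_symm_tmul]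
        erw [QCart.bcMap_tmul, QCart.bcMap_tmul]
        refine Eq.trans ?_ (QCart.sres_smul P sn (show O.obj (op E') from c) (QCart.sres P g x)).symm
        refine congrArg (fun t : Msec M (b.prod hE (hZ k) hE' (p k) g) => ((O.map sn.op).hom c : A _) • t) ?_
        exact (QCart.sres_sres P (p k) fs x).trans ((congrArg (fun f => QCart.sres P f x) sq.w).trans
          (QCart.sres_sres P g sn x).symm)
    have hmem : (show Msec M _ from QCart.bcMap fs P (eq.symm y)) ∈ pushSub M N₁ (fs ≫ q k) := by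
      rw [hmix]
      exact hz hP sn (fs ≫ q k)
    obtain ⟨w, hw⟩ := (bcMap_mem_pushSub_iff (q k) fs _).1 hmem
    have key : ∀ w : QCart.Rg O fs ⊗[QCart.Rg O (p k)] (show Submodule (QCart.Rg O (p k)) (QCart.Sec P (p k)) from pushSub M N₁ (q k)),
        eq ((show Submodule (QCart.Rg O (p k)) (QCart.Sec P (p k)) from pushSub M N₁ (q k)).subtype.lTensor _ w) ∈
          LinearMap.range ((N k).subtype.lTensor B) := fun w => by
      let eN := Algebra.IsPushout.cancelBaseChange (A E) B (QCart.Rg O (p k)) (QCart.Rg O fs)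
        (show Submodule (QCart.Rg O (p k)) (QCart.Sec P (p k)) from pushSub M N₁ (q k))
      have h : ∀ v, eq.symm ((N k).subtype.lTensor B v) =
          (show Submodule (QCart.Rg O (p k)) (QCart.Sec P (p k)) from pushSub M N₁ (q k)).subtype.lTensor
            (QCart.Rg O fs) (eN.symm v) := fun v => by
        induction v using TensorProduct.induction_on with
        | zero => simp only [map_zero]
        | add v v' hv hv' => simp only [map_add]; rw [hv, hv']
        | tmul c x =>
          rw [LinearMap.lTensor_tmul]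
          erw [Algebra.IsPushout.cancelBaseChange_symm_tmul]
      refine ⟨eN w, eq.symm.injective ?_⟩
      rw [LinearEquiv.symm_apply_apply]
      exact (h _).trans (congrArg _ (eN.symm_apply_apply w))
    rw [← eq.apply_symm_apply y]
    have h3 := key w
    erw [hw] at h3
    exact h3)
  exact ⟨(Submodule.inclusion hker).lTensor B v, by
    rw [← hv, ← LinearMap.comp_apply, ← LinearMap.lTensor_comp]; rfl⟩

/-- Finiteness of sections of a quasi-coherent module is read on a covering affine object. -/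
theorem finite_of_covering (N : ModEt X) [N.IsQuasicoherent] [hE₀ : IsAffine E₀.obj.left.left]
    (hcov : ∀ x, x ∈ Set.range (Points.ofPt E₀.obj.hom)) [Module.Finite (A E₀) (Msec N E₀)] (E : EtOver X)
    [hE : IsAffine E.obj.left.left] : Module.Finite (A E) (Msec N E) := by
  obtain ⟨c, hc⟩ := (QCart.etBasis X).cover (E := E) hE _ (sieve_to_cover_mem hcov E)
  refine finite_of_cover (isCart N) hE c fun i => ?_
  obtain ⟨-, l, -⟩ := (Sieve.mem_ofArrows_iff _ _ _).1 (hc i)
  let a := l ≫ EtOver.prodSnd E E₀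
  let P := QCart.psh (R := OEt X) N
  haveI : Module.Finite (A E₀) (P.obj (op E₀)) := ‹Module.Finite (A E₀) (Msec N E₀)›
  haveI : Module.Finite (QCart.Rg (OEt X).obj a) (QCart.Sec P a) :=
    Module.Finite.equiv (LinearEquiv.ofBijective (QCart.bcMap a P) (isCart N hE₀ (c.aff_Z i) a))
  exact ‹Module.Finite (QCart.Rg (OEt X).obj a) (QCart.Sec P a)›

/-- Finitely many sections lie in a coherent submodule. -/
theorem exists_coherent_sub [QuasiSeparatedSpace ↥S] (hqs : IsQuasiSeparatedSp X)
    (hX : IsLocNoethSp X) (M : ModEt X) [M.IsQuasicoherent] [hE₀ : IsAffine E₀.obj.left.left]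
    (hcov : ∀ x, x ∈ Set.range (Points.ofPt E₀.obj.hom)) (s : Finset (Msec M E₀)) :
    ∃ (N : ModEt X) (ι : N ⟶ M), Mono ι ∧ N.IsFinitePresentation ∧ ∀ x ∈ s, x ∈ LinearMap.range (ap ι E₀) := by
  classical
  obtain ⟨n, Z, p, q, hZ, hcov'⟩ := exists_prod_cover hqs E₀ E₀
  choose t ht using fun (i : Msec M E₀ × Fin n) => (isCart M hE₀ (hZ i.2) (q i.2)).2
    (QCart.toSec (q i.2) (QCart.psh (R := OEt X) M) (rs M (p i.2) i.1))
  choose τ hτ using fun i => TensorProduct.exists_finset (t i)
  let gens : Finset (Msec M E₀) := s ∪ (s ×ˢ (Finset.univ : Finset (Fin n))).biUnion fun i => (τ i).image Prod.snd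
  let N₁ : Submodule (A E₀) (Msec M E₀) := Submodule.span (A E₀) (gens : Set (Msec M E₀))
  let D := gluedData M N₁
  have hD : ∀ x ∈ s, x ∈ D.A E₀ hE₀ := fun x hx W hW f a => by
    obtain ⟨Sv, hSv, hl⟩ := hcov' f a
    refine mem_pushSub_of_local a _ hSv fun {V} hV h hh => ?_
    obtain ⟨k, l, h1, h2⟩ := hl h hh
    show rs M h (rs M f x) ∈ _
    rw [rs_rs, ← h1, ← h2, ← rs_rs]
    refine rs_mem_pushSub (q k) l ?_
    rw [show rs M (p k) x = (show Msec M (Z k) from QCart.bcMap (q k) (QCart.psh (R := OEt X) M) (t (x, k))) from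
      (ht (x, k)).symm, hτ (x, k), map_sum]
    refine Submodule.sum_mem (pushSub M N₁ (q k)) fun b hb => ?_
    rw [QCart.bcMap_tmul]
    refine Submodule.smul_mem (pushSub M N₁ (q k)) (show A (Z k) from b.1)
      (Submodule.subset_span ⟨b.2, Submodule.subset_span ?_, rfl⟩)
    exact Finset.mem_coe.2 (Finset.mem_union_right _ (Finset.mem_biUnion.2
      ⟨(x, k), Finset.mem_product.2 ⟨hx, Finset.mem_univ k⟩, Finset.mem_image.2 ⟨b, hb, rfl⟩⟩))
  haveI : SheafOfModules.IsQuasicoherent (R := OEtRing X) D.shf :=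
    (QCart.isQuasicoherent_iff X D.shf).2 (isCart_glued hqs)
  haveI : Module.Finite (A E₀) (Msec D.shf E₀) := by
    haveI := isNoetherianRing_A hX E₀
    haveI : Module.Finite (A E₀) N₁ := Module.Finite.iff_fg.2 (Submodule.fg_span gens.finite_toSet)
    haveI : IsNoetherian (A E₀) N₁ := isNoetherian_of_isNoetherianRing_of_finite _ _
    let j : Msec D.shf E₀ →ₗ[A E₀] N₁ := (ap D.ι E₀).codRestrict N₁ fun w => by
      refine gluedData_mem_pushSub (?_ : (ap D.ι E₀ w) ∈ D.A E₀ hE₀)
      exact (D.range_ι (E := E₀) hE₀).le ⟨w, rfl⟩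
    refine Module.Finite.of_injective j fun v w hvw => ?_
    exact QCart.injective_app_of_mono (R := OEt X) D.ι E₀ (congrArg Subtype.val hvw :)
  refine ⟨D.shf, D.ι, inferInstance, isFinitePresentation_of_finite hX _ fun E hE => ?_, fun x hx => ?_⟩
  · haveI := hE
    exact finite_of_covering D.shf hcov E
  · exact (D.range_ι (E := E₀) hE₀).ge (hD x hx)

end Groth.Agent.AlgSpMor
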