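import Groth.Agent.AlgSpLib.EtaleSmoothLocal
import Groth.Agent.AlgSpDec.MonoRep
import Groth.Agent.RelNorm.Glue

/-!
# A diagram of spaces is a colimit if etale spaces and affine maps descend along it
-/

set_option autoImplicit false
set_option linter.style.haveILetI false
set_option linter.unusedVariables false
set_option backward.isDefEq.respectTransparency false
set_option backward.isDefEq.respectTransparency.types false

universe w v u

open CategoryTheory CategoryTheory.Limits AlgebraicGeometry Opposite AlgSp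
open Groth.Agent.RelNorm (Covers hom_ext_of_covers exists_glue)

namespace Groth.Agent.AlgSpMor.ColimitEtale

open Groth.Agent.AlgSpLib

variable {S : Scheme.{u}} {B : Space S}

/-- A sheaf over the base as an object over the base. -/
abbrev mkB {F : Sp S} (hF : IsAlgSpace F) (π : F ⟶ B.obj) : Over B :=
  Over.mk (ObjectProperty.homMk π : (⟨F, hF⟩ : Space S) ⟶ B)

/-- A morphism of sheaves over the base as a morphism over the base. -/
abbrev mkBHom {X Y : Over B} (φ : X.left.obj ⟶ Y.left.obj) (w : φ ≫ Y.hom.hom = X.hom.hom) : X ⟶ Y :=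
  CategoryTheory.Over.homMk (ObjectProperty.homMk φ) (ObjectProperty.hom_ext _ w)

theorem bHom_ext {X Y : Over B} {f g : X ⟶ Y} (h : f.left.hom = g.left.hom) : f = g :=
  Over.OverMorphism.ext (ObjectProperty.hom_ext _ h)

theorem bHom_w {X Y : Over B} (f : X ⟶ Y) : f.left.hom ≫ Y.hom.hom = X.hom.hom :=
  congrArg (fun k => k.hom) (Over.w f)

theorem fst_id {U T : Sp S} (v : T ⟶ U) : pullback.fst (𝟙 U) v = pullback.snd (𝟙 U) v ≫ v := by
  rw [← pullback.condition, Category.comp_id]

theorem covers_affine {U : Sp S} (hU : IsAlgSpace U) :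
    Covers (fun (T : Over S) (v : (yon S).obj T ⟶ U) => IsAffine T.left ∧ RepWith @Etale v) :=
  ⟨fun _ _ h => h.2, fun x => by
    obtain ⟨T, v, t, h1, h2, h3⟩ := AlgSpDec.exists_affine_chart_at hU x
    exact ⟨T, v, ⟨h1, h2⟩, t, h3⟩⟩

variable {I : Type v} [Category.{w} I] {D : I ⥤ Over B}

section PB

variable {X G : Sp S} (hX : IsAlgSpace X) (hG : IsAlgSpace G) (q : X ⟶ G)
  (σ : ∀ i, (D.obj i).left.obj ⟶ G) (hσ : ∀ {i j : I} (φ : i ⟶ j), (D.map φ).left.hom ≫ σ j = σ i)

/-- The map of pullbacks induced by a transition map. -/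
noncomputable abbrev pbMap {i j : I} (φ : i ⟶ j) : pullback q (σ i) ⟶ pullback q (σ j) :=
  pullback.lift (pullback.fst q (σ i)) (pullback.snd q (σ i) ≫ (D.map φ).left.hom)
    (by rw [Category.assoc, hσ φ]; exact pullback.condition)

/-- The pullback of a diagram of spaces over the base. -/
noncomputable abbrev pbDiag : I ⥤ Over B where
  obj i := mkB (isAlgSpace_pullback hX (D.obj i).left.property hG q (σ i))
    (pullback.snd q (σ i) ≫ (D.obj i).hom.hom)
  map {i j} φ := mkBHom (pbMap q σ hσ φ) (by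
    show pbMap q σ hσ φ ≫ pullback.snd q (σ j) ≫ _ = pullback.snd q (σ i) ≫ _
    rw [pullback.lift_snd_assoc, Category.assoc, bHom_w])
  map_id i := bHom_ext (by
    show pbMap q σ hσ (𝟙 i) = 𝟙 _
    refine pullback.hom_ext (by simp) ?_
    rw [pullback.lift_snd, D.map_id]
    exact (Category.comp_id _).trans (Category.id_comp _).symm)
  map_comp {i j k} φ ψ := bHom_ext (by
    show pbMap q σ hσ (φ ≫ ψ) = pbMap q σ hσ φ ≫ pbMap q σ hσ ψ
    refine pullback.hom_ext (by simp) ?_
    rw [pullback.lift_snd, D.map_comp, Category.assoc, pullback.lift_snd, pullback.lift_snd_assoc, Category.assoc]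
    rfl)

/-- Its projection. -/
noncomputable abbrev pbProj : pbDiag hX hG q σ hσ ⟶ D where
  app i := mkBHom (X := (pbDiag hX hG q σ hσ).obj i) (pullback.snd q (σ i)) rfl
  naturality {i j} φ := bHom_ext (pullback.lift_snd _ _ _)

theorem pb_isPullback {i j : I} (φ : i ⟶ j) :
    IsPullback (pbMap q σ hσ φ) (pullback.snd q (σ i)) (pullback.snd q (σ j)) (D.map φ).left.hom := by
  refine IsPullback.of_right (h₁₂ := pullback.fst q (σ j)) ?_ (pullback.lift_snd _ _ _)
    (IsPullback.of_hasPullback q (σ j))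
  rw [pullback.lift_fst, hσ φ]
  exact IsPullback.of_hasPullback q (σ i)

end PB

variable {c : Cocone D}

/-- The coprojection of the cocone, as a map of sheaves. -/
abbrev inj (c : Cocone D) (i : I) : (D.obj i).left.obj ⟶ c.pt.left.obj := (c.ι.app i).left.hom

theorem inj_w (c : Cocone D) {i j : I} (φ : i ⟶ j) : (D.map φ).left.hom ≫ inj c j = inj c i :=
  congrArg (fun k => k.left.hom) (c.w φ)

theorem inj_π (c : Cocone D) (i : I) : inj c i ≫ c.pt.hom.hom = (D.obj i).hom.hom := bHom_w (c.ι.app i)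

/-- Maps of etale spaces over the vertex are determined by their base changes. -/
def UniqueDescHom (c : Cocone D) : Prop :=
  ∀ (U U' : Over B) (u : U ⟶ c.pt) (u' : U' ⟶ c.pt), AlgSp.IsEtaleMor u.left.hom → AlgSp.IsEtaleMor u'.left.hom →
      ∀ (DU DU' : I ⥤ Over B) (αU : DU ⟶ D) (αU' : DU' ⟶ D) (ιU : DU ⟶ (Functor.const I).obj U)
        (ιU' : DU' ⟶ (Functor.const I).obj U'),
        (∀ i, IsPullback (ιU.app i).left.hom (αU.app i).left.hom u.left.hom (c.ι.app i).left.hom) →
        (∀ i, IsPullback (ιU'.app i).left.hom (αU'.app i).left.hom u'.left.hom (c.ι.app i).left.hom) →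
        ∀ (β : DU ⟶ DU'), β ≫ αU' = αU →
          ∃! m : U ⟶ U', m ≫ u' = u ∧ ∀ i, ιU.app i ≫ m = β.app i ≫ ιU'.app i

/-- Maps from affine etale neighbourhoods to affines descend. -/
def AffineDesc (c : Cocone D) : Prop :=
  ∀ (B' Zs Us : Over S) (b : (AlgSp.yon S).obj B' ⟶ B.obj) (z : Zs ⟶ B') {XB : AlgSp.Space S}
      (x₁ : XB ⟶ c.pt.left) (x₂ : XB.obj ⟶ (AlgSp.yon S).obj B') (uu : (AlgSp.yon S).obj Us ⟶ XB.obj)
      (DU : I ⥤ AlgSp.Space S) (αU : DU ⟶ D ⋙ Over.forget B)
      (ιU : DU ⟶ (Functor.const I).obj ((AlgSp.ofScheme S).obj Us))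
      (φ : DU ⟶ (Functor.const I).obj ((AlgSp.ofScheme S).obj Zs)),
      IsAffine B'.left → IsAffine Zs.left → IsAffine Us.left → AlgSp.RepWith @Etale b →
      IsPullback x₁.hom x₂ c.pt.hom.hom b → AlgSp.RepWith @Etale uu →
      (∀ i, IsPullback (ιU.app i).hom (αU.app i).hom (uu ≫ x₁.hom) (c.ι.app i).left.hom) →
      (∀ i, (φ.app i).hom ≫ (AlgSp.yon S).map z = (ιU.app i).hom ≫ uu ≫ x₂) →
        ∃! fz : Us ⟶ Zs, (AlgSp.yon S).map fz ≫ (AlgSp.yon S).map z = uu ≫ x₂ ∧
          ∀ i, (ιU.app i).hom ≫ (AlgSp.yon S).map fz = (φ.app i).hom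

/-- The piece of a space over the vertex is sent to the piece of a space below it. -/
noncomputable abbrev res {U V : Sp S} (v : V ⟶ U) (u : U ⟶ c.pt.left.obj) (i : I) :
    pullback (v ≫ u) (inj c i) ⟶ pullback u (inj c i) :=
  pullback.lift (pullback.fst _ _ ≫ v) (pullback.snd _ _) (by rw [Category.assoc]; exact pullback.condition)

theorem res_nat {U V : Sp S} (v : V ⟶ U) (u : U ⟶ c.pt.left.obj) {i j : I} (φ : i ⟶ j) :
    pbMap (v ≫ u) (inj c) (inj_w c) φ ≫ res v u j = res v u i ≫ pbMap u (inj c) (inj_w c) φ := by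
  refine pullback.hom_ext ?_ ?_ <;> simp [res, pbMap]

theorem exists_unique_etale_map (h₁' : UniqueDescHom c) {U U' : Sp S} (hU : IsAlgSpace U) (hU' : IsAlgSpace U')
    (u : U ⟶ c.pt.left.obj) (u' : U' ⟶ c.pt.left.obj) (hu : IsEtaleMor u) (hu' : IsEtaleMor u')
    (ξ : ∀ i, pullback u (inj c i) ⟶ U') (hξ : ∀ i, ξ i ≫ u' = pullback.fst u (inj c i) ≫ u)
    (nat : ∀ {i j : I} (φ : i ⟶ j), pbMap u (inj c) (inj_w c) φ ≫ ξ j = ξ i) :
    ∃! m : U ⟶ U', m ≫ u' = u ∧ ∀ i, pullback.fst u (inj c i) ≫ m = ξ i := by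
  let DU := pbDiag hU c.pt.left.property u (inj c) (inj_w c)
  let DU' := pbDiag hU' c.pt.left.property u' (inj c) (inj_w c)
  let ιU : DU ⟶ (Functor.const I).obj (mkB hU (u ≫ c.pt.hom.hom)) :=
    { app := fun i => mkBHom (X := DU.obj i) (Y := mkB hU (u ≫ c.pt.hom.hom)) (pullback.fst u (inj c i)) (by
        show pullback.fst u (inj c i) ≫ u ≫ _ = _
        rw [pullback.condition_assoc, inj_π]; rfl)
      naturality := fun i j φ => bHom_ext ((pullback.lift_fst _ _ _).trans (Category.comp_id _).symm) }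
  let ιU' : DU' ⟶ (Functor.const I).obj (mkB hU' (u' ≫ c.pt.hom.hom)) :=
    { app := fun i => mkBHom (X := DU'.obj i) (Y := mkB hU' (u' ≫ c.pt.hom.hom)) (pullback.fst u' (inj c i)) (by
        show pullback.fst u' (inj c i) ≫ u' ≫ _ = _
        rw [pullback.condition_assoc, inj_π]; rfl)
      naturality := fun i j φ => bHom_ext ((pullback.lift_fst _ _ _).trans (Category.comp_id _).symm) }
  let β : DU ⟶ DU' :=
    { app := fun i => mkBHom (X := DU.obj i) (Y := DU'.obj i) (pullback.lift (ξ i) (pullback.snd u (inj c i))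
        ((hξ i).trans pullback.condition)) (pullback.lift_snd_assoc _ _ _ _)
      naturality := fun i j φ => bHom_ext (by
        show pbMap u (inj c) (inj_w c) φ ≫ pullback.lift (ξ j) _ _ =
          pullback.lift (ξ i) _ _ ≫ pbMap u' (inj c) (inj_w c) φ
        refine pullback.hom_ext ?_ ?_ <;> simp [nat φ]) }
  obtain ⟨m, ⟨hm, hmi⟩, huniq⟩ := h₁' (mkB hU (u ≫ c.pt.hom.hom)) (mkB hU' (u' ≫ c.pt.hom.hom))
    (mkBHom u rfl) (mkBHom u' rfl) hu hu' DU DU' (pbProj hU c.pt.left.property u (inj c) (inj_w c))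
    (pbProj hU' c.pt.left.property u' (inj c) (inj_w c)) ιU ιU'
    (fun i => IsPullback.of_hasPullback _ _) (fun i => IsPullback.of_hasPullback _ _) β
    (by ext i : 2; exact bHom_ext (pullback.lift_snd _ _ _))
  refine ⟨m.left.hom, ⟨congrArg (fun k => k.left.hom) hm, fun i => ?_⟩, fun m' ⟨hm', hmi'⟩ => ?_⟩
  · exact (congrArg (fun k => k.left.hom) (hmi i)).trans (pullback.lift_fst _ _ _)
  · let M : mkB hU (u ≫ c.pt.hom.hom) ⟶ mkB hU' (u' ≫ c.pt.hom.hom) := mkBHom m' (by
      show m' ≫ u' ≫ _ = u ≫ _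
      rw [reassoc_of% hm'])
    exact congrArg (fun k => k.left.hom) (huniq M ⟨bHom_ext hm', fun i =>
      bHom_ext ((hmi' i).trans (pullback.lift_fst _ _ _).symm)⟩)

theorem affine_desc (h₂ : AffineDesc c) {B' Zs Us : Over S} (hB' : IsAffine B'.left) (hZ : IsAffine Zs.left)
    (hUs : IsAffine Us.left) (b : (yon S).obj B' ⟶ B.obj) (hb : RepWith @Etale b) (z : Zs ⟶ B')
    (u : (yon S).obj Us ⟶ c.pt.left.obj) (hu : RepWith @Etale u)
    (x : (yon S).obj Us ⟶ (yon S).obj B') (hx : x ≫ b = u ≫ c.pt.hom.hom)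
    (φ : ∀ i, pullback u (inj c i) ⟶ (yon S).obj Zs)
    (nat : ∀ {i j : I} (f : i ⟶ j), pbMap u (inj c) (inj_w c) f ≫ φ j = φ i)
    (hφ : ∀ i, φ i ≫ (yon S).map z = pullback.fst u (inj c i) ≫ x) :
    ∃! fz : Us ⟶ Zs, (yon S).map fz ≫ (yon S).map z = x ∧
      ∀ i, pullback.fst u (inj c i) ≫ (yon S).map fz = φ i := by
  let XB : Space S := ⟨pullback c.pt.hom.hom b,
    isAlgSpace_pullback c.pt.left.property (IsAlgSpace.yon_obj B') B.property _ _⟩
  let uu : (yon S).obj Us ⟶ XB.obj := pullback.lift u x hx.symm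
  let x₁ : XB ⟶ c.pt.left := ObjectProperty.homMk (pullback.fst c.pt.hom.hom b)
  have huu : RepWith @Etale uu := repWith_etale_of_comp uu (pullback.fst c.pt.hom.hom b)
    (by rw [pullback.lift_fst]; exact hu) (repWith_fst _ hb)
  let DU := pbDiag (IsAlgSpace.yon_obj Us) c.pt.left.property u (inj c) (inj_w c) ⋙ Over.forget B
  let αU : DU ⟶ D ⋙ Over.forget B :=
    Functor.whiskerRight (pbProj (IsAlgSpace.yon_obj Us) c.pt.left.property u (inj c) (inj_w c)) (Over.forget B)
  let ιU : DU ⟶ (Functor.const I).obj ((ofScheme S).obj Us) :=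
    { app := fun i => ObjectProperty.homMk (pullback.fst u (inj c i))
      naturality := fun i j f => ObjectProperty.hom_ext _ ((pullback.lift_fst _ _ _).trans (Category.comp_id _).symm) }
  let Φ : DU ⟶ (Functor.const I).obj ((ofScheme S).obj Zs) :=
    { app := fun i => ObjectProperty.homMk (φ i)
      naturality := fun i j f => ObjectProperty.hom_ext _ ((nat f).trans (Category.comp_id _).symm) }
  have hsnd : uu ≫ pullback.snd c.pt.hom.hom b = x := pullback.lift_snd _ _ _
  have key := h₂ B' Zs Us b z x₁ (pullback.snd c.pt.hom.hom b) uu DU αU ιU Φ hB' hZ hUs hb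
    (IsPullback.of_hasPullback _ _) huu
    (fun i => by
      show IsPullback (pullback.fst u (inj c i)) (pullback.snd u (inj c i)) (uu ≫ pullback.fst c.pt.hom.hom b) _
      rw [pullback.lift_fst]
      exact IsPullback.of_hasPullback _ _)
    (fun i => by
      show φ i ≫ _ = pullback.fst u (inj c i) ≫ uu ≫ pullback.snd c.pt.hom.hom b
      rw [hsnd, hφ i])
  rw [hsnd] at key
  exact key

section Chart

variable (h₁' : UniqueDescHom c) (h₂ : AffineDesc c) {B' Zs : Over S} (hB' : IsAffine B'.left)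
  (hZ : IsAffine Zs.left) {b : (yon S).obj B' ⟶ B.obj} (hb : RepWith @Etale b) (z : Zs ⟶ B')
  {U : Sp S} (hU : IsAlgSpace U) {u : U ⟶ c.pt.left.obj} (hu : IsEtaleMor u)

include h₁' h₂ hB' hZ hb hU hu in
/-- Maps into a chart are determined on the pieces. -/
theorem chart_hom_ext {r r' : U ⟶ (yon S).obj Zs} (hr : r ≫ (yon S).map z ≫ b = u ≫ c.pt.hom.hom)
    (hr' : r' ≫ (yon S).map z ≫ b = u ≫ c.pt.hom.hom)
    (h : ∀ i, pullback.fst u (inj c i) ≫ r = pullback.fst u (inj c i) ≫ r') : r = r' := by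
  have hxeq : r ≫ (yon S).map z = r' ≫ (yon S).map z := by
    let m := pullback.lift (f := c.pt.hom.hom) (g := b) u (r ≫ (yon S).map z) (by rw [Category.assoc]; exact hr.symm)
    let m' := pullback.lift (f := c.pt.hom.hom) (g := b) u (r' ≫ (yon S).map z) (by rw [Category.assoc]; exact hr'.symm)
    have key := exists_unique_etale_map h₁' hU
      (isAlgSpace_pullback c.pt.left.property (IsAlgSpace.yon_obj B') B.property c.pt.hom.hom b) u
      (pullback.fst c.pt.hom.hom b) hu (isEtaleMor_of_repWith (repWith_fst _ hb))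
      (fun i => pullback.fst u (inj c i) ≫ m) (fun i => by rw [Category.assoc, pullback.lift_fst])
      (fun f => by rw [pullback.lift_fst_assoc])
    have : m = m' := key.unique ⟨pullback.lift_fst _ _ _, fun i => rfl⟩ ⟨pullback.lift_fst _ _ _, fun i => by
      refine pullback.hom_ext ?_ ?_
      · simp [m, m']
      · simp [m, m', reassoc_of% (h i)]⟩
    simpa [m, m'] using congrArg (· ≫ pullback.snd c.pt.hom.hom b) this
  refine hom_ext_of_covers (covers_affine hU) (𝟙 U) fun V v ⟨hV, hv⟩ => ?_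
  have hvv : v ≫ r = v ≫ r' := by
    obtain ⟨g, hg⟩ := (yon S).map_surjective (v ≫ r)
    obtain ⟨g', hg'⟩ := (yon S).map_surjective (v ≫ r')
    have key := affine_desc h₂ hB' hZ hV b hb z (v ≫ u) (hu v hv) (v ≫ r ≫ (yon S).map z)
      (by simp only [Category.assoc]; rw [hr])
      (fun i => pullback.fst (v ≫ u) (inj c i) ≫ v ≫ r)
      (fun f => by rw [pullback.lift_fst_assoc]) (fun i => by simp only [Category.assoc])
    have h1 : (yon S).map g ≫ (yon S).map z = v ≫ r ≫ (yon S).map z := by rw [hg, Category.assoc]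
    have h2 : (yon S).map g' ≫ (yon S).map z = v ≫ r ≫ (yon S).map z := by rw [hg', Category.assoc, hxeq]
    have : g = g' := key.unique ⟨h1, fun i => by rw [hg]⟩ ⟨h2, fun i => by
      have := congrArg (res v u i ≫ ·) (h i)
      simp only [pullback.lift_fst_assoc, Category.assoc] at this
      rw [hg', this]⟩
    rw [← hg, ← hg', this]
  rw [fst_id v, Category.assoc, Category.assoc, hvv]

include h₁' h₂ hB' hZ hb hU hu in
/-- Compatible maps of the pieces into a chart descend. -/
theorem exists_chart_map (φ : ∀ i, pullback u (inj c i) ⟶ (yon S).obj Zs)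
    (nat : ∀ {i j : I} (f : i ⟶ j), pbMap u (inj c) (inj_w c) f ≫ φ j = φ i)
    (hφ : ∀ i, φ i ≫ (yon S).map z ≫ b = pullback.snd u (inj c i) ≫ (D.obj i).hom.hom) :
    ∃ R : U ⟶ (yon S).obj Zs, R ≫ (yon S).map z ≫ b = u ≫ c.pt.hom.hom ∧
      ∀ i, pullback.fst u (inj c i) ≫ R = φ i := by
  obtain ⟨m, ⟨hm, hmi⟩, -⟩ := exists_unique_etale_map h₁' hU
      (isAlgSpace_pullback c.pt.left.property (IsAlgSpace.yon_obj B') B.property c.pt.hom.hom b) u
      (pullback.fst c.pt.hom.hom b) hu (isEtaleMor_of_repWith (repWith_fst _ hb))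
      (fun i => pullback.lift (pullback.fst u (inj c i) ≫ u) (φ i ≫ (yon S).map z) (by
        rw [Category.assoc, Category.assoc, hφ i, pullback.condition_assoc, inj_π]))
      (fun i => pullback.lift_fst _ _ _)
      (fun f => by
        refine pullback.hom_ext ?_ ?_
        · simp
        · simp [reassoc_of% (nat f)])
  let x : U ⟶ (yon S).obj B' := m ≫ pullback.snd c.pt.hom.hom b
  have hx : x ≫ b = u ≫ c.pt.hom.hom := by
    rw [Category.assoc, ← pullback.condition, reassoc_of% hm]
  have hxi : ∀ i, pullback.fst u (inj c i) ≫ x = φ i ≫ (yon S).map z := fun i => by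
    rw [reassoc_of% (hmi i), pullback.lift_snd]
  have H : ∀ (V : Over S) (v : (yon S).obj V ⟶ U), IsAffine V.left ∧ RepWith @Etale v →
      ∃ f : (yon S).obj V ⟶ (yon S).obj Zs, f ≫ (yon S).map z = v ≫ x ∧
        ∀ i, pullback.fst (v ≫ u) (inj c i) ≫ f = res v u i ≫ φ i := fun V v hv => by
    obtain ⟨g, ⟨hg1, hg2⟩, -⟩ := affine_desc h₂ hB' hZ hv.1 b hb z (v ≫ u) (hu v hv.2) (v ≫ x)
      (by rw [Category.assoc, hx, Category.assoc]) (fun i => res v u i ≫ φ i)
      (fun f => by rw [← Category.assoc, res_nat, Category.assoc, nat f])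
      (fun i => by rw [Category.assoc, ← hxi i, pullback.lift_fst_assoc, Category.assoc])
    exact ⟨(yon S).map g, hg1, hg2⟩
  choose f hf hfi using H
  obtain ⟨R, hR⟩ := exists_glue (covers_affine hU) (𝟙 U)
    (fun V v hv => pullback.snd (𝟙 U) v ≫ f V v hv) fun V v hv V' v' hv' T y y' hy => by
      let l : (yon S).obj T ⟶ pullback v v' := pullback.lift (y ≫ pullback.snd (𝟙 U) v) (y' ≫ pullback.snd (𝟙 U) v')
        (by rw [Category.assoc, Category.assoc, ← fst_id, ← fst_id, hy])
      have hKalg := isAlgSpace_pullback (IsAlgSpace.yon_obj V) (IsAlgSpace.yon_obj V') hU v v'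
      have hKet : IsEtaleMor (pullback.fst v v' ≫ v ≫ u) :=
        isEtaleMor_comp hKalg (IsAlgSpace.yon_obj V) c.pt.left.property
          (isEtaleMor_of_repWith (repWith_fst _ hv'.2)) (isEtaleMor_of_repWith (hu v hv.2))
      have : pullback.fst v v' ≫ f V v hv = pullback.snd v v' ≫ f V' v' hv' :=
        chart_hom_ext h₁' h₂ hB' hZ hb z hKalg hKet
          (by simp only [Category.assoc]; rw [reassoc_of% (hf V v hv), hx])
          (by simp only [Category.assoc]; rw [reassoc_of% (hf V' v' hv'), hx, pullback.condition_assoc])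
          fun i => by
            let l₁ : pullback (pullback.fst v v' ≫ v ≫ u) (inj c i) ⟶ pullback (v ≫ u) (inj c i) :=
              res (pullback.fst v v') (v ≫ u) i
            let l₂ : pullback (pullback.fst v v' ≫ v ≫ u) (inj c i) ⟶ pullback (v' ≫ u) (inj c i) :=
              pullback.lift (pullback.fst _ _ ≫ pullback.snd v v') (pullback.snd _ _)
                (by rw [Category.assoc, ← pullback.condition_assoc]; exact pullback.condition)
            have e₁ := congrArg (l₁ ≫ ·) (hfi V v hv i)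
            have e₂ := congrArg (l₂ ≫ ·) (hfi V' v' hv' i)
            simp only [l₁, l₂, pullback.lift_fst_assoc, Category.assoc] at e₁ e₂
            refine e₁.trans (Eq.trans ?_ e₂.symm)
            refine (Category.assoc _ _ _).symm.trans (Eq.trans (congrArg (· ≫ φ i) ?_) (Category.assoc _ _ _))
            refine pullback.hom_ext ?_ ?_
            · simp [pullback.condition]
            · simp
      have := congrArg (l ≫ ·) this
      simpa [l] using this
  have hvR : ∀ V v (hv : IsAffine V.left ∧ RepWith @Etale v), v ≫ R = f V v hv := fun V v hv => by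
    have := congrArg (pullback.lift (f := 𝟙 U) (g := v) v (𝟙 _) (by simp) ≫ ·) (hR V v hv)
    simp only [pullback.lift_fst_assoc, pullback.lift_snd_assoc] at this
    exact this.trans (Category.id_comp _)
  refine ⟨R, ?_, fun i => ?_⟩
  · have hRx : R ≫ (yon S).map z = x := hom_ext_of_covers (covers_affine hU) (𝟙 U) fun V v hv => by
      rw [fst_id v, Category.assoc, Category.assoc, reassoc_of% (hvR V v hv), hf V v hv]
    rw [reassoc_of% hRx, hx]
  · refine hom_ext_of_covers (covers_affine hU) (pullback.fst u (inj c i)) fun V v hv => ?_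
    let l : pullback (pullback.fst u (inj c i)) v ⟶ pullback (v ≫ u) (inj c i) :=
      pullback.lift (pullback.snd _ _) (pullback.fst _ _ ≫ pullback.snd _ _)
        (by rw [← pullback.condition_assoc, Category.assoc, pullback.condition])
    have e := congrArg (l ≫ ·) (hfi V v hv i)
    simp only [l, pullback.lift_fst_assoc] at e
    rw [pullback.condition_assoc, hvR V v hv, e, ← Category.assoc]
    congr 1
    refine pullback.hom_ext ?_ ?_
    · simp [pullback.condition]
    · simp

end Chart

/-- Charts of a space over the base by affine schemes over affine charts of the base. -/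
def BaseChart {T : Sp S} (πT : T ⟶ B.obj) (Z : Over S) (p : (yon S).obj Z ⟶ T) : Prop :=
  RepWith @Etale p ∧ IsAffine Z.left ∧ ∃ (B' : Over S) (b : (yon S).obj B' ⟶ B.obj) (z : Z ⟶ B'),
    IsAffine B'.left ∧ RepWith @Etale b ∧ p ≫ πT = (yon S).map z ≫ b

theorem covers_baseChart {T : Sp S} (hT : IsAlgSpace T) (πT : T ⟶ B.obj) : Covers (BaseChart πT) := by
  refine ⟨fun _ _ h => h.1, fun x => ?_⟩
  obtain ⟨B', b, t, hB', hb, hbt⟩ := AlgSpDec.exists_affine_chart_at B.property (Points.map πT x)
  rw [Points.ofPt_eq_map_ofScheme] at hbt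
  obtain ⟨y, hy, -⟩ := exists_point_of_isPullback (IsPullback.of_hasPullback πT b) hbt.symm
  obtain ⟨Z, a, v, hZ, ha, hav⟩ := AlgSpDec.exists_affine_chart_at
    (isAlgSpace_pullback hT (IsAlgSpace.yon_obj B') B.property πT b) y
  obtain ⟨z, hz⟩ := (yon S).map_surjective (a ≫ pullback.snd πT b)
  refine ⟨Z, a ≫ pullback.fst πT b, ⟨repWith_comp ha (repWith_fst _ hb), hZ, B', b, z, hB', hb, ?_⟩, v, ?_⟩
  · rw [hz, Category.assoc, Category.assoc, pullback.condition]
  · rw [← Points.map_ofPt, hav, hy]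

section Main

variable (h₁' : UniqueDescHom c) (h₂ : AffineDesc c)

include h₁' h₂ in
/-- Maps out of an etale space over the vertex are determined on the pieces. -/
theorem etale_hom_ext {U : Sp S} (hU : IsAlgSpace U) {u : U ⟶ c.pt.left.obj} (hu : IsEtaleMor u)
    {T : Sp S} (hT : IsAlgSpace T) (πT : T ⟶ B.obj) {g g' : U ⟶ T} (hg : g ≫ πT = u ≫ c.pt.hom.hom)
    (hg' : g' ≫ πT = u ≫ c.pt.hom.hom)
    (h : ∀ i, pullback.fst u (inj c i) ≫ g = pullback.fst u (inj c i) ≫ g') : g = g' := by
  refine hom_ext_of_covers (covers_baseChart hT πT) g ?_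
  rintro Z p ⟨hp, hZ, B', b, z, hB', hb, hpz⟩
  have hE := isAlgSpace_pullback hU (IsAlgSpace.yon_obj Z) hT g p
  have hE' := isAlgSpace_pullback hU (IsAlgSpace.yon_obj Z) hT g' p
  have he : IsEtaleMor (pullback.fst g p ≫ u) :=
    isEtaleMor_comp hE hU c.pt.left.property (isEtaleMor_of_repWith (repWith_fst _ hp)) hu
  have he' : IsEtaleMor (pullback.fst g' p ≫ u) :=
    isEtaleMor_comp hE' hU c.pt.left.property (isEtaleMor_of_repWith (repWith_fst _ hp)) hu
  let ξ : ∀ i, pullback (pullback.fst g p ≫ u) (inj c i) ⟶ pullback g' p := fun i =>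
    pullback.lift (pullback.fst _ _ ≫ pullback.fst g p) (pullback.fst _ _ ≫ pullback.snd g p) (by
      have := congrArg (res (pullback.fst g p) u i ≫ ·) (h i)
      simp only [pullback.lift_fst_assoc, Category.assoc] at this
      rw [Category.assoc, ← this, Category.assoc, pullback.condition])
  have hξ₁ : ∀ i, ξ i ≫ pullback.fst g' p = pullback.fst _ _ ≫ pullback.fst g p := fun i => pullback.lift_fst _ _ _
  have hξ₂ : ∀ i, ξ i ≫ pullback.snd g' p = pullback.fst _ _ ≫ pullback.snd g p := fun i => pullback.lift_snd _ _ _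
  obtain ⟨m, ⟨hm, hmi⟩, -⟩ := exists_unique_etale_map h₁' hE hE' (pullback.fst g p ≫ u) (pullback.fst g' p ≫ u)
    he he' ξ (fun i => by rw [reassoc_of% (hξ₁ i)])
    (fun f => by refine pullback.hom_ext ?_ ?_ <;> simp [ξ])
  have hfst : m ≫ pullback.fst g' p = pullback.fst g p :=
    (exists_unique_etale_map h₁' hE hU (pullback.fst g p ≫ u) u he hu
      (fun i => pullback.fst _ _ ≫ pullback.fst g p) (fun i => Category.assoc _ _ _)
      (fun f => pullback.lift_fst_assoc _ _ _ _)).unique
      ⟨(Category.assoc _ _ _).trans hm, fun i => by rw [reassoc_of% (hmi i), hξ₁]⟩ ⟨rfl, fun i => rfl⟩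
  have hsnd : pullback.snd g p = m ≫ pullback.snd g' p :=
    chart_hom_ext h₁' h₂ hB' hZ hb z hE he
      (by rw [← hpz, ← pullback.condition_assoc, hg, Category.assoc])
      (by rw [Category.assoc, ← hpz, ← pullback.condition_assoc, hg', reassoc_of% hfst, Category.assoc])
      fun i => by rw [reassoc_of% (hmi i), hξ₂]
  rw [pullback.condition, hsnd, Category.assoc, ← pullback.condition, reassoc_of% hfst]

include h₁' h₂ in
/-- A cocone along which etale spaces and affine maps descend is a colimit. -/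
theorem nonempty_isColimit
    (h₁ : ∀ (D' : I ⥤ Over B) (α : D' ⟶ D),
      (∀ ⦃i j : I⦄ (g : i ⟶ j), IsPullback (D'.map g).left.hom (α.app i).left.hom (α.app j).left.hom (D.map g).left.hom) →
      (∀ i, AlgSp.IsEtaleMor (α.app i).left.hom) →
        ∃ (c' : Cocone D') (a : c'.pt ⟶ c.pt), AlgSp.IsEtaleMor a.left.hom ∧
          ∀ i, IsPullback (c'.ι.app i).left.hom (α.app i).left.hom a.left.hom (c.ι.app i).left.hom) :
    Nonempty (IsColimit c) := by
  have hC := c.pt.left.property
  suffices key : ∀ (T : Over B) (s : ∀ i, D.obj i ⟶ T), (∀ {i j} (φ : i ⟶ j), D.map φ ≫ s j = s i) →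
      ∃ m : c.pt ⟶ T, ∀ i, c.ι.app i ≫ m = s i by
    choose m hm using fun (s : Cocone D) => key s.pt (fun i => s.ι.app i) (fun φ => s.w φ)
    refine ⟨{ desc := m, fac := hm, uniq := fun s g hg => bHom_ext ?_ }⟩
    refine etale_hom_ext h₁' h₂ hC (isEtaleMor_of_isIso (𝟙 c.pt.left.obj)) s.pt.left.property s.pt.hom.hom
      ((bHom_w g).trans (Category.id_comp _).symm) ((bHom_w (m s)).trans (Category.id_comp _).symm) fun i => ?_
    have : pullback.fst (𝟙 c.pt.left.obj) (inj c i) = pullback.snd _ _ ≫ inj c i := fst_id _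
    rw [this, Category.assoc, Category.assoc]
    exact congrArg (pullback.snd (𝟙 c.pt.left.obj) (inj c i) ≫ ·)
      (congrArg (fun k => k.left.hom) ((hg i).trans (hm s i).symm))
  intro T s hs
  let σ : ∀ i, (D.obj i).left.obj ⟶ T.left.obj := fun i => (s i).left.hom
  have hσ : ∀ {i j : I} (φ : i ⟶ j), (D.map φ).left.hom ≫ σ j = σ i := fun φ =>
    congrArg (fun k => k.left.hom) (hs φ)
  have hσπ : ∀ i, σ i ≫ T.hom.hom = (D.obj i).hom.hom := fun i => bHom_w (s i)
  let CC : ∀ V : Over S, ((yon S).obj V ⟶ c.pt.left.obj) → Prop := fun V v => RepWith @Etale v ∧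
    ∃ q : (yon S).obj V ⟶ T.left.obj, q ≫ T.hom.hom = v ≫ c.pt.hom.hom ∧
      ∀ i, pullback.fst v (inj c i) ≫ q = pullback.snd v (inj c i) ≫ σ i
  let O : Set (Points c.pt.left.obj) := {x | ∃ V v, CC V v ∧ ∃ t, Points.ofPt v t = x}
  have hOopen : IsOpen O := by
    have : O = ⋃ (V : Over S) (v) (_ : CC V v), Set.range (Points.ofPt v) := by
      ext x; simp [O, Set.mem_range]
    rw [this]
    refine isOpen_iUnion fun V => isOpen_iUnion fun v => isOpen_iUnion fun hv => ?_
    exact (isOpenMap_ofPt hv.1).isOpen_range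
  have hpts : ∀ i (y : Points (D.obj i).left.obj), Points.map (inj c i) y ∈ O := fun i y => by
    obtain ⟨Z, p, ⟨hp, hZ, B', b, z, hB', hb, hpz⟩, t, ht⟩ :=
      (covers_baseChart T.left.property T.hom.hom).covers (Points.map (σ i) y)
    let D' := pbDiag (IsAlgSpace.yon_obj Z) T.left.property p σ hσ
    obtain ⟨c', a, hae, hcart⟩ := h₁ D' (pbProj (IsAlgSpace.yon_obj Z) T.left.property p σ hσ)
      (fun i j φ => pb_isPullback p σ hσ φ) fun i => isEtaleMor_of_isPullback (IsPullback.of_hasPullback p (σ i))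
        (IsAlgSpace.yon_obj Z) T.left.property (D.obj i).left.property (isEtaleMor_of_repWith hp)
    let e : ∀ i, pullback a.left.hom (inj c i) ⟶ pullback p (σ i) := fun i =>
      (hcart i).lift (pullback.fst _ _) (pullback.snd _ _) pullback.condition
    have he₁ : ∀ i, e i ≫ (c'.ι.app i).left.hom = pullback.fst _ _ := fun i => (hcart i).lift_fst _ _ _
    have he₂ : ∀ i, e i ≫ pullback.snd p (σ i) = pullback.snd _ _ := fun i => (hcart i).lift_snd _ _ _
    have henat : ∀ {i j : I} (f : i ⟶ j),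
        pbMap a.left.hom (inj c) (inj_w c) f ≫ e j = e i ≫ pbMap p σ hσ f := fun {i j} f => by
      refine (hcart j).hom_ext ?_ ?_
      · have hw : pbMap p σ hσ f ≫ (c'.ι.app j).left.hom = (c'.ι.app i).left.hom :=
          congrArg (fun k => k.left.hom) (c'.w f)
        rw [Category.assoc, Category.assoc, he₁, hw, he₁, pullback.lift_fst]
      · show (_ ≫ e j) ≫ pullback.snd p (σ j) = (e i ≫ pbMap p σ hσ f) ≫ pullback.snd p (σ j)
        rw [Category.assoc, Category.assoc, he₂, pullback.lift_snd, pullback.lift_snd, reassoc_of% (he₂ i)]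
    obtain ⟨R, hR, hRi⟩ := exists_chart_map h₁' h₂ hB' hZ hb z c'.pt.left.property hae
      (fun i => e i ≫ pullback.fst p (σ i))
      (fun f => by rw [← Category.assoc, henat, Category.assoc, pullback.lift_fst])
      (fun i => by rw [Category.assoc, ← hpz, pullback.condition_assoc, hσπ, reassoc_of% (he₂ i)])
    rw [Points.ofPt_eq_map_ofScheme] at ht
    obtain ⟨w, -, hw⟩ := exists_point_of_isPullback (IsPullback.of_hasPullback p (σ i)) ht
    obtain ⟨V, v, t', -, hv, hvt⟩ := AlgSpDec.exists_affine_chart_at c'.pt.left.property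
      (Points.map (c'.ι.app i).left.hom w)
    refine ⟨V, v ≫ a.left.hom, ⟨hae v hv, v ≫ R ≫ p, ?_, fun j => ?_⟩, t', ?_⟩
    · rw [Category.assoc, Category.assoc, hpz, hR, Category.assoc]
    · have := congrArg (res v a.left.hom j ≫ · ≫ p) (hRi j)
      simp only [pullback.lift_fst_assoc, Category.assoc] at this
      rw [this, pullback.condition, reassoc_of% (he₂ j), pullback.lift_snd_assoc]
    · rw [← Points.map_ofPt, hvt, ← Points.map_comp, (hcart i).w, Points.map_comp]
      exact congrArg _ hw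
  have hCC : Covers CC := by
    refine ⟨fun _ _ h => h.1, fun x => ?_⟩
    obtain ⟨V, v, t, hV, hv, rfl⟩ := AlgSpDec.exists_affine_chart_at hC x
    show Points.ofPt v t ∈ O
    let W : V.left.Opens := ⟨Points.ofPt v ⁻¹' O, hOopen.preimage (Points.continuous_ofPt v)⟩
    let j : Over.mk (W.ι ≫ V.hom) ⟶ V := CategoryTheory.Over.homMk W.ι rfl
    have hj : RepWith @Etale ((yon S).map j) := (repWith_yon_map_iff _ j).2 (inferInstanceAs (Etale W.ι))
    have hjmono : Mono j := (Over.forget S).mono_of_mono_map (inferInstanceAs (Mono W.ι))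
    have : Mono ((yon S).map j) := inferInstance
    have hlift : ∀ i, ∃ ξ : pullback v (inj c i) ⟶ (yon S).obj (Over.mk (W.ι ≫ V.hom)),
        ξ ≫ (yon S).map j = pullback.fst v (inj c i) := fun i => by
      have halg := isAlgSpace_pullback (IsAlgSpace.yon_obj V) (D.obj i).left.property hC v (inj c i)
      have H : ∀ (P : Over S) (w : (yon S).obj P ⟶ pullback v (inj c i)), IsAffine P.left ∧ RepWith @Etale w →
          ∃ l : (yon S).obj P ⟶ (yon S).obj (Over.mk (W.ι ≫ V.hom)),
            l ≫ (yon S).map j = w ≫ pullback.fst v (inj c i) := fun P w _ => by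
        obtain ⟨k, hk⟩ := (yon S).map_surjective (w ≫ pullback.fst v (inj c i))
        have hr : Set.range k.left ⊆ Set.range W.ι := by
          rintro _ ⟨p, rfl⟩
          rw [Scheme.Opens.range_ι]
          show Points.ofPt v (k.left p) ∈ O
          rw [← ofPt_comp, hk, Category.assoc, pullback.condition, ← Category.assoc, ← Points.map_ofPt]
          exact hpts i _
        let l : P ⟶ Over.mk (W.ι ≫ V.hom) := CategoryTheory.Over.homMk (IsOpenImmersion.lift W.ι k.left hr) (by
          show IsOpenImmersion.lift W.ι k.left hr ≫ W.ι ≫ V.hom = P.hom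
          rw [IsOpenImmersion.lift_fac_assoc]; exact Over.w k)
        refine ⟨(yon S).map l, ?_⟩
        rw [← hk, ← Functor.map_comp]
        exact congrArg _ (Over.OverMorphism.ext (IsOpenImmersion.lift_fac _ _ _))
      choose l hl using H
      obtain ⟨ξ, hξ⟩ := exists_glue (covers_affine halg) (𝟙 _) (fun P w hw => pullback.snd _ w ≫ l P w hw)
        fun P w hw P' w' hw' Q y y' hy => by
          rw [← cancel_mono ((yon S).map j)]
          simp only [Category.assoc, hl]
          simp only [← Category.assoc]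
          congr 1
          simp only [Category.assoc, ← fst_id, hy]
      refine ⟨ξ, hom_ext_of_covers (covers_affine halg) (𝟙 _) fun P w hw => ?_⟩
      rw [reassoc_of% (hξ P w hw), hl, fst_id w, Category.assoc]
    choose ξ hξ using hlift
    have hve : IsEtaleMor v := isEtaleMor_of_repWith hv
    have hje : IsEtaleMor ((yon S).map j ≫ v) := isEtaleMor_of_repWith (repWith_comp hj hv)
    obtain ⟨m, ⟨hm, hmi⟩, -⟩ := exists_unique_etale_map h₁' (IsAlgSpace.yon_obj V) (IsAlgSpace.yon_obj _)
      v ((yon S).map j ≫ v) hve hje ξ (fun i => by rw [reassoc_of% (hξ i)])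
      (fun f => by rw [← cancel_mono ((yon S).map j), Category.assoc, hξ, hξ, pullback.lift_fst])
    have hmj : m ≫ (yon S).map j = 𝟙 _ :=
      (exists_unique_etale_map h₁' (IsAlgSpace.yon_obj V) (IsAlgSpace.yon_obj V) v v hve hve
        (fun i => pullback.fst v (inj c i)) (fun i => rfl) (fun f => pullback.lift_fst _ _ _)).unique
        ⟨(Category.assoc _ _ _).trans hm, fun i => by rw [reassoc_of% (hmi i), hξ]⟩
        ⟨Category.id_comp _, fun i => Category.comp_id _⟩
    obtain ⟨m, rfl⟩ := (yon S).map_surjective m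
    rw [← (yon S).map_comp, ← (yon S).map_id] at hmj
    have hmj' : m.left ≫ W.ι = 𝟙 V.left := congrArg CommaMorphism.left ((yon S).map_injective hmj)
    have : t ∈ W := by
      have h1 : (m.left ≫ W.ι) t = t := by rw [hmj']; rfl
      rw [← h1, Scheme.Hom.comp_apply]
      exact (m.left t).2
    exact this
  choose q hqπ hqi using fun V v (h : CC V v) => h.2
  obtain ⟨μ, hμ⟩ := exists_glue hCC (𝟙 c.pt.left.obj) (fun V v hv => pullback.snd _ v ≫ q V v hv)
    fun V v hv V' v' hv' Q y y' hy => by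
      let l : (yon S).obj Q ⟶ pullback v v' := pullback.lift (y ≫ pullback.snd _ v) (y' ≫ pullback.snd _ v')
        (by rw [Category.assoc, Category.assoc, ← fst_id, ← fst_id, hy])
      have hKalg := isAlgSpace_pullback (IsAlgSpace.yon_obj V) (IsAlgSpace.yon_obj V') hC v v'
      have hKet : IsEtaleMor (pullback.fst v v' ≫ v) :=
        isEtaleMor_comp hKalg (IsAlgSpace.yon_obj V) hC (isEtaleMor_of_repWith (repWith_fst _ hv'.1))
          (isEtaleMor_of_repWith hv.1)
      have : pullback.fst v v' ≫ q V v hv = pullback.snd v v' ≫ q V' v' hv' :=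
        etale_hom_ext h₁' h₂ hKalg hKet T.left.property T.hom.hom
          (by rw [Category.assoc, hqπ, Category.assoc])
          (by rw [Category.assoc, hqπ, pullback.condition, Category.assoc])
          fun i => by
            let l₂ : pullback (pullback.fst v v' ≫ v) (inj c i) ⟶ pullback v' (inj c i) :=
              pullback.lift (pullback.fst _ _ ≫ pullback.snd v v') (pullback.snd _ _)
                (by rw [Category.assoc, ← pullback.condition]; exact pullback.condition)
            have e₁ := congrArg (res (pullback.fst v v') v i ≫ ·) (hqi V v hv i)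
            have e₂ := congrArg (l₂ ≫ ·) (hqi V' v' hv' i)
            simp only [l₂, pullback.lift_fst_assoc, pullback.lift_snd_assoc, Category.assoc] at e₁ e₂
            rw [e₁, e₂]
      have := congrArg (l ≫ ·) this
      simpa [l] using this
  have hvμ : ∀ V v (hv : CC V v), v ≫ μ = q V v hv := fun V v hv => by
    have := congrArg (pullback.lift (f := 𝟙 c.pt.left.obj) (g := v) v (𝟙 _) (by simp) ≫ ·) (hμ V v hv)
    simp only [pullback.lift_fst_assoc, pullback.lift_snd_assoc] at this
    exact this.trans (Category.id_comp _)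
  have hμπ : μ ≫ T.hom.hom = c.pt.hom.hom := hom_ext_of_covers hCC (𝟙 c.pt.left.obj) fun V v hv => by
    rw [fst_id v, Category.assoc, Category.assoc, reassoc_of% (hvμ V v hv), hqπ]
  refine ⟨mkBHom μ hμπ, fun i => bHom_ext ?_⟩
  show inj c i ≫ μ = σ i
  refine hom_ext_of_covers hCC (inj c i) fun V v hv => ?_
  let l : pullback (inj c i) v ⟶ pullback v (inj c i) :=
    pullback.lift (pullback.snd _ _) (pullback.fst _ _) pullback.condition.symm
  have e := congrArg (l ≫ ·) (hqi V v hv i)
  simp only [l, pullback.lift_fst_assoc, pullback.lift_snd_assoc] at e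
  rw [pullback.condition_assoc, hvμ V v hv, e]

end Main

end Groth.Agent.AlgSpMor.ColimitEtale
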