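import Groth.Agent.AlgSpMor.ColimitSpace
import Groth.Agent.AlgSpDec.LqfScheme
import Groth.Agent.AlgSpDec.LimDescentIso
import Groth.Agent.AlgSpLib.AffineDescProps
import Groth.Agent.AlgSpLib.EtaleSmoothLocal
import Groth.Agent.AlgSpPts.Sep

/-!
# Colimits among spaces separated over a base that remain colimits among all spaces
-/

set_option autoImplicit false
set_option linter.style.haveILetI false
set_option backward.isDefEq.respectTransparency false
set_option backward.isDefEq.respectTransparency.types false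

universe w v u

open CategoryTheory CategoryTheory.Limits AlgebraicGeometry Opposite AlgSp

namespace Groth.Agent.AlgSpMor

open Groth.Agent.AlgSpLib

variable {S : Scheme.{u}}

/-- Maps to an algebraic space from an absolutely separated scheme are separated. -/
theorem repWith_isSeparated_of_separated_source {V : Over S} (hV : IsSeparated (terminal.from V.left)) {F : Sp S}
    (hF : IsAlgSpace F) (p : (yon S).obj V ⟶ F) : RepWith @IsSeparated p := by
  refine ⟨hF.representable_from_yon p, fun T W g fst snd sq => ?_⟩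
  obtain ⟨fst', rfl⟩ := (yon S).map_surjective fst
  let m : W.left ⟶ pullback (terminal.from V.left) (terminal.from T.left) :=
    pullback.lift fst'.left snd.left (Subsingleton.elim _ _)
  have : Mono m := ⟨fun {Q} a b h => by
    have h₁ := congrArg (· ≫ pullback.fst _ _) h
    have h₂ := congrArg (· ≫ pullback.snd _ _) h
    simp only [m, Category.assoc, pullback.lift_fst, pullback.lift_snd] at h₁ h₂
    have hab : a ≫ W.hom = b ≫ W.hom := by
      rw [← Over.w snd, ← Category.assoc, h₂, Category.assoc]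
    let A : Over.mk (a ≫ W.hom) ⟶ W := CategoryTheory.Over.homMk a rfl
    let B : Over.mk (a ≫ W.hom) ⟶ W := CategoryTheory.Over.homMk b hab.symm
    have : A = B := (yon S).map_injective (sq.hom_ext
      (by rw [← Functor.map_comp, ← Functor.map_comp]; exact congrArg _ (Over.OverMorphism.ext h₁))
      (by rw [← Functor.map_comp, ← Functor.map_comp]; exact congrArg _ (Over.OverMorphism.ext h₂)))
    exact congrArg CommaMorphism.left this⟩
  have e : snd.left = m ≫ pullback.snd _ _ := (pullback.lift_snd _ _ _).symm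
  have : IsSeparated (pullback.snd (terminal.from V.left) (terminal.from T.left)) :=
    MorphismProperty.pullback_snd _ _ hV
  show IsSeparated snd.left
  rw [e]
  infer_instance

/-- Every algebraic space has an etale surjective chart by an absolutely separated scheme. -/
theorem exists_separated_scheme_atlas {F : Sp S} (hF : IsAlgSpace F) :
    ∃ (V : Over S) (p : (yon S).obj V ⟶ F), RepWith @Etale p ∧ RepWith @Surjective p ∧
      IsSeparated (terminal.from V.left) := by
  obtain ⟨U, p₀, h1, h2⟩ := hF.atlas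
  let 𝒰 := U.left.affineCover
  let c : (∐ 𝒰.X) ⟶ U.left := Sigma.desc 𝒰.f
  have hc : Etale c := IsZariskiLocalAtSource.sigmaDesc fun i => inferInstance
  have hcs : Surjective c := ⟨fun x => by
    obtain ⟨i, y, hy⟩ := 𝒰.exists_eq x
    exact ⟨Sigma.ι 𝒰.X i y, by rw [← Scheme.Hom.comp_apply, Sigma.ι_desc]; exact hy⟩⟩
  let V : Over S := Over.mk (c ≫ U.hom)
  let o : V ⟶ U := CategoryTheory.Over.homMk c rfl
  refine ⟨V, (yon S).map o ≫ p₀, repWith_comp ((repWith_yon_map_iff _ _).2 hc) h1,
    repWith_comp ((repWith_yon_map_iff _ _).2 hcs) h2, ?_⟩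
  let t : (∐ 𝒰.X) ⟶ ⊤_ Scheme.{u} := Sigma.desc fun i => terminal.from _
  have ht : IsSeparated t := AlgSpMS.isSeparated_sigmaDesc _ fun i => inferInstance
  rwa [Subsingleton.elim (terminal.from V.left) t]

variable {B : Space S} {P : ObjectProperty (Over B)} (hP : ∀ T : Over B, P T ↔ IsSeparatedMor T.hom.hom)

/-- A sheaf over the base as an object separated over the base. -/
abbrev mkSep {F : Sp S} (hF : IsAlgSpace F) (π : F ⟶ B.obj) (hs : IsSeparatedMor π) : P.FullSubcategory :=
  ⟨Over.mk (ObjectProperty.homMk π : (⟨F, hF⟩ : Space S) ⟶ B), (hP _).2 hs⟩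

/-- A morphism of sheaves over the base between objects separated over the base. -/
abbrev mkSepHom {X Y : P.FullSubcategory} (φ : X.obj.left.obj ⟶ Y.obj.left.obj)
    (w : φ ≫ Y.obj.hom.hom = X.obj.hom.hom) : X ⟶ Y :=
  ObjectProperty.homMk (CategoryTheory.Over.homMk (ObjectProperty.homMk φ)
    (ObjectProperty.hom_ext _ w))

omit hP in
theorem sepHom_ext {X Y : P.FullSubcategory} {f g : X ⟶ Y} (h : f.hom.left.hom = g.hom.left.hom) : f = g :=
  ObjectProperty.hom_ext _ (Over.OverMorphism.ext (ObjectProperty.hom_ext _ h))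

omit hP in
theorem sepHom_w {X Y : P.FullSubcategory} (f : X ⟶ Y) : f.hom.left.hom ≫ Y.obj.hom.hom = X.obj.hom.hom :=
  congrArg (fun k => k.hom) (Over.w f.hom)

variable {I : Type v} [Category.{w} I] {D : I ⥤ P.FullSubcategory} {c : Cocone D}

include hP in
/-- Maps out of a colimit among separated spaces into any space over the base are determined on the pieces. -/
theorem sep_hom_ext (hc : IsColimit c) {T : Sp S} (hT : IsAlgSpace T) (πT : T ⟶ B.obj)
    (g g' : c.pt.obj.left.obj ⟶ T) (hg : g ≫ πT = c.pt.obj.hom.hom) (hg' : g' ≫ πT = c.pt.obj.hom.hom)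
    (h : ∀ i, (c.ι.app i).hom.left.hom ≫ g = (c.ι.app i).hom.left.hom ≫ g') : g = g' := by
  let q : c.pt.obj.left.obj ⟶ pullback πT πT := pullback.lift g g' (hg.trans hg'.symm)
  let e := pullback.fst q (pullback.diagonal πT)
  have hEalg : IsAlgSpace (pullback q (pullback.diagonal πT)) :=
    isAlgSpace_pullback c.pt.obj.left.property hT (isAlgSpace_pullback hT hT B.property πT πT) _ _
  have hEsep : IsSeparatedMor (e ≫ c.pt.obj.hom.hom) :=
    AlgSpPts.isSeparatedMor_comp (AlgSpDec.isSeparatedMor_of_mono e) ((hP _).1 c.pt.property)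
  let E := mkSep hP hEalg _ hEsep
  let l : ∀ i, (D.obj i).obj.left.obj ⟶ pullback q (pullback.diagonal πT) := fun i =>
    pullback.lift (c.ι.app i).hom.left.hom ((c.ι.app i).hom.left.hom ≫ g) (by
      refine pullback.hom_ext ?_ ?_
      · simp [q]
      · simpa [q] using (h i).symm)
  have hlw : ∀ i, l i ≫ e ≫ c.pt.obj.hom.hom = (D.obj i).obj.hom.hom := fun i => by
    rw [← Category.assoc, pullback.lift_fst]; exact sepHom_w _
  let s : Cocone D := ⟨E, { app := fun i => mkSepHom (Y := E) (l i) (hlw i)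
                            naturality := fun i j φ => sepHom_ext ((cancel_mono e).1 (by
                              show ((D.map φ).hom.left.hom ≫ l j) ≫ e = (l i ≫ 𝟙 _) ≫ e
                              rw [Category.assoc, pullback.lift_fst, Category.comp_id, pullback.lift_fst]
                              exact congrArg (fun k => k.hom.left.hom) (c.w φ))) }⟩
  have hs : (hc.desc s).hom.left.hom ≫ e = 𝟙 _ := by
    have := hc.hom_ext (f := hc.desc s ≫ mkSepHom (X := E) (Y := c.pt) e rfl) (f' := 𝟙 _) fun i => by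
      rw [hc.fac_assoc, Category.comp_id]
      exact sepHom_ext (pullback.lift_fst _ _ _)
    exact congrArg (fun k => k.hom.left.hom) this
  have key : q = ((hc.desc s).hom.left.hom ≫ pullback.snd q (pullback.diagonal πT)) ≫ pullback.diagonal πT := by
    rw [Category.assoc, ← pullback.condition, ← Category.assoc, hs, Category.id_comp]
  have k₁ := congrArg (· ≫ pullback.fst πT πT) key
  have k₂ := congrArg (· ≫ pullback.snd πT πT) key
  simp only [q, Category.assoc, pullback.lift_fst, pullback.lift_snd, pullback.diagonal_fst, pullback.diagonal_snd,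
    Category.comp_id] at k₁ k₂
  exact k₁.trans k₂.symm

section Pull

variable {X G : Sp S} (hX : IsAlgSpace X) (hG : IsAlgSpace G) (q : X ⟶ G) (hq : IsSeparatedMor q)
  (σ : ∀ i, (D.obj i).obj.left.obj ⟶ G) (hσ : ∀ {i j : I} (φ : i ⟶ j), (D.map φ).hom.left.hom ≫ σ j = σ i)

/-- The map of pullbacks induced by a transition map. -/
noncomputable abbrev sepMap {i j : I} (φ : i ⟶ j) : pullback q (σ i) ⟶ pullback q (σ j) :=
  pullback.lift (pullback.fst q (σ i)) (pullback.snd q (σ i) ≫ (D.map φ).hom.left.hom)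
    (by rw [Category.assoc, hσ φ]; exact pullback.condition)

/-- The pullback of a diagram of spaces separated over the base along a separated morphism. -/
noncomputable abbrev sepDiag : I ⥤ P.FullSubcategory where
  obj i := mkSep hP (isAlgSpace_pullback hX (D.obj i).obj.left.property hG q (σ i))
    (pullback.snd q (σ i) ≫ (D.obj i).obj.hom.hom)
    (AlgSpPts.isSeparatedMor_comp (AlgSpPts.isSeparatedMor_of_isPullback (IsPullback.of_hasPullback _ _) hq)
      ((hP _).1 (D.obj i).property))
  map {i j} φ := mkSepHom (sepMap q σ hσ φ) (by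
    show sepMap q σ hσ φ ≫ pullback.snd q (σ j) ≫ _ = pullback.snd q (σ i) ≫ _
    rw [pullback.lift_snd_assoc, Category.assoc, sepHom_w])
  map_id i := sepHom_ext (by
    show sepMap q σ hσ (𝟙 i) = 𝟙 _
    refine pullback.hom_ext (by simp) ?_
    rw [pullback.lift_snd, D.map_id]
    exact (Category.comp_id _).trans (Category.id_comp _).symm)
  map_comp {i j k} φ ψ := sepHom_ext (by
    show sepMap q σ hσ (φ ≫ ψ) = sepMap q σ hσ φ ≫ sepMap q σ hσ ψ
    refine pullback.hom_ext (by simp) ?_
    rw [pullback.lift_snd, D.map_comp, Category.assoc, pullback.lift_snd, pullback.lift_snd_assoc, Category.assoc]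
    rfl)

/-- Its projection. -/
noncomputable abbrev sepProj : sepDiag hP hX hG q hq σ hσ ⟶ D where
  app i := mkSepHom (X := (sepDiag hP hX hG q hq σ hσ).obj i) (pullback.snd q (σ i)) rfl
  naturality {i j} φ := sepHom_ext (by
    show sepMap q σ hσ φ ≫ pullback.snd q (σ j) = pullback.snd q (σ i) ≫ (D.map φ).hom.left.hom
    exact pullback.lift_snd _ _ _)

theorem sep_isPullback {i j : I} (φ : i ⟶ j) :
    IsPullback (sepMap q σ hσ φ) (pullback.snd q (σ i)) (pullback.snd q (σ j)) (D.map φ).hom.left.hom := by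
  refine IsPullback.of_right (h₁₂ := pullback.fst q (σ j)) ?_ (pullback.lift_snd _ _ _)
    (IsPullback.of_hasPullback q (σ j))
  rw [pullback.lift_fst, hσ φ]
  exact IsPullback.of_hasPullback q (σ i)

/-- The cocone on the pulled back diagram given by a map of the source to a separated object. -/
noncomputable abbrev sepCocone (W : P.FullSubcategory) (k : X ⟶ W.obj.left.obj)
    (hk : ∀ i, pullback.fst q (σ i) ≫ k ≫ W.obj.hom.hom = pullback.snd q (σ i) ≫ (D.obj i).obj.hom.hom) :
    Cocone (sepDiag hP hX hG q hq σ hσ) where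
  pt := W
  ι :=
    { app := fun i => mkSepHom (X := (sepDiag hP hX hG q hq σ hσ).obj i) (pullback.fst q (σ i) ≫ k)
        ((Category.assoc _ _ _).trans (hk i))
      naturality := fun {i j} φ => sepHom_ext (by
        show sepMap q σ hσ φ ≫ pullback.fst q (σ j) ≫ k = (pullback.fst q (σ i) ≫ k) ≫ 𝟙 _
        rw [pullback.lift_fst_assoc, Category.comp_id]) }

end Pull

include hP in
/-- A colimit among spaces separated over the base with jointly surjective coprojections, stable under separated etale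
base change and effective for separated etale systems, is a colimit among all spaces over the base. -/
theorem nonempty_isColimit_of_separated (h₂ : IsColimit c)
    (h₃ : ∀ x : Points c.pt.obj.left.obj, ∃ (i : I) (y : Points (D.obj i).obj.left.obj),
      Points.map (c.ι.app i).hom.left.hom y = x)
    (h₄ : ∀ (D' : I ⥤ P.FullSubcategory) (α : D' ⟶ D) (c' : Cocone D') (a : c'.pt ⟶ c.pt),
      IsEtaleMor a.hom.left.hom → IsSeparatedMor a.hom.left.hom →
      (∀ i, IsPullback (c'.ι.app i).hom.left.hom (α.app i).hom.left.hom a.hom.left.hom (c.ι.app i).hom.left.hom) →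
        Nonempty (IsColimit c'))
    (h₅ : ∀ (D' : I ⥤ P.FullSubcategory) (α : D' ⟶ D),
      (∀ ⦃i j : I⦄ (g : i ⟶ j), IsPullback (D'.map g).hom.left.hom (α.app i).hom.left.hom (α.app j).hom.left.hom
        (D.map g).hom.left.hom) →
      (∀ i, IsEtaleMor (α.app i).hom.left.hom) → (∀ i, IsSeparatedMor (α.app i).hom.left.hom) →
        ∃ (c' : Cocone D') (a : c'.pt ⟶ c.pt), IsEtaleMor a.hom.left.hom ∧ IsSeparatedMor a.hom.left.hom ∧
          ∀ i, IsPullback (c'.ι.app i).hom.left.hom (α.app i).hom.left.hom a.hom.left.hom (c.ι.app i).hom.left.hom) :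
    Nonempty (IsColimit (P.ι.mapCocone c)) := by
  suffices key : ∀ (T : Over B) (s : ∀ i, (D.obj i).obj ⟶ T), (∀ {i j} (φ : i ⟶ j), (D.map φ).hom ≫ s j = s i) →
      ∃ m : c.pt.obj ⟶ T, ∀ i, (c.ι.app i).hom ≫ m = s i by
    choose m hm using fun (s : Cocone (D ⋙ P.ι)) => key s.pt (fun i => s.ι.app i) (fun φ => s.w φ)
    refine ⟨{ desc := m, fac := hm, uniq := fun s g hg => ?_ }⟩
    ext : 2
    exact sep_hom_ext hP h₂ s.pt.left.property s.pt.hom.hom _ _ (congrArg (fun k => k.hom) (Over.w g))
      (congrArg (fun k => k.hom) (Over.w (m s))) fun i => congrArg (fun k => k.left.hom) ((hg i).trans (hm s i).symm)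
  intro T s hs
  obtain ⟨V, p, hp, hps, hVsep⟩ := exists_separated_scheme_atlas T.left.property
  let σ : ∀ i, (D.obj i).obj.left.obj ⟶ T.left.obj := fun i => (s i).left.hom
  have hσ : ∀ {i j : I} (φ : i ⟶ j), (D.map φ).hom.left.hom ≫ σ j = σ i := fun φ =>
    congrArg (fun k => k.left.hom) (hs φ)
  have hσw : ∀ i, σ i ≫ T.hom.hom = (D.obj i).obj.hom.hom := fun i => congrArg (fun k => k.hom) (Over.w (s i))
  have halg : ∀ i, IsAlgSpace (pullback p (σ i)) := fun i =>
    isAlgSpace_pullback (IsAlgSpace.yon_obj V) (D.obj i).obj.left.property T.left.property _ _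
  have hpe : IsEtaleMor p := isEtaleMor_of_repWith hp
  have hpsep : IsSeparatedMor p :=
    isSeparatedMor_of_repWith (repWith_isSeparated_of_separated_source hVsep T.left.property p)
  have hπsep : ∀ i, IsSeparatedMor (pullback.snd p (σ i)) := fun i =>
    AlgSpPts.isSeparatedMor_of_isPullback (IsPullback.of_hasPullback p (σ i)) hpsep
  let D' := sepDiag hP (IsAlgSpace.yon_obj V) T.left.property p hpsep σ hσ
  let α : D' ⟶ D := sepProj hP (IsAlgSpace.yon_obj V) T.left.property p hpsep σ hσ
  obtain ⟨c', a, hae, hasep, hcart⟩ := h₅ D' α (fun i j φ => sep_isPullback p σ hσ φ)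
    (fun i => isEtaleMor_of_isPullback
    (IsPullback.of_hasPullback p (σ i)) (IsAlgSpace.yon_obj V) T.left.property (D.obj i).obj.left.property hpe) hπsep
  have hsurj : ∀ i, IsSurjectiveMor (pullback.snd p (σ i)) := fun i =>
    AlgSpDec.isSurjectiveMor_of_isPullback (IsPullback.of_hasPullback p (σ i)) (surjective_map_of_repWith hps)
  have has : IsSurjectiveMor a.hom.left.hom := fun x => by
    obtain ⟨i, y, rfl⟩ := h₃ x
    obtain ⟨z, hz⟩ := hsurj i y
    refine ⟨Points.map (c'.ι.app i).hom.left.hom z, ?_⟩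
    rw [← Points.map_comp, (hcart i).w, Points.map_comp]
    exact congrArg _ hz
  obtain ⟨hc'⟩ := h₄ D' α c' a hae hasep hcart
  let πV : (yon S).obj V ⟶ B.obj := p ≫ T.hom.hom
  have hVB : IsSeparatedMor πV :=
    isSeparatedMor_of_repWith (repWith_isSeparated_of_separated_source hVsep B.property πV)
  let VP := mkSep hP (IsAlgSpace.yon_obj V) πV hVB
  let sV : Cocone D' := sepCocone hP (IsAlgSpace.yon_obj V) T.left.property p hpsep σ hσ VP (𝟙 _) fun i => by
    show pullback.fst p (σ i) ≫ 𝟙 _ ≫ p ≫ T.hom.hom = _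
    rw [Category.id_comp, pullback.condition_assoc, hσw]
  let r : c'.pt.obj.left.obj ⟶ (yon S).obj V := (hc'.desc sV).hom.left.hom
  have hrw : r ≫ p ≫ T.hom.hom = c'.pt.obj.hom.hom := sepHom_w (hc'.desc sV)
  have hr : ∀ i, (c'.ι.app i).hom.left.hom ≫ r = pullback.fst p (σ i) := fun i =>
    (congrArg (fun k => k.hom.left.hom) (hc'.fac sV i)).trans (Category.comp_id _)
  -- the two maps on the self product agree
  let A := a.hom.left.hom
  let π₁ := pullback.fst A A
  let π₂ := pullback.snd A A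
  have hRalg : IsAlgSpace (pullback A A) :=
    isAlgSpace_pullback c'.pt.obj.left.property c'.pt.obj.left.property c.pt.obj.left.property _ _
  have hbsep : IsSeparatedMor (π₁ ≫ A) :=
    AlgSpPts.isSeparatedMor_comp (AlgSpPts.isSeparatedMor_of_isPullback (IsPullback.of_hasPullback A A).flip hasep) hasep
  have hbet : IsEtaleMor (π₁ ≫ A) := isEtaleMor_comp hRalg c'.pt.obj.left.property c.pt.obj.left.property
    (isEtaleMor_of_isPullback (IsPullback.of_hasPullback A A).flip c'.pt.obj.left.property c.pt.obj.left.property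
      c'.pt.obj.left.property hae) hae
  let R := mkSep hP hRalg ((π₁ ≫ A) ≫ c.pt.obj.hom.hom) (AlgSpPts.isSeparatedMor_comp hbsep ((hP _).1 c.pt.property))
  let b : R ⟶ c.pt := mkSepHom (X := R) (π₁ ≫ A) rfl
  let σR : ∀ i, (D.obj i).obj.left.obj ⟶ c.pt.obj.left.obj := fun i => (c.ι.app i).hom.left.hom
  have hσR : ∀ {i j : I} (φ : i ⟶ j), (D.map φ).hom.left.hom ≫ σR j = σR i := fun φ =>
    congrArg (fun k => k.hom.left.hom) (c.w φ)
  let D'' := sepDiag hP hRalg c.pt.obj.left.property (π₁ ≫ A) hbsep σR hσR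
  let β : D'' ⟶ D := sepProj hP hRalg c.pt.obj.left.property (π₁ ≫ A) hbsep σR hσR
  let c'' : Cocone D'' := sepCocone hP hRalg c.pt.obj.left.property (π₁ ≫ A) hbsep σR hσR R (𝟙 _) fun i => by
    show pullback.fst (π₁ ≫ A) (σR i) ≫ 𝟙 _ ≫ (π₁ ≫ A) ≫ _ = _
    rw [Category.id_comp, pullback.condition_assoc]
    exact congrArg (pullback.snd (π₁ ≫ A) (σR i) ≫ ·) (sepHom_w (c.ι.app i))
  obtain ⟨hR⟩ := h₄ D'' β c'' b hbet hbsep fun i => by
    show IsPullback (pullback.fst (π₁ ≫ A) (σR i) ≫ 𝟙 _) _ _ _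
    rw [Category.comp_id]
    exact IsPullback.of_hasPullback _ _
  have hside : ∀ (π : pullback A A ⟶ c'.pt.obj.left.obj), π ≫ A = π₁ ≫ A → ∀ i,
      pullback.fst (π₁ ≫ A) (c.ι.app i).hom.left.hom ≫ π ≫ r ≫ p =
        pullback.snd (π₁ ≫ A) (c.ι.app i).hom.left.hom ≫ σ i := fun π hπ i => by
    have hl : (pullback.fst (π₁ ≫ A) (c.ι.app i).hom.left.hom ≫ π) ≫ A =
        pullback.snd (π₁ ≫ A) (c.ι.app i).hom.left.hom ≫ (c.ι.app i).hom.left.hom :=
      (Category.assoc _ _ _).trans ((congrArg (pullback.fst _ _ ≫ ·) hπ).trans pullback.condition)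
    obtain ⟨l, e₁, e₂⟩ : ∃ l, l ≫ (c'.ι.app i).hom.left.hom = pullback.fst (π₁ ≫ A) (c.ι.app i).hom.left.hom ≫ π ∧
        l ≫ pullback.snd p (σ i) = pullback.snd (π₁ ≫ A) (c.ι.app i).hom.left.hom :=
      ⟨(hcart i).lift _ _ hl, (hcart i).lift_fst _ _ hl, (hcart i).lift_snd _ _ hl⟩
    calc _ = (l ≫ (c'.ι.app i).hom.left.hom) ≫ r ≫ p :=
          (Category.assoc _ _ _).symm.trans (congrArg (· ≫ r ≫ p) e₁.symm)
      _ = l ≫ pullback.fst p (σ i) ≫ p := by rw [Category.assoc, reassoc_of% (hr i)]
      _ = (l ≫ pullback.snd p (σ i)) ≫ σ i :=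
          (congrArg (l ≫ ·) pullback.condition).trans (Category.assoc _ _ _).symm
      _ = _ := congrArg (· ≫ σ i) e₂
  have hw₁ : π₁ ≫ r ≫ p ≫ T.hom.hom = (π₁ ≫ A) ≫ c.pt.obj.hom.hom := by
    rw [hrw, Category.assoc]; exact congrArg (π₁ ≫ ·) (sepHom_w a).symm
  have hw₂ : π₂ ≫ r ≫ p ≫ T.hom.hom = (π₁ ≫ A) ≫ c.pt.obj.hom.hom := by
    rw [hrw, pullback.condition, Category.assoc]; exact congrArg (π₂ ≫ ·) (sepHom_w a).symm
  have hsame : π₁ ≫ r ≫ p = π₂ ≫ r ≫ p :=
    sep_hom_ext hP hR T.left.property T.hom.hom _ _ (by rw [Category.assoc, Category.assoc]; exact hw₁)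
      (by rw [Category.assoc, Category.assoc]; exact hw₂) fun i => by
        show (pullback.fst (π₁ ≫ A) (σR i) ≫ 𝟙 _) ≫ π₁ ≫ r ≫ p = (pullback.fst (π₁ ≫ A) (σR i) ≫ 𝟙 _) ≫ π₂ ≫ r ≫ p
        rw [Category.comp_id]
        exact (hside π₁ rfl i).trans (hside π₂ pullback.condition.symm i).symm
  -- descend
  have : Epi A := AlgSpDec.epi_of_etale_surjective c'.pt.obj.left.property c.pt.obj.left.property A hae has
  have : EffectiveEpi A := by
    have := IsRegularEpiCategory.regularEpiOfEpi A
    infer_instance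
  have hdesc : ∀ {W : Sp S} (g₁ g₂ : W ⟶ c'.pt.obj.left.obj), g₁ ≫ A = g₂ ≫ A → g₁ ≫ r ≫ p = g₂ ≫ r ≫ p :=
    fun g₁ g₂ h => by
      rw [← pullback.lift_fst g₁ g₂ h, Category.assoc, hsame, ← Category.assoc, pullback.lift_snd]
  let μ := EffectiveEpi.desc A (r ≫ p) hdesc
  have hμ : μ ≫ T.hom.hom = c.pt.obj.hom.hom := by
    rw [← cancel_epi A, ← Category.assoc, EffectiveEpi.fac, Category.assoc, hrw]
    exact (sepHom_w a).symm
  refine ⟨CategoryTheory.Over.homMk (ObjectProperty.homMk μ) (ObjectProperty.hom_ext _ hμ), fun i => ?_⟩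
  ext : 2
  have : Epi (pullback.snd p (σ i)) := AlgSpDec.epi_of_etale_surjective (halg i) (D.obj i).obj.left.property _
    (isEtaleMor_of_isPullback (IsPullback.of_hasPullback p (σ i)) (IsAlgSpace.yon_obj V) T.left.property
      (D.obj i).obj.left.property hpe) (hsurj i)
  show (c.ι.app i).hom.left.hom ≫ μ = σ i
  rw [← cancel_epi (pullback.snd p (σ i)), ← Category.assoc]
  show ((α.app i).hom.left.hom ≫ (c.ι.app i).hom.left.hom) ≫ μ = _
  rw [← (hcart i).w, Category.assoc, EffectiveEpi.fac, reassoc_of% (hr i)]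
  exact pullback.condition

end Groth.Agent.AlgSpMor
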