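import Groth.Agent.AlgSpLib.Sheaf
import Groth.Agent.AlgSpLib.Rep
import Groth.Agent.AlgSpLib.Points
import Groth.Agent.AlgSpMS.SigmaSep
import Groth.Agent.AlgSpDM.FlatMono
import Mathlib.CategoryTheory.Limits.VanKampen

/-!
# Colimits of schemes that remain colimits among algebraic spaces
-/

set_option autoImplicit false
set_option linter.style.haveILetI false
set_option backward.isDefEq.respectTransparency false
set_option backward.isDefEq.respectTransparency.types false

universe w v u

open CategoryTheory CategoryTheory.Limits AlgebraicGeometry Opposite AlgSp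

namespace Groth.Agent.AlgSpMor

open Groth.Agent.AlgSpLib

variable {S : Scheme.{u}}

/-- An algebraic space has an etale surjective chart all whose base changes are separated. -/
theorem exists_separated_atlas {F : Sp S} (hF : IsAlgSpace F) :
    ∃ (V : Over S) (p : (yon S).obj V ⟶ F) (hp : RepWith @Etale p), RepWith @Surjective p ∧
      ∀ {T : Over S} (g : (yon S).obj T ⟶ F), IsSeparated (hp.rep.snd g).left := by
  obtain ⟨U, p₀, h1, h2⟩ := hF.atlas
  let 𝒰 := U.left.affineCover
  let c : (∐ 𝒰.X) ⟶ U.left := Sigma.desc 𝒰.f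
  have hc : Etale c := IsZariskiLocalAtSource.sigmaDesc fun i => inferInstance
  have hcs : Surjective c := ⟨fun x => by
    obtain ⟨i, y, hy⟩ := 𝒰.exists_eq x
    exact ⟨Sigma.ι 𝒰.X i y, by rw [← Scheme.Hom.comp_apply, Sigma.ι_desc]; exact hy⟩⟩
  let V : Over S := Over.mk (c ≫ U.hom)
  let o : V ⟶ U := CategoryTheory.Over.homMk c rfl
  have hp : RepWith @Etale ((yon S).map o ≫ p₀) := repWith_comp ((repWith_yon_map_iff _ _).2 hc) h1
  refine ⟨V, (yon S).map o ≫ p₀, hp, repWith_comp ((repWith_yon_map_iff _ _).2 hcs) h2, fun {T} g => ?_⟩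
  let t : (∐ 𝒰.X) ⟶ ⊤_ Scheme.{u} := Sigma.desc fun i => terminal.from _
  have ht : IsSeparated t := AlgSpMS.isSeparated_sigmaDesc _ fun i => inferInstance
  have hV : IsSeparated (terminal.from V.left) := by rwa [Subsingleton.elim (terminal.from V.left) t]
  set W := hp.rep.pullback g
  let m : W.left ⟶ pullback (terminal.from V.left) (terminal.from T.left) :=
    pullback.lift (hp.rep.fst' g).left (hp.rep.snd g).left (Subsingleton.elim _ _)
  have : Mono m := ⟨fun {Q} a b h => by
    have h₁ := congrArg (· ≫ pullback.fst _ _) h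
    have h₂ := congrArg (· ≫ pullback.snd _ _) h
    simp only [m, Category.assoc, pullback.lift_fst, pullback.lift_snd] at h₁ h₂
    have hab : a ≫ W.hom = b ≫ W.hom := by
      rw [← Over.w (hp.rep.snd g), ← Category.assoc, h₂, Category.assoc]
    let A : Over.mk (a ≫ W.hom) ⟶ W := CategoryTheory.Over.homMk a rfl
    let B : Over.mk (a ≫ W.hom) ⟶ W := CategoryTheory.Over.homMk b hab.symm
    have : A = B := hp.rep.hom_ext' (Over.OverMorphism.ext h₁) (Over.OverMorphism.ext h₂)
    exact congrArg CommaMorphism.left this⟩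
  have e : (hp.rep.snd g).left = m ≫ pullback.snd _ _ := (pullback.lift_snd _ _ _).symm
  have : IsSeparated (pullback.snd (terminal.from V.left) (terminal.from T.left)) :=
    MorphismProperty.pullback_snd _ _ hV
  rw [e]
  infer_instance

variable {I : Type v} [Category.{w} I] {D : I ⥤ Over S} {c : Cocone D}

/-- Maps out of a colimit of schemes into an algebraic space are determined on the pieces. -/
theorem hom_ext_of_isColimit (hc : IsColimit ((Over.forget S).mapCocone c)) {Z : Sp S} (hZ : IsAlgSpace Z)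
    (g g' : (yon S).obj c.pt ⟶ Z)
    (h : ∀ i, (yon S).map (c.ι.app i) ≫ g = (yon S).map (c.ι.app i) ≫ g') : g = g' := by
  have hcO : IsColimit c := isColimitOfReflects (Over.forget S) hc
  let q : (yon S).obj c.pt ⟶ Z ⨯ Z := prod.lift g g'
  have hd : ∀ i, ((yon S).map (c.ι.app i) ≫ g) ≫ Limits.diag Z = (yon S).map (c.ι.app i) ≫ q := fun i => by
    refine Limits.prod.hom_ext ?_ ?_
    · simp [q, Limits.diag]
    · simpa [q, Limits.diag] using h i
  let l : ∀ i, D.obj i ⟶ hZ.diag.pullback q := fun i => hZ.diag.lift _ _ (hd i)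
  have hl : ∀ {i j : I} (φ : i ⟶ j), D.map φ ≫ l j = l i := fun {i j} φ => by
    refine hZ.diag.hom_ext ?_ ?_
    · rw [Functor.map_comp, Category.assoc, hZ.diag.lift_fst, hZ.diag.lift_fst, ← Category.assoc, ← Functor.map_comp,
        c.w φ]
    · simp [l, c.w φ]
  let s : Cocone D := ⟨hZ.diag.pullback q, { app := l, naturality := fun i j φ => by simp [hl φ] }⟩
  have hs : hcO.desc s ≫ hZ.diag.snd q = 𝟙 c.pt := hcO.hom_ext fun i => by
    rw [hcO.fac_assoc, Category.comp_id]; exact hZ.diag.lift_snd _ _ _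
  have key : q = ((yon S).map (hcO.desc s) ≫ hZ.diag.fst q) ≫ Limits.diag Z := by
    rw [Category.assoc, hZ.diag.w q, ← Category.assoc, ← Functor.map_comp, hs, CategoryTheory.Functor.map_id, Category.id_comp]
  have k₁ := congrArg (· ≫ (prod.fst : Z ⨯ Z ⟶ Z)) key
  have k₂ := congrArg (· ≫ (prod.snd : Z ⨯ Z ⟶ Z)) key
  simp only [q, Category.assoc, Limits.diag, prod.lift_fst, prod.lift_snd, Category.comp_id] at k₁ k₂
  exact k₁.trans k₂.symm

/-- The diagram of pullbacks of a cocone along a map to its vertex. -/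
noncomputable def bcDiag (c : Cocone D) {T : Over S} (b : T ⟶ c.pt) : I ⥤ Over S where
  obj i := Limits.pullback b (c.ι.app i)
  map φ := pullback.map _ _ _ _ (𝟙 _) (D.map φ) (𝟙 _) (by simp) (by simp)

/-- Its projection to the original diagram. -/
noncomputable def bcProj (c : Cocone D) {T : Over S} (b : T ⟶ c.pt) : bcDiag c b ⟶ D where
  app i := pullback.snd b (c.ι.app i)
  naturality i j φ := by simp [bcDiag]

/-- The cocone on the diagram of pullbacks. -/
noncomputable def bcCocone (c : Cocone D) {T : Over S} (b : T ⟶ c.pt) : Cocone (bcDiag c b) :=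
  ⟨T, { app := fun i => pullback.fst b (c.ι.app i)
        naturality := fun i j φ => by simp [bcDiag] }⟩

/-- A colimit of schemes with jointly surjective coprojections, stable under etale base change and effective for
separated etale systems, is a colimit of algebraic spaces. -/
theorem nonempty_isColimit_ofScheme (h₁ : IsColimit ((Over.forget S).mapCocone c))
    (h₂ : ∀ x : ↥c.pt.left, ∃ (i : I) (y : ↥(D.obj i).left), (c.ι.app i).left y = x)
    (h₃ : ∀ (D' : I ⥤ Over S) (α : D' ⟶ D) (c' : Cocone D') (a : c'.pt ⟶ c.pt), Etale a.left →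
      (∀ i, IsPullback (c'.ι.app i) (α.app i) a (c.ι.app i)) → Nonempty (IsColimit ((Over.forget S).mapCocone c')))
    (h₄ : ∀ (D' : I ⥤ Over S) (α : D' ⟶ D), NatTrans.Equifibered α → (∀ i, Etale (α.app i).left) →
      (∀ i, IsSeparated (α.app i).left) →
      ∃ (c' : Cocone D') (a : c'.pt ⟶ c.pt), Etale a.left ∧ ∀ i, IsPullback (c'.ι.app i) (α.app i) a (c.ι.app i)) :
    Nonempty (IsColimit ((AlgSp.ofScheme S).mapCocone c)) := by
  suffices key : ∀ (Z : Space S) (s : ∀ i, (yon S).obj (D.obj i) ⟶ Z.obj),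
      (∀ {i j} (φ : i ⟶ j), (yon S).map (D.map φ) ≫ s j = s i) →
      ∃ m : (yon S).obj c.pt ⟶ Z.obj, ∀ i, (yon S).map (c.ι.app i) ≫ m = s i by
    choose m hm using fun (s : Cocone (D ⋙ AlgSp.ofScheme S)) => key s.pt (fun i => (s.ι.app i).hom)
      (fun φ => congrArg (fun k => k.hom) (s.w φ))
    refine ⟨{ desc := fun s => ObjectProperty.homMk (m s), fac := fun s i => ?_, uniq := fun s g hg => ?_ }⟩
    · ext : 1; exact hm s i
    · ext : 1
      exact hom_ext_of_isColimit h₁ s.pt.property _ _ fun i =>
        (congrArg (fun k => k.hom) (hg i)).trans (hm s i).symm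
  intro Z s hs
  obtain ⟨V, p, hp, hps, hsep⟩ := exists_separated_atlas Z.property
  have hw : ∀ {i j : I} (φ : i ⟶ j), hp.rep.fst (s i) ≫ p =
      (yon S).map (hp.rep.snd (s i) ≫ D.map φ) ≫ s j := fun φ => by
    rw [Functor.map_comp, Category.assoc, hs φ]; exact hp.rep.w _
  let D' : I ⥤ Over S :=
    { obj := fun i => hp.rep.pullback (s i)
      map := fun φ => hp.rep.lift (hp.rep.fst (s _)) (hp.rep.snd (s _) ≫ D.map φ) (hw φ)
      map_id := fun i => hp.rep.hom_ext (by simp) (by simp)
      map_comp := fun φ ψ => hp.rep.hom_ext (by simp) (by simp) }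
  let α : D' ⟶ D := { app := fun i => hp.rep.snd (s i), naturality := fun i j φ => by simp [D'] }
  have heq : NatTrans.Equifibered α := by
    intro i j φ
    refine IsPullback.of_map (yon S) (α.naturality φ) ?_
    refine IsPullback.of_right ?_ (by rw [← Functor.map_comp, ← Functor.map_comp, α.naturality φ])
      (hp.rep.isPullback (s j))
    simp only [D', CategoryTheory.Functor.relativelyRepresentable.lift_fst, hs φ]
    exact hp.rep.isPullback (s i)
  obtain ⟨c', a, ha, hcart⟩ := h₄ D' α heq (fun i => hp.property_snd (s i)) (fun i => hsep (s i))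
  have has : Surjective a.left := ⟨fun x => by
    obtain ⟨i, y, rfl⟩ := h₂ x
    have : Surjective (α.app i).left := hps.property _ _ _ (hp.rep.isPullback (s i))
    obtain ⟨z, rfl⟩ := (α.app i).left.surjective y
    exact ⟨(c'.ι.app i).left z, by
      exact (Scheme.Hom.comp_apply (c'.ι.app i).left a.left z).symm.trans ((congrArg (fun k => k.left z) (hcart i).w).trans
        (Scheme.Hom.comp_apply (α.app i).left (c.ι.app i).left z))⟩⟩
  obtain ⟨hc'⟩ := h₃ D' α c' a ha hcart
  have hcO : IsColimit c' := isColimitOfReflects (Over.forget S) hc'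
  have hnat : ∀ {i j : I} (φ : i ⟶ j), D'.map φ ≫ hp.rep.fst' (s j) = hp.rep.fst' (s i) := fun φ => by
    refine (yon S).map_injective ?_
    simp [D']
  let r : c'.pt ⟶ V := hcO.desc ⟨V, { app := fun i => hp.rep.fst' (s i), naturality := fun i j φ => by simp [hnat φ] }⟩
  have hr : ∀ i, (yon S).map (c'.ι.app i) ≫ (yon S).map r = hp.rep.fst (s i) := fun i => by
    rw [← Functor.map_comp, hcO.fac]; exact (yon S).map_preimage _
  -- the two maps on the self product agree
  let R := Limits.pullback a a
  let b : R ⟶ c.pt := pullback.fst a a ≫ a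
  have hb : Etale b.left := by
    have hfst : Etale (pullback.fst a a).left := MorphismProperty.of_isPullback (P := @Etale)
      ((IsPullback.of_hasPullback a a).map (Over.forget S)).flip ha
    exact inferInstanceAs (Etale ((pullback.fst a a).left ≫ a.left))
  obtain ⟨hR⟩ := h₃ (bcDiag c b) (bcProj c b) (bcCocone c b) b hb fun i => IsPullback.of_hasPullback b (c.ι.app i)
  have hside : ∀ (π : R ⟶ c'.pt), π ≫ a = b → ∀ i, (yon S).map (pullback.fst b (c.ι.app i)) ≫
      (yon S).map π ≫ (yon S).map r ≫ p = (yon S).map (pullback.snd b (c.ι.app i)) ≫ s i := fun π hπ i => by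
    have hl : (pullback.fst b (c.ι.app i) ≫ π) ≫ a = pullback.snd b (c.ι.app i) ≫ c.ι.app i := by
      rw [Category.assoc, hπ, pullback.condition]
    set l := (hcart i).lift _ _ hl with hldef
    have e₁ : l ≫ c'.ι.app i = pullback.fst b (c.ι.app i) ≫ π := (hcart i).lift_fst _ _ hl
    have e₂ : l ≫ α.app i = pullback.snd b (c.ι.app i) := (hcart i).lift_snd _ _ hl
    calc _ = (yon S).map (l ≫ c'.ι.app i) ≫ (yon S).map r ≫ p := by
          rw [e₁, Functor.map_comp, Category.assoc]
      _ = (yon S).map l ≫ hp.rep.fst (s i) ≫ p := by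
          rw [Functor.map_comp, Category.assoc, reassoc_of% (hr i)]
      _ = (yon S).map l ≫ (yon S).map (α.app i) ≫ s i := congrArg ((yon S).map l ≫ ·) (hp.rep.w (s i))
      _ = _ := by rw [← Category.assoc, ← Functor.map_comp, e₂]
  have hsame : (yon S).map (pullback.fst a a) ≫ (yon S).map r ≫ p =
      (yon S).map (pullback.snd a a) ≫ (yon S).map r ≫ p :=
    hom_ext_of_isColimit hR Z.property _ _ fun i =>
      (hside _ rfl i).trans (hside _ pullback.condition.symm i).symm
  -- descend
  have hae : RepWith @Etale ((yon S).map a) := (repWith_yon_map_iff _ _).2 ha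
  have has' : RepWith @Surjective ((yon S).map a) := (repWith_yon_map_iff _ _).2 has
  have : Epi ((yon S).map a) := epi_of_etale_surjective hae has'
  have : EffectiveEpi ((yon S).map a) := by
    have := IsRegularEpiCategory.regularEpiOfEpi ((yon S).map a)
    infer_instance
  have sqa := (IsPullback.of_hasPullback a a).map (yon S)
  have hdesc : ∀ {W : Sp S} (g₁ g₂ : W ⟶ (yon S).obj c'.pt), g₁ ≫ (yon S).map a = g₂ ≫ (yon S).map a →
      g₁ ≫ (yon S).map r ≫ p = g₂ ≫ (yon S).map r ≫ p := fun g₁ g₂ h => by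
    rw [← sqa.lift_fst g₁ g₂ h, Category.assoc, hsame, ← Category.assoc, sqa.lift_snd]
  refine ⟨EffectiveEpi.desc ((yon S).map a) ((yon S).map r ≫ p) hdesc, fun i => ?_⟩
  have hαe : RepWith @Etale ((yon S).map (α.app i)) := (repWith_yon_map_iff _ _).2 (hp.property_snd (s i))
  have hαs : RepWith @Surjective ((yon S).map (α.app i)) :=
    (repWith_yon_map_iff _ _).2 (hps.property _ _ _ (hp.rep.isPullback (s i)))
  have : Epi ((yon S).map (α.app i)) := epi_of_etale_surjective hαe hαs
  rw [← cancel_epi ((yon S).map (α.app i)), ← Category.assoc, ← Functor.map_comp, ← (hcart i).w, Functor.map_comp,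
    Category.assoc, EffectiveEpi.fac, reassoc_of% (hr i)]
  exact hp.rep.w (s i)

end Groth.Agent.AlgSpMor
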