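import Groth.Agent.AlgSpMor.EtToposQcqs
import Groth.Agent.S9120
import Mathlib.Algebra.Category.ModuleCat.Sheaf.Quasicoherent

/-!
# Homomorphisms out of finitely presented modules and directed colimits
-/

set_option autoImplicit false
set_option linter.style.haveILetI false
set_option backward.isDefEq.respectTransparency false
set_option backward.isDefEq.respectTransparency.types false

universe u

open CategoryTheory CategoryTheory.Limits AlgebraicGeometry Opposite AlgSp

namespace Groth.Agent.AlgSpMor

open Groth.Agent.AlgSpLib Groth.Agent.ToposFinLib ToposFin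

variable {S : Scheme.{u}} {X : Sp S}

variable (X) in
/-- The structure sheaf on the raised site. -/
noncomputable abbrev siteO : Sheaf (siteTop X) CommRingCat.{u + 1} :=
  ((siteEquiv X).inverse.sheafPushforwardContinuous CommRingCat.{u + 1} (siteTop X) (etTop X)).obj (OEt X)

/-- The identification of the structure sheaf of the raised site. -/
noncomputable abbrev siteφ : ModSite.ringSh (siteO X) ⟶
    ((siteEquiv X).inverse.sheafPushforwardContinuous RingCat.{u + 1} (siteTop X) (etTop X)).obj (OEtRing X) :=
  ⟨𝟙 _⟩

noncomputable abbrev raiseMod : ModEt X ⥤ ModSite.Mod (siteO X) :=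
  SheafOfModules.pushforward.{u + 1} (siteφ (X := X))

instance isContinuous_post (V : Site X) :
    (Over.post (X := V) (siteEquiv X).inverse).IsContinuous ((siteTop X).over V) ((etTop X).over _) := by
  haveI : (Over.post (X := V) (siteEquiv X).inverse).IsEquivalence :=
    (Over.postEquiv V (siteEquiv X).symm).isEquivalence_functor
  exact Functor.IsCoverDense.isContinuous _ _ _ ((CoverPreserving.of_isContinuous (F := (siteEquiv X).inverse) (J := siteTop X) (K := etTop X)).overPost V)

theorem isFinitePresentation_raise (G : ModEt X) [G.IsFinitePresentation] :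
    SheafOfModules.IsFinitePresentation (R := ModSite.ringSh (siteO X)) (raiseMod.obj G) := by
  haveI : IsIso (siteφ (X := X)) := ⟨⟨𝟙 _⟩, by ext : 1; exact Category.id_comp _, by ext : 1; exact Category.id_comp _⟩
  have h : ∀ (V : Site X) (W : EtOver X) (f : (siteEquiv X).inverse.obj V ⟶ W),
      PreservesColimitsOfSize.{u + 1, u + 1} <|
      SheafOfModules.pushforward.{u + 1} (R := (OEtRing X).over W)
        (F := Over.post (X := V) (siteEquiv X).inverse ⋙ Over.map f)
        (((Over.forget V).sheafPushforwardContinuous RingCat.{u + 1} ((siteTop X).over V) (siteTop X)).map (siteφ (X := X))) := by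
    intro V W f
    let G' := Over.post (X := V) (siteEquiv X).inverse ⋙ Over.map f
    haveI : G'.IsContinuous ((siteTop X).over V) ((etTop X).over W) :=
      Functor.isContinuous_comp _ _ _ ((etTop X).over _) _
    haveI : G'.IsCocontinuous ((siteTop X).over V) ((etTop X).over W) :=
      isCocontinuous_comp _ _ _ ((etTop X).over _)
    let a : (ModSite.ringSh (siteO X)).over V ⟶
        (G'.sheafPushforwardContinuous RingCat.{u + 1} ((siteTop X).over V) ((etTop X).over W)).obj ((OEtRing X).over W) :=
      ((Over.forget V).sheafPushforwardContinuous RingCat.{u + 1} ((siteTop X).over V) (siteTop X)).map (siteφ (X := X))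
    have : (SheafOfModules.pushforward.{u + 1} a).IsLeftAdjoint := SheafOfModules.isLeftAdjoint_pushforward_of_isIso a
    infer_instance
  obtain ⟨σ, hσ⟩ := SheafOfModules.IsFinitePresentation.exists_quasicoherentData G
  refine SheafOfModules.IsFinitePresentation.mk.{u + 1, u + 1, u + 1}
    ⟨σ.pushforward (siteEquiv X).inverse (siteφ (X := X)) (Iso.refl _) h, ?_⟩
  constructor
  intro i
  haveI := hσ.isFinite_presentation i.2.1
  dsimp [SheafOfModules.QuasicoherentData.pushforward]
  exact ⟨⟨show Finite (σ.presentation i.2.1).generators.I from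
      SheafOfModules.GeneratingSections.IsFiniteType.finite⟩,
    ⟨show Finite (σ.presentation i.2.1).relations.I from
      SheafOfModules.GeneratingSections.IsFiniteType.finite⟩⟩

theorem isQcObject_of_isQC' {K : Sh (siteTop X)} (hK : IsQC K) : CohCx.IsQcObject K := by
  classical
  intro ι L π hπ
  obtain ⟨t, ht⟩ := hK ι L π (epi_desc_iff.2 fun V y => by
    obtain ⟨T, hT, h⟩ := hπ V y
    refine (siteTop X).superset_covering (fun W g hg => ?_) hT
    obtain ⟨i, z, hz⟩ := h W g hg
    exact ⟨i, z, hz⟩)
  exact ⟨t, fun V y => ⟨_, epi_desc_iff.1 ht y, fun W g ⟨i, z, hz⟩ => ⟨i, z, hz⟩⟩⟩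

theorem exists_refine [QuasiSeparatedSpace ↥S] (hqs : IsQuasiSeparatedSp X) (hqc : IsQuasiCompactSp X)
    (G : Sh (siteTop X)) (hG : Epi (terminal.from G)) :
    ∃ K ∈ {K : Sh (siteTop X) | CohCx.IsQcObject (K ⨯ K)}, Epi (terminal.from K) ∧ Nonempty (K ⟶ G) := by
  classical
  have hT := isCoherent_terminal hqs hqc
  obtain ⟨ι, F, π, hF, hπ⟩ := isGenerating_qcqsEps (X := X) G
  have hGcov : Cov π := cov_iff.2 hπ
  have hc : Cov (fun i => π i ≫ terminal.from G) :=
    Cov.comp (cov_of_epi.{0} (terminal.from G)) (fun _ => hGcov) |>.refine fun p => ⟨p.2, 𝟙 _, by simp⟩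
  obtain ⟨s, hs⟩ := isQC_iff.1 hT.1 _ _ _ hc
  let L : s → Sh (siteTop X) := fun i => F i
  have hι : Cov (fun k => Sigma.ι L k) := (isPartition_sigma_ι L).cov
  have hK : IsQC (∐ L) := isQC_of_finite_cov _ _ hι fun i => isQC_of_mem_qcqsEps _ (hF i)
  have hepi : Epi (terminal.from (∐ L)) := by
    have e : Sigma.desc (fun i : s => π i ≫ terminal.from G) = terminal.from (∐ L) := Subsingleton.elim _ _
    rw [← e]
    exact epi_desc_iff.2 hs
  refine ⟨∐ L, isQcObject_of_isQC' ?_, hepi, ⟨Sigma.desc fun i : s => π i.1⟩⟩
  exact isQC_of_iso (prodIsoPullback _ _).symm (hT.2 _ _ (terminal.from (∐ L)) (terminal.from (∐ L)) hK hK)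

/-- Homomorphisms out of a finitely presented module commute with filtered colimits on a qcqs space. -/
theorem preservesColimitsOfShape_coyoneda [QuasiSeparatedSpace ↥S] (hqs : IsQuasiSeparatedSp X)
    (hqc : IsQuasiCompactSp X) (G : ModEt X) [G.IsFinitePresentation] (Λ : Type (u + 1)) [SmallCategory Λ]
    [IsFiltered Λ] : PreservesColimitsOfShape Λ (coyoneda.obj (op G)) := by
  haveI : (siteEquiv X).symm.functor.IsContinuous (siteTop X) (etTop X) :=
    inferInstanceAs ((siteEquiv X).inverse.IsContinuous (siteTop X) (etTop X))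
  haveI : (siteEquiv X).symm.inverse.IsContinuous (etTop X) (siteTop X) :=
    inferInstanceAs ((siteEquiv X).functor.IsContinuous (etTop X) (siteTop X))
  let e := SheafOfModules.pushforwardPushforwardEquivalence.{u + 1} (siteEquiv X).symm
    (siteφ (X := X)) (S := ModSite.ringSh (siteO X)) (R := OEtRing X)
    ⟨𝟙 _⟩ (by ext : 2; exact (OEtRing X).obj.map_id _) (by ext : 2; exact (OEtRing X).obj.map_id _)
  haveI : (raiseMod (X := X)).IsEquivalence := e.isEquivalence_functor
  haveI := isFinitePresentation_raise G
  have hcoy : ∀ D : Λ ⥤ ModSite.Mod (siteO X), PreservesColimit D (coyoneda.obj (op (raiseMod.obj G))) := fun D =>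
    Groth.Agent.S9120.result (siteO X) {K | CohCx.IsQcObject (K ⨯ K)} (exists_refine hqs hqc) (fun K hK => hK) _ D
  haveI : PreservesColimitsOfShape Λ (coyoneda.obj (op (raiseMod.obj G))) := ⟨fun {D} => hcoy D⟩
  exact preservesColimitsOfShape_of_natIso (show raiseMod ⋙ coyoneda.obj (op (raiseMod.obj G)) ≅ coyoneda.obj (op G) from
    NatIso.ofComponents (fun N => (Functor.FullyFaithful.ofFullyFaithful (raiseMod (X := X))).homEquiv.symm.toIso)
      fun {M N} f => by
        ext x
        apply (raiseMod (X := X)).map_injective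
        simp [Functor.FullyFaithful.homEquiv])

end Groth.Agent.AlgSpMor
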