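import Groth.Agent.AlgSpMor.ULiftSite
import Groth.Agent.ToposFinLib.Algebraic2
import Groth.Agent.ToposFinLib.Eps
import Groth.Agent.AlgSpLib.Covers
import Groth.Agent.AlgSpLib.Sheaf
import Groth.Prelude.Def_AlgSpOX

/-!
# The small etale topos of a quasi-compact quasi-separated algebraic space is coherent
-/

set_option autoImplicit false
set_option linter.style.haveILetI false
set_option backward.isDefEq.respectTransparency false
set_option backward.isDefEq.respectTransparency.types false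

universe u

open CategoryTheory CategoryTheory.Limits AlgebraicGeometry Opposite AlgSp

namespace Groth.Agent.AlgSpMor

open Groth.Agent.AlgSpLib Groth.Agent.ToposFinLib ToposFin

variable {S : Scheme.{u}} {X : Sp S}

/-- Every point is hit by an arrow of a covering sieve of the small etale site. -/
theorem exists_mem_of_etTop {E : EtOver X} {R : Sieve E} (hR : R ∈ etTop X E) (x : ↥E.obj.left.left) :
    ∃ (E' : EtOver X) (g : E' ⟶ E), R g ∧ x ∈ Set.range g.hom.left.left := by
  suffices H : ∀ (E : EtOver X) (R : Sieve E), (etPre X).Saturate E R →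
      ∀ {E₀ : EtOver X} (h : E₀ ⟶ E) (x : ↥E₀.obj.left.left), ∃ (E' : EtOver X) (g : E' ⟶ E₀),
        R (g ≫ h) ∧ x ∈ Set.range g.hom.left.left by
    obtain ⟨E', g, hg, hx⟩ := H E R hR (𝟙 E) x
    exact ⟨E', g, by rwa [Category.comp_id] at hg, hx⟩
  intro E R hR
  induction hR with
  | of E P hP =>
    intro E₀ h x
    obtain ⟨ι, Y, g, rfl⟩ := Presieve.exists_eq_ofArrows P
    obtain ⟨i, y, hy⟩ := (ofArrows_mem_etPre_iff Y g).1 hP (h.hom.left.left x)
    obtain ⟨z, hz, -⟩ := Scheme.exists_preimage_of_isPullback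
      (((EtOver.isPullback h (g i)).map (EtOver.toScheme X))) x y hy.symm
    exact ⟨_, EtOver.pullbackFst h (g i), ⟨_, EtOver.pullbackSnd h (g i), g i, ⟨i⟩,
      (EtOver.pullback_condition h (g i)).symm⟩, z, hz⟩
  | top E => exact fun {E₀} h x => ⟨E₀, 𝟙 E₀, trivial, x, rfl⟩
  | pullback E R _ Y f ih =>
    intro E₀ h x
    obtain ⟨E', g, hg, hx⟩ := ih (h ≫ f) x
    exact ⟨E', g, by rwa [Sieve.pullback_apply, Category.assoc], hx⟩
  | transitive E R T _ _ ih ih' =>
    intro E₀ h x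
    obtain ⟨E', g, hg, y, hy⟩ := ih h x
    obtain ⟨E'', g', hg', z, hz⟩ := ih' hg (𝟙 E') y
    refine ⟨E'', g' ≫ g, by rwa [Category.assoc, Sieve.pullback_apply, Category.comp_id] at *, z, ?_⟩
    show (g'.hom.left.left ≫ g.hom.left.left) z = x
    rw [Scheme.Hom.comp_apply, hz, hy]

/-- Jointly surjective families of the site give coverings of schemes over the base. -/
theorem ofArrows_left_mem_J {E : EtOver X} {ι : Type (u + 1)} (Z : ι → EtOver X) (g : ∀ i, Z i ⟶ E)
    (h : ∀ x : ↥E.obj.left.left, ∃ i, x ∈ Set.range (g i).hom.left.left) :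
    Sieve.ofArrows (fun i => (Z i).obj.left) (fun i => (g i).hom.left) ∈ J S E.obj.left := by
  rw [GrothendieckTopology.mem_over_iff]
  have hmem : Presieve.ofArrows (fun i => (Z i).obj.left.left) (fun i => (g i).hom.left.left) ∈
      Scheme.fppfPrecoverage E.obj.left.left := by
    refine (Scheme.ofArrows_mem_precoverage_iff _).2 ⟨h, fun i => ?_⟩
    have := EtOver.etale_left (g i)
    exact ⟨inferInstance, inferInstance⟩
  refine GrothendieckTopology.superset_covering _ ?_ (Precoverage.generate_mem_toGrothendieck hmem)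
  rw [Sieve.generate_le_iff]
  rintro _ _ ⟨i⟩
  rw [Sieve.overEquiv_iff]
  convert Sieve.ofArrows_mk (fun i => (Z i).obj.left) (fun i => (g i).hom.left) i |>
    (Sieve.ofArrows _ (fun i => (g i).hom.left)).downward_closed <|
    (Over.homMk (U := Over.mk ((g i).hom.left.left ≫ E.obj.left.hom)) (V := (Z i).obj.left) (𝟙 _)
      (by simp)) using 1
  ext
  simp

/-- Compatible morphisms into an object of the small etale site glue along a covering sieve. -/
theorem existsUnique_amalgamation {E W : EtOver X} {R : Sieve E} (hR : R ∈ etTop X E)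
    (x : ∀ ⦃E' : EtOver X⦄ (g : E' ⟶ E), R g → (E' ⟶ W))
    (hx : ∀ ⦃E₁ E₂ E₃ : EtOver X⦄ (a₁ : E₃ ⟶ E₁) (a₂ : E₃ ⟶ E₂) (g₁ : E₁ ⟶ E) (g₂ : E₂ ⟶ E)
      (h₁ : R g₁) (h₂ : R g₂), a₁ ≫ g₁ = a₂ ≫ g₂ → a₁ ≫ x g₁ h₁ = a₂ ≫ x g₂ h₂) :
    ∃! l : E ⟶ W, ∀ ⦃E' : EtOver X⦄ (g : E' ⟶ E) (h : R g), g ≫ l = x g h := by
  let ι : Type (u + 1) := Σ E' : EtOver X, {g : E' ⟶ E // R g}
  have hcov : ∀ z : ↥E.obj.left.left, ∃ i : ι, z ∈ Set.range i.2.1.hom.left.left := fun z => by
    obtain ⟨E', g, hg, hz⟩ := exists_mem_of_etTop hR z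
    exact ⟨⟨E', g, hg⟩, hz⟩
  have hJ := ofArrows_left_mem_J _ _ hcov
  have hsh := (isSheaf_iff_isSheaf_of_type _ _).1 ((yon S).obj W.obj.left).property _ hJ
  rw [Sieve.ofArrows, ← Presieve.isSheafFor_iff_generate, Presieve.isSheafFor_arrows_iff_pullbacks] at hsh
  obtain ⟨⟨l⟩, hl, huniq⟩ := hsh (fun i => ULift.up (x i.2.1 i.2.2).hom.left) (by
    intro i j
    have e := hx (EtOver.pullbackFst i.2.1 j.2.1) (EtOver.pullbackSnd i.2.1 j.2.1) i.2.1 j.2.1 i.2.2 j.2.2
      (EtOver.pullback_condition _ _)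
    exact congrArg ULift.up (congrArg (fun k => k.hom.left) e))
  have hl' : ∀ i : ι, i.2.1.hom.left ≫ l = (x i.2.1 i.2.2).hom.left := fun i => congrArg ULift.down (hl i)
  have hw : (yon S).map l ≫ W.obj.hom = E.obj.hom := by
    refine hom_ext_of_covering _ _ hJ fun T φ hφ => ?_
    obtain ⟨_, ψ, _, ⟨i⟩, rfl⟩ := hφ
    rw [Functor.map_comp, Category.assoc, Category.assoc, ← Category.assoc ((yon S).map i.2.1.hom.left),
      ← Functor.map_comp, hl' i, EtOver.w, EtOver.w]
  refine ⟨EtOver.homMk l hw, fun E' g h => EtOver.hom_ext _ _ (hl' ⟨E', g, h⟩), fun l' hl'' =>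
    EtOver.hom_ext _ _ (congrArg ULift.down (huniq (ULift.up l'.hom.left) fun i =>
      congrArg ULift.up (congrArg (fun k => k.hom.left) (hl'' i.2.1 i.2.2))))⟩

variable (X) in
/-- The small etale site with its morphisms raised one universe. -/
abbrev Site : Type (u + 1) := ULiftHom.{u + 1} (EtOver X)

variable (X) in
/-- The equivalence with the small etale site. -/
abbrev siteEquiv : EtOver X ≌ Site X := ULiftHom.equiv

variable (X) in
/-- The etale topology on the raised site. -/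
abbrev siteTop : GrothendieckTopology (Site X) := (siteEquiv X).inverse.inducedTopology (etTop X)

/-- The etale scheme over the space underlying an object of the raised site. -/
abbrev dn (V : Site X) : EtOver X := (siteEquiv X).inverse.obj V

/-- A morphism of the site, raised. -/
abbrev up {E : EtOver X} {V : Site X} (g : E ⟶ dn V) : ULiftHom.objUp E ⟶ V := ULift.up g

theorem mem_siteTop_iff {V : Site X} {R : Sieve V} :
    R ∈ siteTop X V ↔ R.functorPushforward (siteEquiv X).inverse ∈ etTop X (dn V) :=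
  Functor.mem_inducedTopology_iff_of_isCoverDense _ _ R

theorem ofArrows_mem_siteTop {V : Site X} {ι : Type*} (Z : ι → Site X) (g : ∀ i, Z i ⟶ V)
    (h : ∀ x : ↥(dn V).obj.left.left, ∃ i, x ∈ Set.range (g i).down.hom.left.left) :
    Sieve.ofArrows Z g ∈ siteTop X V := by
  rw [mem_siteTop_iff]
  refine GrothendieckTopology.superset_covering _ ?_
    (ofArrows_mem_etTop (fun i => dn (Z i)) (fun i => (g i).down) h)
  rw [Sieve.ofArrows, Sieve.generate_le_iff]
  rintro _ _ ⟨i⟩
  exact ⟨Z i, g i, 𝟙 _, Sieve.ofArrows_mk _ _ i, (Category.id_comp _).symm⟩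

theorem exists_mem_of_siteTop {V : Site X} {R : Sieve V} (hR : R ∈ siteTop X V) (x : ↥(dn V).obj.left.left) :
    ∃ (V' : Site X) (g : V' ⟶ V), R g ∧ x ∈ Set.range g.down.hom.left.left := by
  obtain ⟨E', g, ⟨V', a, b, ha, e⟩, y, hy⟩ := exists_mem_of_etTop (mem_siteTop_iff.1 hR) x
  refine ⟨V', a, ha, b.hom.left.left y, ?_⟩
  subst e
  refine Eq.trans ?_ hy
  exact (Scheme.Hom.comp_apply b.hom.left.left a.down.hom.left.left y).symm

instance : (siteTop X).Subcanonical := by
  refine GrothendieckTopology.Subcanonical.of_isSheaf_yoneda_obj _ fun W => ?_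
  intro V R hR x hx
  have key : ∀ {V' : Site X} (g : V' ⟶ V), R g → R.functorPushforward (siteEquiv X).inverse g.down :=
    fun g hg => Sieve.image_mem_functorPushforward _ _ hg
  have hmem : ∀ ⦃E' : EtOver X⦄ (g : E' ⟶ dn V), R.functorPushforward (siteEquiv X).inverse g →
      R (up g) := by
    intro E' g hg
    obtain ⟨V', a, b, ha, e⟩ := hg
    have : up g = (⟨b⟩ : ULiftHom.objUp E' ⟶ V') ≫ a := ULift.ext _ _ e
    rw [this]
    exact R.downward_closed ha _
  obtain ⟨l, hl, huniq⟩ := existsUnique_amalgamation (W := dn W) (mem_siteTop_iff.1 hR)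
    (fun E' g hg => (x (up g) (hmem g hg)).down)
    (fun E₁ E₂ E₃ a₁ a₂ g₁ g₂ h₁ h₂ e => congrArg ULift.down
      (hx (⟨a₁⟩ : ULiftHom.objUp E₃ ⟶ ULiftHom.objUp E₁) (⟨a₂⟩ : ULiftHom.objUp E₃ ⟶ ULiftHom.objUp E₂)
        (hmem g₁ h₁) (hmem g₂ h₂) (ULift.ext _ _ e)))
  exact ⟨⟨l⟩, fun V' g hg => ULift.ext _ _ (hl g.down (key g hg)),
    fun l' hl' => ULift.ext _ _ (huniq l'.down fun E' g hg => congrArg ULift.down (hl' (up g) (hmem g hg)))⟩

end Groth.Agent.AlgSpMor
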