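import Groth.Agent.AlgSpMor.EtTopos
import Groth.Agent.AlgSpLib.Rep
import Groth.Agent.AlgSpDM.AffChart
import Groth.Agent.S3877

/-!
# Quasi-compact quasi-separated objects of the small etale site and coherence
-/

set_option autoImplicit false
set_option linter.style.haveILetI false
set_option backward.isDefEq.respectTransparency false
set_option backward.isDefEq.respectTransparency.types false

set_option linter.unusedSectionVars false

universe u

open CategoryTheory CategoryTheory.Limits AlgebraicGeometry Opposite AlgSp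

namespace Groth.Agent.AlgSpMor

open Groth.Agent.AlgSpLib Groth.Agent.ToposFinLib ToposFin

variable {S : Scheme.{u}} {X : Sp S}

/-- The objects of the raised site with quasi-compact quasi-separated scheme. -/
structure IsQcqsEt (V : Site X) : Prop where
  compact : CompactSpace ↥(dn V).obj.left.left
  qs : QuasiSeparatedSpace ↥(dn V).obj.left.left

theorem isQcqsEt_of_isAffine {V : Site X} (h : IsAffine (dn V).obj.left.left) : IsQcqsEt V :=
  have := h
  ⟨inferInstance, inferInstance⟩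

theorem quasiSeparated_of_mono {A B : Scheme.{u}} (f : A ⟶ B) [Mono f] [QuasiSeparatedSpace ↥B] :
    QuasiSeparatedSpace ↥A := by
  have : IsSeparated f := ⟨inferInstance⟩
  exact AlgebraicGeometry.quasiSeparatedSpace_of_quasiSeparated f

theorem compactSpace_of_quasiCompact {A B : Scheme.{u}} (f : A ⟶ B) [QuasiCompact f] [CompactSpace ↥B] :
    CompactSpace ↥A :=
  QuasiCompact.compactSpace_of_compactSpace f

theorem qcqs_of_isPullback {P A B C : Scheme.{u}} {p : P ⟶ A} {q : P ⟶ B} {a : A ⟶ C} {b : B ⟶ C}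
    (h : IsPullback p q a b) [CompactSpace ↥A] [QuasiSeparatedSpace ↥A] [CompactSpace ↥B]
    [QuasiSeparatedSpace ↥B] [QuasiSeparatedSpace ↥C] : CompactSpace ↥P ∧ QuasiSeparatedSpace ↥P :=
  have : QuasiCompact p := MorphismProperty.of_isPullback h.flip (inferInstanceAs (QuasiCompact b))
  have : QuasiSeparated p := MorphismProperty.of_isPullback h.flip (inferInstanceAs (QuasiSeparated b))
  ⟨compactSpace_of_quasiCompact p, AlgebraicGeometry.quasiSeparatedSpace_of_quasiSeparated p⟩

/-- Fibre products of qcqs objects over a quasi-separated object are qcqs. -/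
theorem exists_pullback {U V W : Site X} (a : U ⟶ W) (b : V ⟶ W) (hU : IsQcqsEt U) (hV : IsQcqsEt V)
    (hW : QuasiSeparatedSpace ↥(dn W).obj.left.left) :
    ∃ (P : Site X) (p : P ⟶ U) (q : P ⟶ V), IsQcqsEt P ∧ IsPullback p q a b := by
  have h := (EtOver.isPullback a.down b.down).map (siteEquiv X).functor
  refine ⟨_, _, _, ?_, h⟩
  have hs := (IsPullback.of_hasPullback a.down.hom.left b.down.hom.left).map (Over.forget S)
  obtain ⟨h1, h2⟩ := @qcqs_of_isPullback _ _ _ _ _ _ _ _ hs hU.compact hU.qs hV.compact hV.qs hW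
  exact ⟨h1, h2⟩

variable [QuasiSeparatedSpace ↥S] (hXqs : IsQuasiSeparatedSp X)

include hXqs in
/-- Products of qcqs objects exist and are qcqs. -/
theorem exists_prod {U V : Site X} (hU : IsQcqsEt U) (hV : IsQcqsEt V) :
    ∃ (P : Site X) (p : P ⟶ U) (q : P ⟶ V), IsQcqsEt P ∧ Nonempty (IsLimit (BinaryFan.mk p q)) := by
  let A := dn U
  let B := dn V
  let W := B.property.rep.pullback A.obj.hom
  let q₀ : (yon S).obj W ⟶ (yon S).obj B.obj.left := B.property.rep.fst A.obj.hom
  let p₀ : W ⟶ A.obj.left := B.property.rep.snd A.obj.hom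
  have sq : IsPullback q₀ ((yon S).map p₀) B.obj.hom A.obj.hom := B.property.rep.isPullback A.obj.hom
  let q₁ : W ⟶ B.obj.left := (yon S).preimage q₀
  have hq₁ : (yon S).map q₁ = q₀ := (yon S).map_preimage _
  let E : EtOver X := EtOver.mk ((yon S).map p₀ ≫ A.obj.hom)
    (repWith_comp ((repWith_yon_map_iff _ _).2 (B.property.property_snd A.obj.hom)) A.property)
  let p : E ⟶ A := EtOver.homMk p₀ rfl
  let q : E ⟶ B := EtOver.homMk q₁ (by rw [hq₁]; exact sq.w)
  have hl : IsLimit (BinaryFan.mk p q) := BinaryFan.IsLimit.mk _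
    (fun {T} s t => EtOver.homMk ((yon S).preimage (sq.lift ((yon S).map t.hom.left) ((yon S).map s.hom.left)
        (by rw [EtOver.w, EtOver.w]))) (by
      show _ ≫ (yon S).map p₀ ≫ A.obj.hom = T.obj.hom
      rw [Functor.map_preimage, ← Category.assoc, sq.lift_snd, EtOver.w]))
    (fun {T} s t => EtOver.hom_ext _ _ ((yon S).map_injective (by
      show (yon S).map (_ ≫ p₀) = _
      rw [Functor.map_comp]
      simp only [EtOver.homMk, ObjectProperty.homMk, CostructuredArrow.homMk_left, Functor.map_preimage]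
      exact sq.lift_snd _ _ _)))
    (fun {T} s t => EtOver.hom_ext _ _ ((yon S).map_injective (by
      show (yon S).map (_ ≫ q₁) = _
      rw [Functor.map_comp, hq₁]
      simp only [EtOver.homMk, ObjectProperty.homMk, CostructuredArrow.homMk_left, Functor.map_preimage]
      exact sq.lift_fst _ _ _)))
    (fun {T} s t m h₁ h₂ => EtOver.hom_ext _ _ ((yon S).map_injective (by
      simp only [EtOver.homMk, ObjectProperty.homMk, CostructuredArrow.homMk_left, Functor.map_preimage]
      apply sq.hom_ext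
      · rw [sq.lift_fst, ← hq₁, ← Functor.map_comp, ← h₂]
        rfl
      · rw [sq.lift_snd, ← Functor.map_comp, ← h₁]
        rfl)))
  refine ⟨(siteEquiv X).functor.obj E, _, _, ?_,
    ⟨mapIsLimitOfPreservesOfIsLimit (siteEquiv X).functor p q hl⟩⟩
  -- the underlying scheme: a base change of the diagonal
  let r : (yon S).obj W ⟶ (yon S).obj A.obj.left ⨯ (yon S).obj B.obj.left := prod.lift ((yon S).map p₀) q₀
  let d : (yon S).obj A.obj.left ⨯ (yon S).obj B.obj.left ⟶ X ⨯ X := prod.map A.obj.hom B.obj.hom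
  have sq' : IsPullback ((yon S).map p₀ ≫ A.obj.hom) r (Limits.diag X) d := by
    refine IsPullback.of_isLimit' ⟨?_⟩ (PullbackCone.IsLimit.mk _
      (fun s => sq.lift (s.snd ≫ prod.snd) (s.snd ≫ prod.fst) ?_) (fun s => ?_) (fun s => ?_) fun s m h₁ h₂ => ?_)
    · apply prod.hom_ext
      · simp [r, d]
      · simp [r, d, sq.w]
    · have h1 := s.condition =≫ prod.fst
      have h2 := s.condition =≫ prod.snd
      simp [d] at h1 h2
      rw [Category.assoc, Category.assoc, ← h1, ← h2]
    · have h1 := s.condition =≫ prod.fst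
      simp [d] at h1
      rw [← Category.assoc, sq.lift_snd, Category.assoc, ← h1]
    · apply prod.hom_ext
      · simp [r]
      · simp [r]
    · apply sq.hom_ext
      · rw [sq.lift_fst, ← h₂]
        simp [r]
      · rw [sq.lift_snd, ← h₂]
        simp [r]
  let e := PreservesLimitPair.iso (yon S) A.obj.left B.obj.left
  let r₁ : W ⟶ A.obj.left ⨯ B.obj.left := prod.lift p₀ q₁
  have hr : (yon S).map r₁ = r ≫ e.inv := by
    rw [Iso.eq_comp_inv]
    apply prod.hom_ext <;> simp [r, r₁, e, ← Functor.map_comp, hq₁]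
  have hdiag : RepWith @QuasiCompact ((yon S).map r₁) := by
    rw [hr]
    exact (MorphismProperty.RespectsIso.postcomp (P := RepWith @QuasiCompact) e.inv r
      (repWith_of_isPullback sq' hXqs))
  have hqc : QuasiCompact r₁.left := (repWith_yon_map_iff _ _).1 hdiag
  have : Mono r := MorphismProperty.of_isPullback (P := MorphismProperty.monomorphisms _) sq'
    (inferInstanceAs (Mono (Limits.diag X)))
  have : Mono ((yon S).map r₁) := by rw [hr]; infer_instance
  have : Mono r₁ := (yon S).mono_of_mono_map this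
  have : Mono r₁.left := inferInstanceAs (Mono ((Over.forget S).map r₁))
  have := hU.compact
  have := hU.qs
  have := hV.compact
  have := hV.qs
  let i := Over.prodLeftIsoPullback A.obj.left B.obj.left
  have hBc : QuasiCompact B.obj.left.hom := inferInstance
  have hBs : QuasiSeparated B.obj.left.hom := inferInstance
  have : CompactSpace ↥(Limits.pullback A.obj.left.hom B.obj.left.hom) :=
    compactSpace_of_quasiCompact (pullback.fst A.obj.left.hom B.obj.left.hom)
  have : QuasiSeparatedSpace ↥(Limits.pullback A.obj.left.hom B.obj.left.hom) :=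
    AlgebraicGeometry.quasiSeparatedSpace_of_quasiSeparated (pullback.fst A.obj.left.hom B.obj.left.hom)
  have : CompactSpace ↥(A.obj.left ⨯ B.obj.left).left := compactSpace_of_quasiCompact i.hom
  have : QuasiSeparatedSpace ↥(A.obj.left ⨯ B.obj.left).left := quasiSeparated_of_mono i.hom
  exact ⟨compactSpace_of_quasiCompact r₁.left, quasiSeparated_of_mono r₁.left⟩

/-- A morphism of sheaves of representables comes from the site. -/
theorem exists_epsMap_eq {U V : Site X} (f : eps (siteTop X) U ⟶ eps (siteTop X) V) :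
    ∃ g : U ⟶ V, f = epsMap g := by
  have : IsIso (toSheafify (siteTop X) (yoneda.obj V)) :=
    isIso_toSheafify _ ((isSheaf_iff_isSheaf_of_type _ _).2
      (GrothendieckTopology.Subcanonical.isSheaf_of_isRepresentable _))
  refine ⟨(inv (toSheafify (siteTop X) (yoneda.obj V))).app (op U) (f.hom.app (op U) (epsGen _ U)),
    eps_hom_ext ?_⟩
  rw [epsMap_gen, eps_map_gen]
  exact (Iso.inv_hom_id_apply ((asIso (toSheafify (siteTop X) (yoneda.obj V))).app (op U)) _).symm

variable (X) in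
/-- The associated sheaves of the qcqs objects. -/
def qcqsEps : Set (Sh (siteTop X)) := {K | ∃ V : Site X, IsQcqsEt V ∧ K = eps (siteTop X) V}

theorem isQC_of_mem_qcqsEps : ∀ K ∈ qcqsEps X, IsQC K := by
  rintro K ⟨V, hV, rfl⟩
  refine (isQC_eps_iff V).1 fun R hR => ?_
  choose W g hg hx using exists_mem_of_siteTop hR
  obtain ⟨t, ht⟩ := (isCompact_univ_iff.2 hV.compact).elim_finite_subcover
    (fun x : ↥(dn V).obj.left.left => Set.range (g x).down.hom.left.left)
    (fun x => have := EtOver.etale_left (g x).down; (g x).down.hom.left.left.isOpenMap.isOpen_range)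
    (fun x _ => Set.mem_iUnion.2 ⟨x, hx x⟩)
  let e := t.equivFin.symm
  refine ⟨t.card, fun k => W (e k).1, fun k => g (e k).1, fun k => hg _, ofArrows_mem_siteTop _ _ fun x => ?_⟩
  obtain ⟨b, hb, hxb⟩ := Set.mem_iUnion₂.1 (ht (Set.mem_univ x))
  obtain ⟨k, hk⟩ := e.surjective ⟨b, hb⟩
  exact ⟨k, by rw [hk]; exact hxb⟩

theorem isGenerating_qcqsEps : IsGenerating (qcqsEps X) := by
  intro F
  refine ⟨Σ V : {V : Site X // IsQcqsEt V}, F.obj.obj (op V.1), fun p => eps _ p.1.1,
    fun p => epsDesc p.2, fun p => ⟨p.1.1, p.1.2, rfl⟩, cov_iff.1 fun V y => ?_⟩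
  let D := (dn V).obj.left
  let O : D.left.affineOpens → EtOver X := fun A => EtOver.mk
    ((yon S).map (Over.homMk A.1.ι rfl : Over.mk (A.1.ι ≫ D.hom) ⟶ D) ≫ (dn V).obj.hom)
    (repWith_comp ((repWith_yon_map_iff _ _).2 (inferInstanceAs (Etale A.1.ι))) (dn V).property)
  let g : ∀ A, ULiftHom.objUp (O A) ⟶ V := fun A =>
    up (EtOver.homMk (Over.homMk A.1.ι rfl : Over.mk (A.1.ι ≫ D.hom) ⟶ D) rfl)
  refine (siteTop X).superset_covering ?_ (ofArrows_mem_siteTop _ g fun x => ?_)
  · rw [Sieve.ofArrows, Sieve.generate_le_iff]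
    rintro _ _ ⟨A⟩
    exact ⟨⟨⟨ULiftHom.objUp (O A), isQcqsEt_of_isAffine A.2⟩, F.obj.map (g A).op y⟩, epsGen _ _, epsDesc_gen _⟩
  · obtain ⟨A, hA, hx, -⟩ := TopologicalSpace.Opens.isBasis_iff_nbhd.1 D.left.isBasis_affineOpens
      (TopologicalSpace.Opens.mem_top x)
    exact ⟨⟨A, hA⟩, ⟨x, hx⟩, rfl⟩

theorem closedUnderPullbacks_qcqsEps : ClosedUnderPullbacks (qcqsEps X) := by
  rintro K L M f g ⟨U, hU, rfl⟩ ⟨V, hV, rfl⟩ ⟨W, hW, rfl⟩
  obtain ⟨a, rfl⟩ := exists_epsMap_eq f
  obtain ⟨b, rfl⟩ := exists_epsMap_eq g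
  obtain ⟨P, p, q, hP, hsq⟩ := exists_pullback a b hU hV hW.qs
  exact ⟨_, epsMap p, epsMap q, ⟨P, hP, rfl⟩, (hsq.map yoneda).map (presheafToSheaf _ (Type (u + 1)))⟩

include hXqs in
theorem closedUnderEqualizers_qcqsEps : ClosedUnderEqualizers (qcqsEps X) := by
  rintro K L f g ⟨U, hU, rfl⟩ ⟨W, hW, rfl⟩
  obtain ⟨a, rfl⟩ := exists_epsMap_eq f
  obtain ⟨b, rfl⟩ := exists_epsMap_eq g
  obtain ⟨P, p, q, hP, ⟨hl⟩⟩ := exists_prod hXqs hW hW
  obtain ⟨Δ, hΔp, hΔq⟩ := BinaryFan.IsLimit.lift' hl (𝟙 W) (𝟙 W)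
  obtain ⟨c, hcp, hcq⟩ := BinaryFan.IsLimit.lift' hl a b
  change Δ ≫ p = _ at hΔp
  change Δ ≫ q = _ at hΔq
  change c ≫ p = _ at hcp
  change c ≫ q = _ at hcq
  obtain ⟨E, e, k, hE, hsq⟩ := exists_pullback c Δ hU hW hP.qs
  have hk₁ : e ≫ a = k := by rw [← hcp, reassoc_of% hsq.w, hΔp, Category.comp_id]
  have hk₂ : e ≫ b = k := by rw [← hcq, reassoc_of% hsq.w, hΔq, Category.comp_id]
  have w : e ≫ a = e ≫ b := hk₁.trans hk₂.symm
  have hf : IsLimit (Fork.ofι e w) := Fork.IsLimit.mk _
    (fun s => hsq.lift s.ι (s.ι ≫ a) (BinaryFan.IsLimit.hom_ext hl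
      (by show (s.ι ≫ c) ≫ p = ((s.ι ≫ a) ≫ Δ) ≫ p; simp [hcp, hΔp])
      (by show (s.ι ≫ c) ≫ q = ((s.ι ≫ a) ≫ Δ) ≫ q; simp [hcq, hΔq, s.condition])))
    (fun s => hsq.lift_fst _ _ _) (fun s m hm => by
      apply hsq.hom_ext
      · rw [hsq.lift_fst]; exact hm
      · rw [hsq.lift_snd, ← hk₁, ← Category.assoc]
        exact congrArg (· ≫ a) hm)
  let L := yoneda ⋙ presheafToSheaf (siteTop X) (Type (u + 1))
  have w' : epsMap (J := siteTop X) e ≫ epsMap a = epsMap e ≫ epsMap b :=
    (L.map_comp e a).symm.trans ((congrArg L.map w).trans (L.map_comp e b))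
  exact ⟨_, epsMap e, w', ⟨E, hE, rfl⟩, ⟨isLimitForkMapOfIsLimit L w hf⟩⟩

include hXqs in
theorem isAlgebraic : IsAlgebraic (siteTop X) :=
  ⟨qcqsEps X, isQC_of_mem_qcqsEps, isGenerating_qcqsEps, closedUnderPullbacks_qcqsEps,
    closedUnderEqualizers_qcqsEps hXqs⟩

include hXqs in
theorem isCoherent_terminal (hX : IsQuasiCompactSp X) : IsCoherent (⊤_ (Sh (siteTop X))) := by
  obtain ⟨U₀, a, hU, hae, has⟩ := AlgSpDM.exists_affine_chart hX
  let V₀ : Site X := ULiftHom.objUp (EtOver.mk a hae)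
  have hV₀ : IsQcqsEt V₀ := isQcqsEt_of_isAffine hU
  have hπ : Cov (fun _ : PUnit.{u + 2} => terminal.from (eps (siteTop X) V₀)) := by
    intro V y
    let W := hae.rep.pullback (dn V).obj.hom
    let E : EtOver X := EtOver.mk ((yon S).map (hae.rep.snd (dn V).obj.hom) ≫ (dn V).obj.hom)
      (repWith_comp ((repWith_yon_map_iff _ _).2 (hae.property_snd _)) (dn V).property)
    let gV : E ⟶ dn V := EtOver.homMk (hae.rep.snd (dn V).obj.hom) rfl
    let g₀ : E ⟶ dn V₀ := EtOver.homMk ((yon S).preimage (hae.rep.fst (dn V).obj.hom)) (by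
      rw [Functor.map_preimage]
      exact hae.rep.w _)
    have hs : Surjective gV.hom.left.left := has.property _ _ _ (hae.rep.isPullback _)
    refine (siteTop X).superset_covering ?_
      (ofArrows_mem_siteTop (fun _ : PUnit.{u + 2} => ULiftHom.objUp E) (fun _ => up gV) fun x => ⟨⟨⟩, hs.surj x⟩)
    rw [Sieve.ofArrows, Sieve.generate_le_iff]
    rintro _ _ ⟨i⟩
    refine ⟨⟨⟩, (eps (siteTop X) V₀).obj.map (up g₀ : ULiftHom.objUp E ⟶ V₀).op (epsGen _ _), ?_⟩
    haveI : Subsingleton ((⊤_ (Sh (siteTop X))).obj.obj (op (ULiftHom.objUp E))) :=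
      Types.isTerminalEquivUnique _ (IsTerminal.isTerminalObj
        (sheafToPresheaf _ _ ⋙ (evaluation _ (Type (u + 1))).obj (op (ULiftHom.objUp E))) _ terminalIsTerminal)
      |>.instSubsingleton
    exact Subsingleton.elim _ _
  refine ⟨isQC_of_finite_cov _ _ hπ fun _ => isQC_of_mem_qcqsEps _ ⟨V₀, hV₀, rfl⟩, ?_⟩
  refine isQS_of_cov (gen_of_isGenerating isGenerating_qcqsEps) hπ fun A B i j f g hA hB => ?_
  obtain ⟨U, hU', rfl⟩ := hA
  obtain ⟨V, hV', rfl⟩ := hB
  obtain ⟨P, p, q, hP, ⟨hl⟩⟩ := exists_prod hXqs hU' hV'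
  let L := yoneda ⋙ presheafToSheaf (siteTop X) (Type (u + 1))
  have h := IsPullback.of_is_product (mapIsLimitOfPreservesOfIsLimit L p q hl) (terminalIsTerminal (C := Sh (siteTop X)))
  refine isQC_of_iso ?_ (isQC_of_mem_qcqsEps _ ⟨P, hP, rfl⟩)
  exact h.isoPullback ≪≫ pullback.congrHom (Subsingleton.elim _ _) (Subsingleton.elim _ _)

include hXqs in
/-- Cohomology on the raised site commutes with filtered colimits. -/
theorem preservesColimitsOfShape_functorH (hX : IsQuasiCompactSp X) (Λ : Type (u + 1)) [SmallCategory Λ]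
    [IsFiltered Λ] (n : ℕ) :
    PreservesColimitsOfShape Λ
      (Sheaf.functorH.{u + 1, u + 1} (siteTop X) n) :=
  Groth.Agent.S3877.result (isAlgebraic hXqs) (isCoherent_terminal hXqs hX) Λ n

include hXqs in
/-- Etale cohomology of a quasi-compact quasi-separated space commutes with filtered colimits. -/
theorem preservesColimitsOfShape_hEtF (hX : IsQuasiCompactSp X) (Λ : Type (u + 1)) [SmallCategory Λ]
    [IsFiltered Λ] (n : ℕ) : PreservesColimitsOfShape Λ (HEtF X n) := by
  obtain ⟨e⟩ := nonempty_functorH_iso.{u + 1, u + 1} (etTop X) (siteTop X) (siteEquiv X) n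
  haveI := preservesColimitsOfShape_functorH hXqs hX Λ n
  exact preservesColimitsOfShape_of_natIso e.symm

end Groth.Agent.AlgSpMor
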