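import Groth.Agent.AlgSpMor.KoszulLocus
import Groth.Agent.AlgSpDec.RelDimSp
import Groth.Agent.AlgSpDec.MonoRep
import Groth.Agent.AlgSpDec.LimDescent
import Groth.Agent.AlgSpLib.LocalBaseTop
import Groth.Agent.AlgSpPts.Dim
import Groth.Agent.FibDim.BaseField
import Groth.Agent.S0403
import Groth.Agent.S0404
import Groth.Agent.S3389

/-!
# Dimension of the fibres of morphisms of algebraic spaces
-/

set_option autoImplicit false
set_option linter.style.haveILetI false
set_option backward.isDefEq.respectTransparency false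
set_option backward.isDefEq.respectTransparency.types false

universe u

open CategoryTheory CategoryTheory.Limits AlgebraicGeometry Opposite AlgSp

namespace Groth.Agent.AlgSpMor

open Groth.Agent.AlgSpLib Groth.Agent.AlgSpPts

variable {S : Scheme.{u}}

/-- The dimension of a space is the dimension of any etale surjective chart. -/
theorem dim_eq_of_atlas {F : Sp S} {U : Over S} {a : (yon S).obj U ⟶ F} (ha : RepWith @Etale a)
    (has : RepWith @Surjective a) : AlgSp.dim F = topologicalKrullDim ↥U.left := by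
  refine le_antisymm (dim_le_iff.2 fun U' a' ha' u' => ?_) (le_iSup₂_of_le U a (le_iSup_of_le ha le_rfl))
  obtain ⟨u, hu⟩ := surjective_ofPt has (Points.ofPt a' u')
  rw [← coheight_eq_of_charts ha ha' hu, topologicalKrullDim_eq_krullDim]
  exact @Order.coheight_le_krullDim ↥U.left (specializationPreorder _) u

variable {X Y : Sp S} {f : X ⟶ Y}

/-- The dimension of a fibre over a field point is the dimension of the scheme fibre of a chart. -/
theorem dim_fibre_eq (hX : IsAlgSpace X) (hY : IsAlgSpace Y) (hf : LocP @LocallyOfFiniteType f)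
    {V : Over S} {b : (yon S).obj V ⟶ Y} {U : Over S} {a₀ : (yon S).obj U ⟶ pullback f b} {g : U ⟶ V}
    (h1 : RepWith @Etale a₀) (h2 : RepWith @Surjective a₀) (h3 : a₀ ≫ pullback.snd f b = (yon S).map g)
    (v : ↥V.left) {k : FieldPt Y} (hk : Points.mk k = Points.ofPt b v) {Xk : Sp S} {fst : Xk ⟶ X}
    {snd : Xk ⟶ (yon S).obj k.pt} (sq : IsPullback fst snd f k.toHom) :
    AlgSp.dim Xk = topologicalKrullDim ↥(g.left.fiber v) := by
  obtain ⟨Ω, _, w, c, d, hcd⟩ := Points.mk_eq_mk_iff.1 hk
  let q := FieldPt.ofPt b v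
  have e : (yon S).map c ≫ k.toHom = (yon S).map d ≫ q.toHom := by
    apply (J S).uliftYonedaEquiv.injective
    rw [← uliftYonedaEquiv_precomp, ← uliftYonedaEquiv_precomp, FieldPt.uliftYonedaEquiv_toHom,
      FieldPt.uliftYonedaEquiv_toHom, hcd]
  let ι : q.pt ⟶ V := Over.homMk (V.left.fromSpecResidueField v) rfl
  rw [FieldPt.toHom_ofPt, ← Functor.map_comp_assoc] at e
  let P := pullback f ((yon S).map c ≫ k.toHom)
  have sqP := IsPullback.of_hasPullback f ((yon S).map c ≫ k.toHom)
  obtain ⟨U₁, a₁, g₁, k1, k2, k3⟩ := exists_chart_over hX hY f k.toHom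
  have hXk : AlgSp.dim Xk = topologicalKrullDim ↥U₁.left := by
    have := sq.isoPullback
    exact dim_eq_of_atlas (a := a₁ ≫ sq.isoPullback.inv) (repWith_comp k1 (repWith_of_isIso _ _))
      (repWith_comp k2 (repWith_of_isIso _ _))
  obtain ⟨p₁, -, -, hp₁⟩ := exists_bc_chart sqP k3 (c := 𝟙 _) (t := c) (Category.id_comp _)
  obtain ⟨p₂, -, -, hp₂⟩ := exists_bc_chart sqP h3 (c := 𝟙 _) (t := d ≫ ι)
    (by rw [Category.id_comp]; exact e)
  have hd1 : AlgSp.dim P = topologicalKrullDim ↥(pullback g₁ c).left :=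
    dim_eq_of_atlas (hp₁ _ k1 (repWith_id _ _)) (hp₁ _ k2 (repWith_id _ _))
  have hd2 : AlgSp.dim P = topologicalKrullDim ↥(pullback g (d ≫ ι)).left :=
    dim_eq_of_atlas (hp₂ _ h1 (repWith_id _ _)) (hp₂ _ h2 (repWith_id _ _))
  haveI : LocallyOfFiniteType g₁.left :=
    locP_of_isPullback (IsPullback.of_hasPullback f k.toHom) hX hY (IsAlgSpace.yon_obj _) hf a₁ (𝟙 _) g₁
      k1 (repWith_id _ _) (by rw [Category.comp_id]; exact k3)
  haveI : LocallyOfFiniteType g.left :=
    locP_of_isPullback (IsPullback.of_hasPullback f b) hX hY (IsAlgSpace.yon_obj _) hf a₀ (𝟙 _) g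
      h1 (repWith_id _ _) (by rw [Category.comp_id]; exact h3)
  haveI : Subsingleton ↥k.pt.left := inferInstanceAs (Subsingleton ↥(Spec _))
  haveI : Subsingleton ↥(Over.mk w).left := inferInstanceAs (Subsingleton ↥(Spec _))
  haveI : Nonempty ↥(Over.mk w).left := inferInstanceAs (Nonempty ↥(Spec _))
  haveI : Subsingleton ↥(Spec (V.left.residueField v)) := inferInstanceAs (Subsingleton (PrimeSpectrum _))
  have sq1 : IsPullback (pullback.fst g₁ c).left (pullback.snd g₁ c).left g₁.left c.left :=
    (IsPullback.of_hasPullback g₁ c).map (Over.forget S)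
  haveI : LocallyOfFiniteType (pullback.snd g₁ c).left :=
    MorphismProperty.of_isPullback (P := @LocallyOfFiniteType) sq1 ‹LocallyOfFiniteType g₁.left›
  have sq2 : IsPullback (pullback.fst g (d ≫ ι)).left (pullback.snd g (d ≫ ι)).left g.left
      (d.left ≫ V.left.fromSpecResidueField v) := (IsPullback.of_hasPullback g (d ≫ ι)).map (Over.forget S)
  let d' : (Over.mk w).left ⟶ Spec (V.left.residueField v) := d.left
  let E := (IsPullback.of_hasPullback g.left (V.left.fromSpecResidueField v))
  let l : (pullback g (d ≫ ι)).left ⟶ g.left.fiber v :=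
    E.lift (pullback.fst g (d ≫ ι)).left ((pullback.snd g (d ≫ ι)).left ≫ d') (by rw [Category.assoc]; exact sq2.w)
  have sq3 : IsPullback l (pullback.snd g (d ≫ ι)).left (g.left.fiberToSpecResidueField v) d' :=
    IsPullback.of_right (h₁₂ := g.left.fiberι v)
      (by rw [show l ≫ g.left.fiberι v = _ from E.lift_fst _ _ _]; exact sq2) (E.lift_snd _ _ _) E
  haveI : LocallyOfFiniteType (pullback.snd g (d ≫ ι)).left :=
    MorphismProperty.of_isPullback (P := @LocallyOfFiniteType) sq2 ‹LocallyOfFiniteType g.left›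
  rw [hXk, ← FibDim.topologicalKrullDim_baseChange sq1, ← hd1, hd2, FibDim.topologicalKrullDim_baseChange sq3]

/-- The fibre over a point of a chart is empty iff the point is not in the image. -/
theorem fiber_isEmpty_iff {V : Over S} {b : (yon S).obj V ⟶ Y}
    {U : Over S} {a₀ : (yon S).obj U ⟶ pullback f b} {g : U ⟶ V} (h2 : RepWith @Surjective a₀)
    (h3 : a₀ ≫ pullback.snd f b = (yon S).map g) (v : ↥V.left) :
    IsEmpty ↥(g.left.fiber v) ↔ Points.ofPt b v ∉ Set.range (Points.map f) := by
  have himg : ∀ u, Points.map (pullback.snd f b) (Points.ofPt a₀ u) = Points.ofScheme V (g.left u) := fun u => by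
    rw [Points.map_ofPt, h3]
    exact (congrArg (Points.ofPt · u) (Category.comp_id _).symm).trans (ofPt_comp g (𝟙 _) u)
  constructor
  · rintro h ⟨x, hx⟩
    obtain ⟨z, -, hz⟩ := exists_point_of_isPullback (IsPullback.of_hasPullback f b) (x := x)
      (y := Points.ofScheme V v) (hx.trans (Points.ofPt_eq_map_ofScheme b v))
    obtain ⟨u, rfl⟩ := surjective_ofPt h2 z
    have hu : g.left u = v := (Points.schemeHomeo V).injective ((himg u).symm.trans hz)
    subst hu
    exact h.false (g.left.asFiber u)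
  · intro h
    refine ⟨fun z => h ⟨Points.map (pullback.fst f b) (Points.ofPt a₀ (g.left.fiberι v z)), ?_⟩⟩
    rw [← Points.map_comp, pullback.condition, Points.map_comp, himg, FibDim.fiber_apply_fiberι,
      ← Points.ofPt_eq_map_ofScheme]

theorem topologicalKrullDim_eq_bot_iff {T : Scheme.{u}} : topologicalKrullDim ↥T = ⊥ ↔ IsEmpty ↥T := by
  rw [topologicalKrullDim_eq_krullDim]
  exact @Order.krullDim_eq_bot_iff ↥T (specializationPreorder _)

/-- The dimension of a fibre is bounded by the relative dimensions at the points over the point. -/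
theorem topologicalKrullDim_fiber_le_iff_hasAtMor (hf : LocP @LocallyOfFiniteType f)
    {V : Over S} {b : (yon S).obj V ⟶ Y} (hb : RepWith @Etale b)
    {U : Over S} {a₀ : (yon S).obj U ⟶ pullback f b} {g : U ⟶ V}
    (h1 : RepWith @Etale a₀) (h2 : RepWith @Surjective a₀) (h3 : a₀ ≫ pullback.snd f b = (yon S).map g)
    (v : ↥V.left) (n : ℕ) :
    topologicalKrullDim ↥(g.left.fiber v) ≤ n ↔ ∀ x, Points.map f x = Points.ofPt b v →
      HasAtMor (fun _ _ h u => FlatMor.fibreDimAt h u ≤ (n : WithBot ℕ∞)) f x := by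
  have ha : RepWith @Etale (a₀ ≫ pullback.fst f b) := repWith_comp h1 (repWith_fst f hb)
  have w : (a₀ ≫ pullback.fst f b) ≫ f = (yon S).map g ≫ b := by
    rw [Category.assoc, pullback.condition, ← Category.assoc, h3]
  haveI : LocallyOfFiniteType g.left := hf _ b g ha hb w
  have himg : ∀ u, Points.map (pullback.snd f b) (Points.ofPt a₀ u) = Points.ofScheme V (g.left u) := fun u => by
    rw [Points.map_ofPt, h3]
    exact (congrArg (Points.ofPt · u) (Category.comp_id _).symm).trans (ofPt_comp g (𝟙 _) u)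
  rw [FibDim.topologicalKrullDim_fiber_le_iff]
  constructor
  · intro h x hx
    obtain ⟨z, hz, hz'⟩ := exists_point_of_isPullback (IsPullback.of_hasPullback f b) (x := x)
      (y := Points.ofScheme V v) (hx.trans (Points.ofPt_eq_map_ofScheme b v))
    obtain ⟨u, rfl⟩ := surjective_ofPt h2 z
    have hu : g.left u = v := (Points.schemeHomeo V).injective ((himg u).symm.trans hz')
    exact ⟨U, V, _, b, g, u, ha, hb, w, by rw [← hz, Points.map_ofPt],
      (FibDim.fibreDimAt_le_iff g.left u n).2 fun z _ hz => h z (hz.trans hu)⟩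
  · intro h z hz
    obtain ⟨U', V', a', b', h', u', ha', hb', w', hx, hd⟩ := h (Points.ofPt (a₀ ≫ pullback.fst f b) z) (by
      rw [Points.map_ofPt, w, ofPt_comp, hz])
    rw [← AlgSpDec.RelDimSp.fibreDimAt_congr hf ha hb w ha' hb' w' hx.symm] at hd
    exact (FibDim.fibreDimAt_le_iff g.left z n).1 hd z (specializes_refl z) rfl

/-- Emptiness and bounds of the fibre dimension. -/
theorem dim_fibre_iff (hX : IsAlgSpace X) (hY : IsAlgSpace Y) (hf : LocP @LocallyOfFiniteType f) (k : FieldPt Y)
    {Xk : Sp S} {fst : Xk ⟶ X} {snd : Xk ⟶ (yon S).obj k.pt} (sq : IsPullback fst snd f k.toHom) :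
    (AlgSp.dim Xk = ⊥ ↔ Points.mk k ∉ Set.range (Points.map f)) ∧
      ∀ n : ℕ, (AlgSp.dim Xk ≤ n ↔ ∀ x, Points.map f x = Points.mk k →
        HasAtMor (fun _ _ h u => FlatMor.fibreDimAt h u ≤ (n : WithBot ℕ∞)) f x) := by
  obtain ⟨V, b, v, -, hb, hv⟩ := AlgSpDec.exists_affine_chart_at hY (Points.mk k)
  obtain ⟨U, a₀, g, h1, h2, h3⟩ := exists_chart_over hX hY f b
  rw [dim_fibre_eq hX hY hf h1 h2 h3 v hv.symm sq, topologicalKrullDim_eq_bot_iff, fiber_isEmpty_iff h2 h3 v, ← hv]
  exact ⟨Iff.rfl, topologicalKrullDim_fiber_le_iff_hasAtMor hf hb h1 h2 h3 v⟩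

/-- Points where every fibre dimension satisfies a predicate. -/
def dimLocus (f : X ⟶ Y) (Q : WithBot ℕ∞ → Prop) : Set (Points Y) :=
  {y | ∀ (k : FieldPt Y), Points.mk k = y → ∀ (Xk : Sp S) (fst : Xk ⟶ X) (snd : Xk ⟶ (yon S).obj k.pt),
    IsPullback fst snd f k.toHom → Q (AlgSp.dim Xk)}

theorem mem_dimLocus_ofPt (hX : IsAlgSpace X) (hY : IsAlgSpace Y) (hf : LocP @LocallyOfFiniteType f)
    (Q : WithBot ℕ∞ → Prop) {V : Over S} {b : (yon S).obj V ⟶ Y} {U : Over S}
    {a₀ : (yon S).obj U ⟶ pullback f b} {g : U ⟶ V}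
    (h1 : RepWith @Etale a₀) (h2 : RepWith @Surjective a₀) (h3 : a₀ ≫ pullback.snd f b = (yon S).map g)
    (v : ↥V.left) : Points.ofPt b v ∈ dimLocus f Q ↔ Q (topologicalKrullDim ↥(g.left.fiber v)) := by
  constructor
  · intro h
    have sq := IsPullback.of_hasPullback f (FieldPt.ofPt b v).toHom
    have := h (FieldPt.ofPt b v) rfl _ _ _ sq
    rwa [dim_fibre_eq hX hY hf h1 h2 h3 v rfl sq] at this
  · intro h k hk Xk fst snd sq
    rwa [dim_fibre_eq hX hY hf h1 h2 h3 v hk sq]

theorem isOpen_dimLocus_lt_natCast (hX : IsAlgSpace X) (hY : IsAlgSpace Y) (hf : LocP @LocallyOfFiniteType f)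
    (hcl : IsClosedMap (Points.map f)) (n : ℕ) : IsOpen (dimLocus f fun e => e ≤ (n : WithBot ℕ∞)) := by
  have : dimLocus f (fun e => e ≤ (n : WithBot ℕ∞)) =
      (Points.map f '' {x | HasAtMor (fun _ _ h u => FlatMor.fibreDimAt h u ≤ (n : WithBot ℕ∞)) f x}ᶜ)ᶜ := by
    ext y
    simp only [Set.mem_compl_iff, Set.mem_image, not_exists, not_and]
    constructor
    · intro h x hx hxy
      obtain ⟨k, rfl⟩ := Points.mk_surjective y
      have sq := IsPullback.of_hasPullback f k.toHom
      exact hx (((dim_fibre_iff hX hY hf k sq).2 n).1 (h k rfl _ _ _ sq) x hxy)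
    · intro h k hk Xk fst snd sq
      subst hk
      exact ((dim_fibre_iff hX hY hf k sq).2 n).2 fun x hx => by_contra fun hne => h x hne hx
  rw [this]
  exact (hcl _ (AlgSpDec.RelDimSp.isOpen_le hf n).isClosed_compl).isOpen_compl

/-- Upper semicontinuity of the fibre dimension of a closed morphism locally of finite type. -/
theorem isOpen_dimLocus_lt (hX : IsAlgSpace X) (hY : IsAlgSpace Y) (hf : LocP @LocallyOfFiniteType f)
    (hcl : IsClosedMap (Points.map f)) (d : WithBot ℕ∞) : IsOpen (dimLocus f fun e => e < d) := by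
  induction d with
  | bot =>
    have : dimLocus f (fun e => e < ⊥) = ∅ := Set.eq_empty_of_forall_notMem fun y h => by
      obtain ⟨k, rfl⟩ := Points.mk_surjective y
      exact not_lt_bot (h k rfl _ _ _ (IsPullback.of_hasPullback f k.toHom))
    rw [this]; exact isOpen_empty
  | coe d =>
    induction d with
    | top =>
      have : dimLocus f (fun e => e < ((⊤ : ℕ∞) : WithBot ℕ∞)) =
          ⋃ n : ℕ, dimLocus f (fun e => e ≤ (n : WithBot ℕ∞)) := by
        ext y
        simp only [Set.mem_iUnion]
        constructor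
        · intro h
          obtain ⟨V, b, v, -, -, rfl⟩ := AlgSpDec.exists_affine_chart_at hY y
          obtain ⟨U, a₀, g, h1, h2, h3⟩ := exists_chart_over hX hY f b
          simp only [mem_dimLocus_ofPt hX hY hf _ h1 h2 h3] at h ⊢
          revert h
          generalize topologicalKrullDim ↥(g.left.fiber v) = e
          intro h
          induction e with
          | bot => exact ⟨0, bot_le⟩
          | coe e =>
            lift e to ℕ using (WithBot.coe_lt_coe.1 h).ne
            exact ⟨e, le_rfl⟩
        · rintro ⟨n, hn⟩ k hk Xk fst snd sq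
          exact lt_of_le_of_lt (hn k hk Xk fst snd sq) (WithBot.coe_lt_coe.2 (ENat.natCast_lt_top n))
      rw [this]
      exact isOpen_iUnion fun n => isOpen_dimLocus_lt_natCast hX hY hf hcl n
    | coe n =>
      cases n with
      | zero =>
        have : dimLocus f (fun e => e < (((0 : ℕ) : ℕ∞) : WithBot ℕ∞)) = (Set.range (Points.map f))ᶜ := by
          ext y
          obtain ⟨k₀, rfl⟩ := Points.mk_surjective y
          constructor
          · intro h
            have sq := IsPullback.of_hasPullback f k₀.toHom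
            refine (dim_fibre_iff hX hY hf k₀ sq).1.1 ?_
            have := h k₀ rfl _ _ _ sq
            revert this
            generalize AlgSp.dim (pullback f k₀.toHom) = e
            intro h
            induction e with
            | bot => rfl
            | coe e => exact absurd (WithBot.coe_lt_coe.1 h) (by simp)
          · intro h k hk Xk fst snd sq
            show AlgSp.dim Xk < _
            rw [(dim_fibre_iff hX hY hf k sq).1.2 (hk ▸ h)]
            exact WithBot.bot_lt_coe _
        rw [this]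
        exact hcl.isClosed_range.isOpen_compl
      | succ n =>
        have : dimLocus f (fun e => e < (((n + 1 : ℕ) : ℕ∞) : WithBot ℕ∞)) =
            dimLocus f (fun e => e ≤ (n : WithBot ℕ∞)) := by
          congr 1
          funext e
          induction e with
          | bot => exact propext ⟨fun _ => bot_le, fun _ => WithBot.bot_lt_coe _⟩
          | coe e =>
            refine propext ⟨fun h => WithBot.coe_le_coe.2 ?_, fun h => WithBot.coe_lt_coe.2 ?_⟩
            · exact Order.le_of_lt_add_one (by simpa using WithBot.coe_lt_coe.1 h)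
            · exact lt_of_le_of_lt (WithBot.coe_le_coe.1 h) (Nat.cast_lt.2 n.lt_succ_self)
        rw [this]
        exact isOpen_dimLocus_lt_natCast hX hY hf hcl n

/-- Openness can be checked on affine etale charts. -/
theorem isOpen_of_affine_charts (hY : IsAlgSpace Y) {W : Set (Points Y)}
    (h : ∀ (V : Over S) (b : (yon S).obj V ⟶ Y), IsAffine V.left → RepWith @Etale b →
      IsOpen (Points.ofPt b ⁻¹' W)) : IsOpen W := by
  refine isOpen_iff_forall_mem_open.2 fun y hy => ?_
  obtain ⟨V, b, v, hV, hb, rfl⟩ := AlgSpDec.exists_affine_chart_at hY y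
  exact ⟨_, Set.image_preimage_subset _ _, isOpenMap_ofPt hb _ (h V b hV hb), v, hy, rfl⟩

/-- Lower semicontinuity of the fibre dimension of a flat morphism of finite presentation. -/
theorem isOpen_dimLocus_gt (hX : IsAlgSpace X) (hY : IsAlgSpace Y) (hfl : LocP @Flat f)
    (hlfp : LocP @LocallyOfFinitePresentation f) (hq : IsQuasiCompactMor f) (d : WithBot ℕ∞) :
    IsOpen (dimLocus f fun e => d < e) := by
  refine isOpen_of_affine_charts hY fun V b hV hb => ?_
  haveI := hV
  obtain ⟨U, a₀, hU, h1, h2⟩ := AlgSpDec.exists_affine_atlas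
    (hq (IsAlgSpace.yon_obj V) (isQuasiCompactSp_yon V) b _ _ (IsPullback.of_hasPullback f b))
  obtain ⟨g, hg⟩ := (yon S).map_surjective (a₀ ≫ pullback.snd f b)
  have w : (a₀ ≫ pullback.fst f b) ≫ f = (yon S).map g ≫ b := by
    rw [Category.assoc, pullback.condition, ← Category.assoc, hg]
  haveI := hU
  haveI : Flat g.left := hfl _ b g (repWith_comp h1 (repWith_fst f hb)) hb w
  haveI : LocallyOfFinitePresentation g.left := hlfp _ b g (repWith_comp h1 (repWith_fst f hb)) hb w
  have hft : LocP @LocallyOfFiniteType f :=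
    locP_mono (fun _ _ e (_ : LocallyOfFinitePresentation e) => inferInstanceAs (LocallyOfFiniteType e)) hlfp
  convert Groth.Agent.S0404.result g.left d using 1
  ext v
  exact mem_dimLocus_ofPt hX hY hft _ h1 h2 hg.symm v

/-- Fibres of a quasi-compact morphism locally of finite type have finite dimension. -/
theorem dimLocus_top_eq_empty (hX : IsAlgSpace X) (hY : IsAlgSpace Y) (hf : LocP @LocallyOfFiniteType f)
    (hq : IsQuasiCompactMor f) : dimLocus f (fun e => e = ((⊤ : ℕ∞) : WithBot ℕ∞)) = ∅ := by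
  refine Set.eq_empty_of_forall_notMem fun y hy => ?_
  obtain ⟨V, b, v, hV, -, rfl⟩ := AlgSpDec.exists_affine_chart_at hY y
  haveI := hV
  obtain ⟨U, a₀, hU, h1, h2⟩ := AlgSpDec.exists_affine_atlas
    (hq (IsAlgSpace.yon_obj V) (isQuasiCompactSp_yon V) b _ _ (IsPullback.of_hasPullback f b))
  haveI := hU
  obtain ⟨g, hg⟩ := (yon S).map_surjective (a₀ ≫ pullback.snd f b)
  haveI : LocallyOfFiniteType g.left :=
    locP_of_isPullback (IsPullback.of_hasPullback f b) hX hY (IsAlgSpace.yon_obj _) hf a₀ (𝟙 _) g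
      h1 (repWith_id _ _) (by rw [Category.comp_id]; exact hg.symm)
  obtain ⟨n, hn⟩ := Groth.Agent.S3389.result g.left
  have := (mem_dimLocus_ofPt hX hY hf _ h1 h2 hg.symm v).1 hy
  exact absurd (this ▸ hn v) (not_le.2 (WithBot.coe_lt_coe.2 (ENat.natCast_lt_top n)))

/-- Local constancy of the fibre dimension. -/
theorem isOpen_dimLocus_eq (hX : IsAlgSpace X) (hY : IsAlgSpace Y) (hf : LocP @LocallyOfFiniteType f)
    (hfl : LocP @Flat f) (hlfp : LocP @LocallyOfFinitePresentation f) (hq : IsQuasiCompactMor f)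
    (hcl : IsClosedMap (Points.map f)) (d : WithBot ℕ∞) : IsOpen (dimLocus f fun e => e = d) := by
  have hinter : ∀ (p q : WithBot ℕ∞) , (∀ e, e = d ↔ p < e ∧ e < q) → IsOpen (dimLocus f fun e => e = d) := by
    intro p q h
    convert (isOpen_dimLocus_gt hX hY hfl hlfp hq p).inter (isOpen_dimLocus_lt hX hY hf hcl q) using 1
    ext y
    simp only [dimLocus, Set.mem_inter_iff, Set.mem_ofPred_eq, h]
    exact ⟨fun H => ⟨fun k hk Xk a b sq => (H k hk Xk a b sq).1, fun k hk Xk a b sq => (H k hk Xk a b sq).2⟩,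
      fun H k hk Xk a b sq => ⟨H.1 k hk Xk a b sq, H.2 k hk Xk a b sq⟩⟩
  induction d with
  | bot =>
    convert isOpen_dimLocus_lt hX hY hf hcl ((0 : ℕ∞) : WithBot ℕ∞) using 2
    funext e
    induction e with
    | bot => simp
    | coe e => simp
  | coe d =>
    induction d with
    | top => rw [dimLocus_top_eq_empty hX hY hf hq]; exact isOpen_empty
    | coe n =>
      cases n with
      | zero =>
        refine hinter ⊥ (((1 : ℕ) : ℕ∞) : WithBot ℕ∞) fun e => ?_
        induction e with
        | bot => simp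
        | coe e =>
          simp only [WithBot.bot_lt_coe, true_and, WithBot.coe_eq_coe, WithBot.coe_lt_coe]
          simp
      | succ n =>
        refine hinter ((n : ℕ∞) : WithBot ℕ∞) (((n + 2 : ℕ) : ℕ∞) : WithBot ℕ∞) fun e => ?_
        induction e with
        | bot => exact ⟨fun h => absurd h WithBot.bot_ne_coe, fun h => absurd h.1 not_lt_bot⟩
        | coe e =>
          simp only [WithBot.coe_eq_coe, WithBot.coe_lt_coe]
          induction e with
          | top => exact ⟨fun h => absurd h.symm (ENat.natCast_ne_top _), fun h => absurd h.2 not_top_lt⟩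
          | coe m => simp only [Nat.cast_inj, Nat.cast_lt]; omega

end Groth.Agent.AlgSpMor
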