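import Mathlib.AlgebraicGeometry.Morphisms.Flat
import Mathlib.RingTheory.Localization.LocalizationLocalization
import Mathlib.RingTheory.Flat.Localization

/-!
# Localizing an affine scheme along a closed subset
-/

set_option autoImplicit false
set_option backward.isDefEq.respectTransparency false
set_option backward.isDefEq.respectTransparency.types false
set_option linter.style.haveILetI false

universe u

open CategoryTheory AlgebraicGeometry

namespace Groth.Agent.AlgSpMor

/-- A ring map which is flat at the primes containing `J` is flat after inverting `1 + J`, and these primes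
survive. -/
theorem exists_localization_along {A B : Type u} [CommRing A] [CommRing B] (φ : B →+* A) (J : Ideal A)
    (h : ∀ (q : Ideal A) [q.IsPrime], J ≤ q → ((algebraMap A (Localization.AtPrime q)).comp φ).Flat) :
    ∃ (A' : Type u) (_ : CommRing A') (ψ : A →+* A'), (ψ.comp φ).Flat ∧
      ∀ q : PrimeSpectrum A, J ≤ q.asIdeal → ∃ p : PrimeSpectrum A', p.comap ψ = q := by
  let M : Submonoid A :=
    { carrier := {a | a - 1 ∈ J}
      one_mem' := by simp
      mul_mem' := fun {a b} ha hb => by
        have : a * b - 1 = a * (b - 1) + (a - 1) := by ring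
        simp only [Set.mem_ofPred_eq] at ha hb ⊢
        exact this ▸ J.add_mem (J.mul_mem_left _ hb) ha }
  have hdisj : ∀ (q : Ideal A), q.IsPrime → J ≤ q → Disjoint (M : Set A) q := fun q hq hJ =>
    Set.disjoint_left.2 fun a ha haq => hq.ne_top <| (Ideal.eq_top_iff_one q).2 <| by
      have := q.sub_mem haq (hJ ha)
      simpa using this
  refine ⟨Localization M, inferInstance, algebraMap A (Localization M), ?_, fun q hq => ?_⟩
  · letI := φ.toAlgebra
    show @RingHom.Flat B (Localization M) _ _ (algebraMap B (Localization M))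
    rw [RingHom.flat_algebraMap_iff]
    refine Module.flat_of_isLocalized_maximal (R := B) (S := Localization M) (Localization M)
      (fun P _ => Localization.AtPrime P) (fun P _ => Algebra.linearMap (Localization M) (Localization.AtPrime P))
      fun P hP => ?_
    let q : Ideal A := P.comap (algebraMap A (Localization M))
    have hqP := (IsLocalization.isPrime_iff_isPrime_disjoint M (Localization M) P).1 hP.isPrime
    have hJ : J ≤ q := by
      intro j hj
      by_contra hjq
      have hne : q ⊔ J ≠ ⊤ := fun e => by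
        obtain ⟨a, ha, b, hb, hab⟩ := Submodule.mem_sup.1 ((Ideal.eq_top_iff_one _).1 e)
        refine Set.disjoint_left.1 hqP.2 (show a ∈ (M : Set A) from ?_) ha
        show a - 1 ∈ J
        rw [← hab]
        simpa using J.neg_mem hb
      obtain ⟨N, hN, hle⟩ := Ideal.exists_le_maximal _ hne
      have hNd := hdisj N hN.isPrime (le_sup_right.trans hle)
      have hP' : P ≤ N.map (algebraMap A (Localization M)) := by
        rw [← IsLocalization.map_under M (Localization M) P]
        exact Ideal.map_mono (le_sup_left.trans hle)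
      have := IsLocalization.isPrime_of_isPrime_disjoint M (Localization M) N hN.isPrime hNd
      have hPN := hP.eq_of_le this.ne_top hP'
      apply hjq
      show algebraMap A (Localization M) j ∈ P
      rw [hPN]
      exact Ideal.mem_map_of_mem _ (le_sup_right.trans hle hj)
    haveI : q.IsPrime := hqP.1
    haveI : IsLocalization.AtPrime (Localization.AtPrime P) q :=
      IsLocalization.isLocalization_isLocalization_atPrime_isLocalization M (Localization.AtPrime P) P
    let e : Localization.AtPrime q ≃ₐ[A] Localization.AtPrime P := IsLocalization.algEquiv q.primeCompl _ _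
    have hflat : Module.Flat B (Localization.AtPrime q) := by
      have := h q hJ
      rwa [← RingHom.algebraMap_toAlgebra φ, ← IsScalarTower.algebraMap_eq, RingHom.flat_algebraMap_iff] at this
    exact Module.Flat.of_linearEquiv (e.restrictScalars B).toLinearEquiv.symm
  · have hq' := hdisj q.asIdeal q.2 hq
    refine ⟨⟨_, IsLocalization.isPrime_of_isPrime_disjoint M (Localization M) q.asIdeal q.2 hq'⟩,
      PrimeSpectrum.ext (IsLocalization.under_map_of_isPrime_disjoint M (Localization M) q.2 hq')⟩

/-- An affine scheme has a pro-open affine neighbourhood of a closed subset on which a morphism is flat, if the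
morphism is flat at the points of the closed subset. -/
theorem exists_affine_flat_along {V T : Scheme.{u}} [IsAffine V] [IsAffine T] (g : V ⟶ T) {C : Set V}
    (hC : IsClosed C) (h : ∀ x ∈ C, (g.stalkMap x).hom.Flat) :
    ∃ (W : Scheme.{u}) (ι : W ⟶ V), IsAffine W ∧ Flat (ι ≫ g) ∧ C ⊆ Set.range ι := by
  suffices H : ∀ {A B : CommRingCat.{u}} (φ : B ⟶ A) (C : Set (Spec A)), IsClosed C →
      (∀ x ∈ C, ((Spec.map φ).stalkMap x).hom.Flat) →
      ∃ (W : Scheme.{u}) (ι : W ⟶ Spec A), IsAffine W ∧ Flat (ι ≫ Spec.map φ) ∧ C ⊆ Set.range ι by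
    have hg : g = V.isoSpec.hom ≫ Spec.map g.appTop ≫ T.isoSpec.inv := by
      rw [Scheme.isoSpec_hom_naturality_assoc, Iso.hom_inv_id, Category.comp_id]
    have hφ : V.isoSpec.inv ≫ g ≫ T.isoSpec.hom = Spec.map g.appTop := by
      rw [← Scheme.isoSpec_hom_naturality, Iso.inv_hom_id_assoc]
    obtain ⟨W, ι, hW, hf, hsub⟩ := H g.appTop (V.isoSpec.inv ⁻¹' C)
      (hC.preimage V.isoSpec.inv.continuous) fun x hx => by
        have key : ∀ (k : Spec Γ(V, ⊤) ⟶ Spec Γ(T, ⊤)), k = V.isoSpec.inv ≫ g ≫ T.isoSpec.hom →
            (k.stalkMap x).hom.Flat := by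
          rintro k rfl
          rw [Scheme.Hom.stalkMap_comp, CommRingCat.hom_comp, Scheme.Hom.stalkMap_comp, CommRingCat.hom_comp]
          exact ((Flat.stalkMap T.isoSpec.hom _).comp (h _ hx)).comp (Flat.stalkMap V.isoSpec.inv _)
        exact key _ hφ.symm
    refine ⟨W, ι ≫ V.isoSpec.inv, hW, ?_, fun x hx => ?_⟩
    · rw [hg, Category.assoc, Iso.inv_hom_id_assoc, ← Category.assoc]
      infer_instance
    · have hinv : V.isoSpec.inv (V.isoSpec.hom x) = x := by
        rw [← Scheme.Hom.comp_apply, Iso.hom_inv_id]; rfl
      obtain ⟨w, hw⟩ := hsub (show V.isoSpec.hom x ∈ V.isoSpec.inv ⁻¹' C by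
        rwa [Set.mem_preimage, hinv])
      exact ⟨w, by rw [Scheme.Hom.comp_apply, hw, hinv]⟩
  intro A B φ C hC h
  obtain ⟨J, rfl⟩ := (PrimeSpectrum.isClosed_iff_zeroLocus_ideal C).1 hC
  obtain ⟨A', _, ψ, hψ, hsur⟩ := exists_localization_along φ.hom J fun q hq hJ => by
    have h1 := h ⟨q, hq⟩ hJ
    haveI := RingHom.toMorphismProperty_respectsIso_iff.mp RingHom.Flat.respectsIso
    have h2 : (Localization.localRingHom (q.comap φ.hom) q φ.hom rfl).Flat :=
      ((RingHom.toMorphismProperty RingHom.Flat).arrow_mk_iso_iff
        (Scheme.arrowStalkMapSpecIso φ ⟨q, hq⟩)).1 h1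
    have h3 : (algebraMap B (Localization.AtPrime (q.comap φ.hom))).Flat :=
      RingHom.flat_algebraMap_iff.2 inferInstance
    convert h3.comp h2 using 1
    ext b
    simp [Localization.localRingHom_to_map]
  refine ⟨Spec (.of A'), Spec.map (CommRingCat.ofHom ψ), inferInstance, ?_, fun x hx => ?_⟩
  · rw [← Spec.map_comp, HasRingHomProperty.Spec_iff (P := @Flat)]
    exact hψ
  · obtain ⟨p, hp⟩ := hsur x hx
    exact ⟨p, hp⟩

end Groth.Agent.AlgSpMor
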