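import Groth.Agent.AlgSpLib.FpqcDescent
import Groth.Agent.AlgSpLib.Covers
import Groth.Agent.AlgSpLib.OpenMor
import Groth.Agent.AlgSpPts.Univ
import Groth.Agent.AlgSpDM.AffChart
import Groth.Agent.AlgSpMor.LocalizeAlong
import Groth.Agent.NisCov7.Basic

/-!
# The fpqc covering defined by an open subspace and a morphism flat along its complement
-/

set_option autoImplicit false
set_option linter.style.haveILetI false
set_option backward.isDefEq.respectTransparency false
set_option backward.isDefEq.respectTransparency.types false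

universe u

open CategoryTheory CategoryTheory.Limits AlgebraicGeometry Opposite AlgSp

namespace Groth.Agent.AlgSpMor

open Groth.Agent.AlgSpLib

variable {S : Scheme.{u}} {X Y Z FZ U : Sp S} {f : Y ⟶ X} {i : Z ⟶ X} {iY : FZ ⟶ Y} {fZ : FZ ⟶ Z}

/-- The trace of a finitely presented closed subspace on an affine chart is closed with quasi-compact
complement. -/
theorem closed_trace (hZ : IsAlgSpace Z) (hX : IsAlgSpace X) (hi : RepWith @IsClosedImmersion i)
    (hifp : LocP @LocallyOfFinitePresentation i) {T : Over S} [IsAffine T.left] (t : (yon S).obj T ⟶ X) :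
    IsClosed (Points.ofPt t ⁻¹' Set.range (Points.map i)) ∧
      IsCompact (Points.ofPt t ⁻¹' Set.range (Points.map i))ᶜ := by
  have hc : IsClosedImmersion (hi.rep.snd t).left := hi.property_snd t
  have hp : LocallyOfFinitePresentation (hi.rep.snd t).left :=
    locP_of_isPullback (hi.rep.isPullback t) hZ hX (IsAlgSpace.yon_obj T) hifp (𝟙 _) (𝟙 _) _
      (repWith_id _ _) (repWith_id _ _) (by rw [Category.id_comp, Category.comp_id])
  have e : Points.ofPt t ⁻¹' Set.range (Points.map i) = Set.range (hi.rep.snd t).left := by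
    rw [← Set.image_univ, AlgSpPts.preimage_image (hi.rep.isPullback t), Set.preimage_univ, Set.image_univ]
  rw [e]
  have : CompactSpace ↥T.left := inferInstance
  refine ⟨(hi.rep.snd t).left.isClosedEmbedding.isClosed_range, NisCov7.isCompact_of_isConstructible ?_⟩
  rw [Topology.isConstructible_compl, ← Set.image_univ]
  exact (hi.rep.snd t).left.isConstructible_image Topology.IsConstructible.univ

/-- On an affine etale chart there is a flat affine scheme reaching the trace of the closed subspace and lifting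
to `Y`. -/
theorem exists_flat_lift (hZ : IsAlgSpace Z) (hX : IsAlgSpace X)
    (hqc : IsQuasiCompactMor f) (hi : RepWith @IsClosedImmersion i)
    (hifp : LocP @LocallyOfFinitePresentation i) (hFZ : IsPullback iY fZ f i) [IsIso fZ]
    (hflat : ∀ y ∈ Set.range (Points.map iY), IsFlatAtMor f y) {T : Over S} [IsAffine T.left]
    (t : (yon S).obj T ⟶ X) (ht : RepWith @Etale t) :
    ∃ (W : Over S) (w : W ⟶ T) (l : (yon S).obj W ⟶ Y), IsAffine W.left ∧ Flat w.left ∧
      l ≫ f = (yon S).map w ≫ t ∧
        ∀ z : ↥T.left, Points.ofPt t z ∈ Set.range (Points.map i) → z ∈ Set.range w.left := by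
  obtain ⟨V, p, hV, hpe, hps⟩ := AlgSpDM.exists_affine_chart
    (hqc (IsAlgSpace.yon_obj T) (isQuasiCompactSp_yon T) t _ _ (IsPullback.of_hasPullback f t))
  let a : (yon S).obj V ⟶ Y := p ≫ pullback.fst f t
  have ha : RepWith @Etale a := repWith_comp hpe (repWith_fst f ht)
  let v : V ⟶ T := (yon S).preimage (p ≫ pullback.snd f t)
  have hv : (yon S).map v = p ≫ pullback.snd f t := (yon S).map_preimage _
  have hav : a ≫ f = (yon S).map v ≫ t := by
    rw [hv, Category.assoc, Category.assoc, pullback.condition]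
  let C := v.left ⁻¹' (Points.ofPt t ⁻¹' Set.range (Points.map i))
  have hC : IsClosed C := (closed_trace hZ hX hi hifp t).1.preimage v.left.continuous
  have hfl : ∀ x ∈ C, (v.left.stalkMap x).hom.Flat := by
    rintro x ⟨zz, hzz⟩
    have e : Points.map f (Points.ofPt a x) = Points.map i zz := by
      rw [hzz, Points.map_ofPt, hav, ofPt_comp]
    obtain ⟨fz, hfz, -⟩ := exists_point_of_isPullback hFZ e
    exact hflat _ ⟨fz, rfl⟩ a t v x ha ht hav hfz.symm
  obtain ⟨W, ι, hW, hWf, hsub⟩ := exists_affine_flat_along v.left hC hfl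
  let κ : Over.mk (ι ≫ V.hom) ⟶ V := Over.homMk ι rfl
  refine ⟨_, κ ≫ v, (yon S).map κ ≫ a, hW, hWf, ?_, fun z hz => ?_⟩
  · rw [Category.assoc, hav, Functor.map_comp, Category.assoc]
  · obtain ⟨zz, hzz⟩ := hz
    let fz : Points FZ := Points.map (inv fZ) zz
    have hy : Points.map f (Points.map iY fz) = Points.ofPt t z := by
      rw [← hzz, ← Points.map_comp, ← Points.map_comp, hFZ.w, IsIso.inv_hom_id_assoc]
    rw [Points.ofPt_eq_map_ofScheme] at hy
    obtain ⟨P, -, hP⟩ := exists_point_of_isPullback (IsPullback.of_hasPullback f t) hy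
    obtain ⟨x, rfl⟩ := surjective_ofPt hps P
    have hx : v.left x = z := by
      rw [Points.map_ofPt, ← hv] at hP
      exact ((Points.toScheme_ofPt v x).symm.trans (congrArg (Points.toScheme T) hP)).trans
        (Points.toScheme_ofScheme T z)
    obtain ⟨w, hw⟩ := hsub (show x ∈ C from ⟨zz, hzz.trans (congrArg (Points.ofPt t) hx.symm)⟩)
    exact ⟨w, by
      show (ι ≫ v.left) w = z
      rw [Scheme.Hom.comp_apply, hw, hx]⟩

variable {j : U ⟶ X}

/-- Two morphisms with the same target, as a family. -/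
def twoMap {A B T : Over S} (x : A ⟶ T) (y : B ⟶ T) : ∀ b : ULift.{u} Bool, (bif b.down then A else B) ⟶ T
  | ⟨true⟩ => x
  | ⟨false⟩ => y

/-- The open complement and the flat lift cover an affine chart in the fpqc topology. -/
theorem isFpqcCover_two (hZ : IsAlgSpace Z) (hX : IsAlgSpace X)
    (hi : RepWith @IsClosedImmersion i) (hifp : LocP @LocallyOfFinitePresentation i)
    (hj : RepWith @IsOpenImmersion j) (hU : Set.range (Points.map j) = (Set.range (Points.map i))ᶜ)
    {T : Over S} [IsAffine T.left] (t : (yon S).obj T ⟶ X) {W : Over S} (w : W ⟶ T) [IsAffine W.left]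
    [Flat w.left] (hw : ∀ z : ↥T.left, Points.ofPt t z ∈ Set.range (Points.map i) → z ∈ Set.range w.left) :
    IsFpqcCover (X := (yon S).obj T)
      (fun b : ULift.{u} Bool => (yon S).obj (bif b.down then W else hj.rep.pullback t))
      (fun b => (yon S).map (twoMap w (hj.rep.snd t) b)) := by
  have ho : IsOpenImmersion (hj.rep.snd t).left := hj.property_snd t
  refine ⟨?_, fun Z' hZ' h => ?_⟩
  · rintro ⟨⟨⟩⟩
    · exact locP_of_repWith ((repWith_yon_map_iff _ _).2 (inferInstanceAs (Flat (hj.rep.snd t).left)))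
    · exact locP_of_repWith ((repWith_yon_map_iff _ _).2 (inferInstanceAs (Flat w.left)))
  have : IsAffine Z'.left := hZ'
  let h' : Z' ⟶ T := (yon S).preimage h
  have hh : (yon S).map h' = h := (yon S).map_preimage h
  -- the open part
  let O : T.left.Opens := (hj.rep.snd t).left.opensRange
  have hO : IsCompact (O : Set T.left) := by
    have : (O : Set T.left) = (Points.ofPt t ⁻¹' Set.range (Points.map i))ᶜ := by
      rw [← Set.preimage_compl, ← hU, ← Set.image_univ, AlgSpPts.preimage_image (hj.rep.isPullback t),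
        Set.preimage_univ, Set.image_univ]
      rfl
    rw [this]
    exact (closed_trace hZ hX hi hifp t).2
  have hO' : IsCompact ((h'.left ⁻¹ᵁ O : Z'.left.Opens) : Set Z'.left) :=
    h'.left.isCompact_preimage hO
  let Q : Z'.left.Opens := h'.left ⁻¹ᵁ O
  have : CompactSpace ↥(Q : Scheme.{u}) := isCompact_iff_compactSpace.1 hO'
  let 𝒰 := (Q : Scheme.{u}).affineCover.finiteSubcover
  let σ : ∀ o : Option 𝒰.I₀, Σ V : Scheme.{u}, V ⟶ Z'.left := fun o =>
    o.elim ⟨pullback w.left h'.left, pullback.snd _ _⟩ fun k => ⟨𝒰.X k, 𝒰.f k ≫ Q.ι⟩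
  let e := (Fintype.equivFin (Option 𝒰.I₀)).symm
  refine ⟨_, fun n => Over.mk ((σ (e n)).2 ≫ Z'.hom), fun n => Over.homMk (σ (e n)).2 rfl, fun n => ?_,
    fun n => ?_, fun z => ?_, fun n => ?_⟩
  · show IsAffine (σ (e n)).1
    rcases e n with _ | k
    · exact inferInstanceAs (IsAffine (pullback w.left h'.left))
    · exact inferInstanceAs (IsAffine ((Q : Scheme.{u}).affineCover.X _))
  · show Flat (σ (e n)).2
    rcases e n with _ | k
    · exact inferInstanceAs (Flat (pullback.snd w.left h'.left))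
    · exact inferInstanceAs (Flat (𝒰.f k ≫ Q.ι))
  · obtain ⟨o, ho'⟩ : ∃ o, z ∈ Set.range (σ o).2 := by
      by_cases hz : z ∈ Q
      · obtain ⟨x, hx⟩ := 𝒰.covers ⟨z, hz⟩
        refine ⟨some (𝒰.idx ⟨z, hz⟩), x, ?_⟩
        show (𝒰.f _ ≫ Q.ι) x = z
        rw [Scheme.Hom.comp_apply, hx]
        rfl
      · have hz' : Points.ofPt t (h'.left z) ∈ Set.range (Points.map i) := by
          by_contra hne
          rw [← Set.mem_compl_iff, ← hU] at hne
          obtain ⟨x, hx⟩ := hne
          obtain ⟨v, -, hv⟩ := AlgSpPts.exists_lift (hj.rep.isPullback t) hx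
          exact hz ⟨v, hv⟩
        obtain ⟨x, hx⟩ := hw _ hz'
        obtain ⟨y, -, hy⟩ := Scheme.Pullback.exists_preimage_pullback (f := w.left) (g := h'.left) x z hx
        exact ⟨none, y, hy⟩
    obtain ⟨n, hn⟩ := e.surjective o
    refine ⟨n, ?_⟩
    show z ∈ Set.range (σ (e n)).2
    rw [hn]
    exact ho'
  · suffices H : ∀ o, ∃ (b : ULift.{u} Bool) (l : (yon S).obj (Over.mk ((σ o).2 ≫ Z'.hom)) ⟶
        (yon S).obj (bif b.down then W else hj.rep.pullback t)),
        l ≫ (yon S).map (twoMap w (hj.rep.snd t) b) =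
          (yon S).map (Over.homMk (σ o).2 rfl : Over.mk ((σ o).2 ≫ Z'.hom) ⟶ Z') ≫ h from H (e n)
    rintro (_ | k)
    · refine ⟨⟨true⟩, (yon S).map (Over.homMk (pullback.fst w.left h'.left) ?_), ?_⟩
      · show pullback.fst w.left h'.left ≫ W.hom = pullback.snd w.left h'.left ≫ Z'.hom
        rw [← Over.w w, ← Category.assoc, pullback.condition, Category.assoc, Over.w h']
      · rw [← hh, ← Functor.map_comp, ← Functor.map_comp]
        congr 1
        exact Over.OverMorphism.ext pullback.condition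
    · have hr : Set.range (𝒰.f k ≫ Q.ι ≫ h'.left) ⊆ Set.range (hj.rep.snd t).left := by
        rintro _ ⟨x, rfl⟩
        exact (𝒰.f k x).2
      let l₀ := IsOpenImmersion.lift (hj.rep.snd t).left (𝒰.f k ≫ Q.ι ≫ h'.left) hr
      have hl₀ : l₀ ≫ (hj.rep.snd t).left = 𝒰.f k ≫ Q.ι ≫ h'.left := IsOpenImmersion.lift_fac _ _ _
      refine ⟨⟨false⟩, (yon S).map (Over.homMk l₀ ?_), ?_⟩
      · show l₀ ≫ (hj.rep.pullback t).hom = (𝒰.f k ≫ Q.ι) ≫ Z'.hom
        rw [← Over.w (hj.rep.snd t), ← Category.assoc, hl₀, Category.assoc, Category.assoc, Category.assoc,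
          Over.w h']
      · rw [← hh, ← Functor.map_comp, ← Functor.map_comp]
        congr 1
        exact Over.OverMorphism.ext (hl₀.trans (Category.assoc _ _ _).symm)

/-- An open subspace and a quasi-compact morphism which is flat along, and an isomorphism over, its finitely
presented complement are refined by an fpqc covering by schemes. -/
theorem exists_isFpqcCover_refining (hX : IsAlgSpace X) (hZ : IsAlgSpace Z) (hqc : IsQuasiCompactMor f)
    (hi : RepWith @IsClosedImmersion i) (hifp : LocP @LocallyOfFinitePresentation i)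
    (hFZ : IsPullback iY fZ f i) [IsIso fZ] (hflat : ∀ y ∈ Set.range (Points.map iY), IsFlatAtMor f y)
    (hj : RepWith @IsOpenImmersion j) (hU : Set.range (Points.map j) = (Set.range (Points.map i))ᶜ) :
    ∃ (κ : Type u) (W : κ → Over S) (w : ∀ k, (yon S).obj (W k) ⟶ X),
      IsFpqcCover (fun k => (yon S).obj (W k)) w ∧
        ∀ k, (∃ l, l ≫ j = w k) ∨ (∃ l, l ≫ f = w k) := by
  obtain ⟨V, p, hpe, hps⟩ := hX.atlas
  let T : V.left.affineOpens → Over S := fun A => Over.mk (A.1.ι ≫ V.hom)
  have : ∀ A, IsAffine (T A).left := fun A => A.2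
  let t : ∀ A, (yon S).obj (T A) ⟶ X := fun A => (yon S).map (Over.homMk A.1.ι rfl : T A ⟶ V) ≫ p
  have ht : ∀ A, RepWith @Etale (t A) := fun A =>
    repWith_comp ((repWith_yon_map_iff _ _).2 (inferInstanceAs (Etale A.1.ι))) hpe
  have hT : IsFpqcCover (fun A => (yon S).obj (T A)) t := by
    refine isFpqcCover_of_isFppfCover hX (fun A => IsAlgSpace.yon_obj _) t ⟨fun A => ⟨?_, ?_⟩, fun x => ?_⟩
    · exact locP_mono (P := @Etale) (Q := @Flat) (fun _ _ g (_ : Etale g) => inferInstanceAs (Flat g))
        (locP_of_repWith (ht A))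
    · exact locP_mono (P := @Etale) (Q := @LocallyOfFinitePresentation)
        (fun _ _ g (_ : Etale g) => inferInstanceAs (LocallyOfFinitePresentation g)) (locP_of_repWith (ht A))
    · obtain ⟨v, rfl⟩ := surjective_ofPt hps x
      obtain ⟨A, hA, hv, -⟩ := TopologicalSpace.Opens.isBasis_iff_nbhd.1 V.left.isBasis_affineOpens
        (TopologicalSpace.Opens.mem_top v)
      refine ⟨⟨A, hA⟩, Points.ofScheme (T ⟨A, hA⟩) ⟨v, hv⟩, ?_⟩
      rw [Points.map_ofPt, Category.id_comp, ofPt_comp]
      rfl
  choose W w l hW hwf hl hwz using fun A => exists_flat_lift hZ hX hqc hi hifp hFZ hflat (t A) (ht A)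
  have h2 := fun A => isFpqcCover_two hZ hX hi hifp hj hU (t A) (w A) (hwz A)
  refine ⟨Σ _ : V.left.affineOpens, ULift.{u} Bool,
    fun r => bif r.2.down then W r.1 else hj.rep.pullback (t r.1),
    fun r => (yon S).map (twoMap (w r.1) (hj.rep.snd (t r.1)) r.2) ≫ t r.1,
    isFpqcCover_sigma hX (fun A => IsAlgSpace.yon_obj _) (fun A b => IsAlgSpace.yon_obj _) hT h2, ?_⟩
  rintro ⟨A, ⟨⟨⟩⟩⟩
  · exact Or.inl ⟨hj.rep.fst (t A), hj.rep.w (t A)⟩
  · exact Or.inr ⟨l A, hl A⟩

/-- A morphism over `X` whose base changes to the open subspace and to `Y` are isomorphisms is an isomorphism. -/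
theorem isIso_of_isIso_baseChange (hX : IsAlgSpace X) (hZ : IsAlgSpace Z) (hqc : IsQuasiCompactMor f)
    (hi : RepWith @IsClosedImmersion i) (hifp : LocP @LocallyOfFinitePresentation i)
    (hFZ : IsPullback iY fZ f i) [IsIso fZ] (hflat : ∀ y ∈ Set.range (Points.map iY), IsFlatAtMor f y)
    (hj : RepWith @IsOpenImmersion j) (hU : Set.range (Points.map j) = (Set.range (Points.map i))ᶜ)
    {X₁ X₂ : Sp S} (h₁ : IsAlgSpace X₁) (h₂ : IsAlgSpace X₂) (p₂ : X₂ ⟶ X) (a : X₁ ⟶ X₂)
    (hUa : IsIso (pullback.snd a (pullback.fst p₂ j))) (hYa : IsIso (pullback.snd a (pullback.fst p₂ f))) :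
    IsIso a := by
  obtain ⟨κ, W, w, hw, hl⟩ := exists_isFpqcCover_refining hX hZ hqc hi hifp hFZ hflat hj hU
  let q : ∀ k, pullback p₂ (w k) ⟶ X₂ := fun k => pullback.fst _ _
  have hq : IsFpqcCover (fun k => pullback p₂ (w k)) q :=
    isFpqcCover_of_isPullback hX h₂ (fun k => IsAlgSpace.yon_obj _)
      (fun k => IsPullback.of_hasPullback p₂ (w k)) hw
  have hA : ∀ k, IsAlgSpace (pullback p₂ (w k)) := fun k =>
    isAlgSpace_of_isPullback (IsPullback.of_hasPullback p₂ (w k)) h₂ (IsAlgSpace.yon_obj _) hX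
  refine isIso_of_fpqc h₁ h₂ hA (fun k => isAlgSpace_of_isPullback (IsPullback.of_hasPullback a (q k)) h₁
    (hA k) h₂) hq (fun k => IsPullback.of_hasPullback a (q k)) fun k => ?_
  have key : ∀ {M : Sp S} (g : M ⟶ X) (l : (yon S).obj (W k) ⟶ M), l ≫ g = w k →
      IsIso (pullback.snd a (pullback.fst p₂ g)) → IsIso (pullback.snd a (q k)) := by
    intro M g l e hiso
    let m : pullback p₂ (w k) ⟶ pullback p₂ g :=
      pullback.lift (pullback.fst _ _) (pullback.snd _ _ ≫ l) (by rw [pullback.condition, Category.assoc, e])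
    let n : pullback a (q k) ⟶ pullback a (pullback.fst p₂ g) :=
      pullback.lift (pullback.fst _ _) (pullback.snd _ _ ≫ m)
        (by rw [Category.assoc, pullback.lift_fst, pullback.condition])
    have sq : IsPullback n (pullback.snd a (q k)) (pullback.snd a (pullback.fst p₂ g)) m :=
      IsPullback.of_right (by
        rw [pullback.lift_fst, pullback.lift_fst]
        exact IsPullback.of_hasPullback a (q k)) (pullback.lift_snd _ _ _)
        (IsPullback.of_hasPullback a (pullback.fst p₂ g))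
    exact MorphismProperty.of_isPullback (P := MorphismProperty.isomorphisms (Sp S)) sq hiso
  rcases hl k with ⟨l, e⟩ | ⟨l, e⟩
  · exact key j l e hUa
  · exact key f l e hYa

end Groth.Agent.AlgSpMor
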