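import Groth.Agent.AlgSpPts.Univ
import Groth.Agent.AlgSpLib.Rep
import Groth.Agent.AlgSpDec.MonoRep
import Groth.Agent.FBaseLib.Basic

/-!
# Connected components of spaces over algebraically closed fields
-/

set_option autoImplicit false
set_option linter.style.haveILetI false
set_option backward.isDefEq.respectTransparency false
set_option backward.isDefEq.respectTransparency.types false

universe u

open CategoryTheory CategoryTheory.Limits AlgebraicGeometry Opposite AlgSp Topology

namespace Groth.Agent.AlgSpMor

open Groth.Agent.AlgSpLib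

variable {S : Scheme.{u}}

/-- The connected components of a sheaf over an algebraically closed field do not change under an extension of the
field. -/
theorem nonempty_connectedComponents_equiv {k Ω : Type u} [Field k] [IsAlgClosed k] [Field Ω]
    {wk : Spec (.of k) ⟶ S} {wΩ : Spec (.of Ω) ⟶ S} (c : Over.mk wΩ ⟶ Over.mk wk)
    {P Q : Sp S} {pp : P ⟶ (yon S).obj (Over.mk wk)} {fst : Q ⟶ P}
    {snd : Q ⟶ (yon S).obj (Over.mk wΩ)} (sq : IsPullback fst snd pp ((yon S).map c)) :
    Nonempty (_root_.ConnectedComponents (Points Q) ≃ _root_.ConnectedComponents (Points P)) := by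
  letI : Algebra k Ω := (Spec.preimage c.left).hom.toAlgebra
  have hc : c.left = Spec.map (CommRingCat.ofHom (algebraMap k Ω)) := (Spec.map_preimage c.left).symm
  have hcu : UniversallyOpen c.left := hc ▸ FBaseLib.universallyOpen_spec_map_field _
  have hcs : Surjective c.left := hc ▸ GrpSchLib.surjective_spec_map_field _
  have hu : RepWith @UniversallyOpen fst :=
    repWith_of_isPullback sq.flip ((repWith_yon_map_iff _ _).2 hcu)
  have hs : RepWith @Surjective fst := repWith_of_isPullback sq.flip ((repWith_yon_map_iff _ _).2 hcs)
  have hq : IsQuotientMap (Points.map fst) :=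
    (AlgSpPts.isOpenMap_map hu).isQuotientMap (Points.continuous_map fst) (surjective_map_of_repWith hs)
  have hfib : ∀ x, _root_.IsConnected (Points.map fst ⁻¹' {x}) := by
    intro x
    induction x using Points.ind with
    | h p =>
    let W := hu.rep.pullback p.toHom
    let l : (yon S).obj W ⟶ Q := hu.rep.fst p.toHom
    let r : W ⟶ p.pt := hu.rep.snd p.toHom
    have sq' : IsPullback l ((yon S).map r) fst p.toHom := hu.rep.isPullback p.toHom
    let m : p.pt ⟶ Over.mk wk := (yon S).preimage (p.toHom ≫ pp)
    let n : W ⟶ Over.mk wΩ := (yon S).preimage (l ≫ snd)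
    have sq'' : IsPullback r.left n.left m.left c.left := AlgSpDec.isPullback_of_yon (by
      rw [Functor.map_preimage, Functor.map_preimage]
      exact sq'.flip.paste_vert sq)
    rw [hc] at sq''
    have hW : ConnectedSpace ↥W.left := by
      haveI : Subsingleton ↥(Spec (CommRingCat.of p.K)) := inferInstanceAs (Subsingleton (PrimeSpectrum p.K))
      have h1 : _root_.IsConnected (Set.univ : Set ↥(Spec (CommRingCat.of p.K))) :=
        ⟨⟨IsLocalRing.closedPoint p.K, trivial⟩, Set.subsingleton_univ.isPreconnected⟩
      have h2 := FBaseLib.isConnected_preimage_bcπ m.left Ω h1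
      haveI : ConnectedSpace ↥(pullback m.left (Spec.map (CommRingCat.ofHom (algebraMap k Ω)))) :=
        connectedSpace_iff_univ.mpr h2
      exact FBaseLib.connectedSpace_of_surjective sq''.isoPullback.inv
    have heq : Points.map fst ⁻¹' {Points.mk p} = Set.range (Points.ofPt l) := by
      ext z
      constructor
      · intro hz
        obtain ⟨v, hv, -⟩ := AlgSpPts.exists_lift sq' (t := IsLocalRing.closedPoint p.K)
          (x := z) (hz.trans (Points.ofPt_toHom p _).symm)
        exact ⟨v, hv⟩
      · rintro ⟨v, rfl⟩
        exact (AlgSpPts.map_ofPt_fst sq' v).trans (Points.ofPt_toHom p _)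
    rw [heq]
    exact isConnected_range (Points.continuous_ofPt l)
  exact ⟨(hq.isCoinducing.connectedComponentsHomeomorph hfib).toEquiv⟩

end Groth.Agent.AlgSpMor
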