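import Groth.Agent.AlgSpMor.KoszulLocus
import Groth.Agent.AlgSpLib.WeakAssUnit
import Groth.Agent.AlgSpDec.DecentMor
import Groth.Agent.AlgSpVal.ExistUC
import Groth.Agent.FlatMisc.GeomRedOpen
import Groth.Agent.AlgSpDec.FinDeg
import Groth.Agent.AlgSpDec.LimDescent
import Groth.Agent.AlgSpLib.LocalBaseTop
import Groth.Agent.GrpSchLib.GeomIrr

/-!
# Geometrically reduced fibres of morphisms of algebraic spaces
-/

set_option autoImplicit false
set_option linter.style.haveILetI false
set_option backward.isDefEq.respectTransparency false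
set_option backward.isDefEq.respectTransparency.types false

universe u

open CategoryTheory CategoryTheory.Limits AlgebraicGeometry Opposite AlgSp

namespace Groth.Agent.AlgSpMor

open Groth.Agent.AlgSpLib Groth.Agent.AlgSpPts Groth.Agent.FlatMisc

variable {S : Scheme.{u}} {X Y : Sp S} (f : X ⟶ Y)

/-- Every fibre product of `f` along `c` is reduced. -/
def RedAt {T : Over S} (c : (yon S).obj T ⟶ Y) : Prop :=
  ∀ (P : Sp S) (a : P ⟶ X) (b : P ⟶ (yon S).obj T), IsPullback a b f c → IsReducedSp P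

/-- The morphism from the spectrum of an extension of the field of a point. -/
noncomputable abbrev extPt (k : FieldPt Y) {K : Type u} [Field K] (φ : k.K →+* K) :
    (yon S).obj (Over.mk (Spec.map (CommRingCat.ofHom φ) ≫ k.str)) ⟶ Y :=
  (yon S).map (Over.homMk (Spec.map (CommRingCat.ofHom φ)) rfl :
    Over.mk (Spec.map (CommRingCat.ofHom φ) ≫ k.str) ⟶ k.pt) ≫ k.toHom

/-- The fibre over a field point is geometrically reduced. -/
def GeomRedAt (k : FieldPt Y) : Prop :=
  ∀ (K : Type u) [Field K] (φ : k.K →+* K) (P : Sp S) (a : P ⟶ X)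
    (b : P ⟶ (yon S).obj (Over.mk (Spec.map (CommRingCat.ofHom φ) ≫ k.str))),
    IsPullback a b f (extPt k φ) → IsReducedSp P

theorem geomRedAt_iff (k : FieldPt Y) :
    GeomRedAt f k ↔ ∀ (K : Type u) [Field K] (φ : k.K →+* K), RedAt f (extPt k φ) := Iff.rfl

variable {f} (hX : IsAlgSpace X) (hY : IsAlgSpace Y)

/-- Reducedness after a base change is read on a chart. -/
theorem redAt_iff {V : Over S} {c : (yon S).obj V ⟶ Y} {U : Over S} {a₀ : (yon S).obj U ⟶ pullback f c}
    {g : U ⟶ V} (h1 : RepWith @Etale a₀) (h2 : RepWith @Surjective a₀)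
    (h3 : a₀ ≫ pullback.snd f c = (yon S).map g) {T : Over S} (t : T ⟶ V) :
    RedAt f ((yon S).map t ≫ c) ↔ IsReduced (Limits.pullback g.left t.left) := by
  have e := ((IsPullback.of_hasPullback g t).map (Over.forget S)).isoPullback
  have chart : ∀ (P : Sp S) (a : P ⟶ X) (b : P ⟶ (yon S).obj T), IsPullback a b f ((yon S).map t ≫ c) →
      ∃ a' : (yon S).obj (Limits.pullback g t) ⟶ P, RepWith @Etale a' ∧ RepWith @Surjective a' := fun P a b sq => by
    obtain ⟨a', -, -, ha'⟩ := exists_bc_chart sq h3 (c := 𝟙 _) (t := t) (Category.id_comp _)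
    exact ⟨a', ha' _ h1 (repWith_id _ T), ha' _ h2 (repWith_id _ T)⟩
  constructor
  · intro h
    obtain ⟨a', ha, -⟩ := chart _ _ _ (IsPullback.of_hasPullback f ((yon S).map t ≫ c))
    haveI := WeakAssUnit.isReduced_chart (h _ _ _ (IsPullback.of_hasPullback f _)) a' ha
    haveI : IsReduced ((Over.forget S).obj (Limits.pullback g t)) := ‹IsReduced (Limits.pullback g t).left›
    exact isReduced_of_isOpenImmersion e.inv
  · intro h P a b sq
    obtain ⟨a', ha, ha'⟩ := chart P a b sq
    haveI : IsReduced (Limits.pullback ((Over.forget S).map g) ((Over.forget S).map t)) := h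
    exact ⟨_, a', ha, ha', isReduced_of_isOpenImmersion e.hom⟩

include hX hY

/-- Reducedness descends along flat surjective base change. -/
theorem redAt_descend {T' T : Over S} (s : T' ⟶ T) [Flat s.left] [Surjective s.left]
    (c : (yon S).obj T ⟶ Y) (h : RedAt f ((yon S).map s ≫ c)) : RedAt f c := by
  obtain ⟨U, a₀, g, h1, h2, h3⟩ := exists_chart_over hX hY f c
  have h4 := (redAt_iff h1 h2 h3 s).1 h
  haveI := h4
  haveI : IsReduced U.left := FBaseLib.isReduced_of_flat_surjective (Limits.pullback.fst g.left s.left)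
  have h5 : RedAt f ((yon S).map (𝟙 T) ≫ c) :=
    (redAt_iff h1 h2 h3 (𝟙 T)).2 (isReduced_of_isOpenImmersion (Limits.pullback.fst g.left (𝟙 T : T ⟶ T).left))
  rwa [CategoryTheory.Functor.map_id, Category.id_comp] at h5

theorem geomRedAt_of_rel {k k' : FieldPt Y} (h : GeomRedAt f k) (hr : FieldPt.Rel k k') : GeomRedAt f k' := by
  obtain ⟨Ω, _, w, a, b, hab⟩ := hr
  have e : (yon S).map a ≫ k.toHom = (yon S).map b ≫ k'.toHom := by
    apply (J S).uliftYonedaEquiv.injective
    rw [← uliftYonedaEquiv_precomp, ← uliftYonedaEquiv_precomp, FieldPt.uliftYonedaEquiv_toHom,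
      FieldPt.uliftYonedaEquiv_toHom, hab]
  rw [geomRedAt_iff]
  intro K _ φ
  obtain ⟨Ω', _, i₁, i₂, hi⟩ := FieldPt.exists_amalgamation φ (Spec.preimage b.left).hom
  let T : Over S := Over.mk (Spec.map (CommRingCat.ofHom i₁) ≫ Spec.map (CommRingCat.ofHom φ) ≫ k'.str)
  let s : T ⟶ Over.mk (Spec.map (CommRingCat.ofHom φ) ≫ k'.str) :=
    Over.homMk (Spec.map (CommRingCat.ofHom i₁)) rfl
  haveI : Flat s.left := AlgSpDec.flat_toField _
  haveI : Surjective s.left := GrpSchLib.surjective_spec_map_field i₁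
  refine redAt_descend hX hY s _ ?_
  have hb' : Spec.map (CommRingCat.ofHom i₂) ≫ b.left =
      Spec.map (CommRingCat.ofHom i₁) ≫ Spec.map (CommRingCat.ofHom φ) := by
    conv_lhs => rw [← Spec.map_preimage b.left]
    rw [← Spec.map_comp, ← Spec.map_comp]
    congr 1
    exact CommRingCat.hom_ext hi.symm
  let d : T ⟶ Over.mk w := Over.homMk (Spec.map (CommRingCat.ofHom i₂)) (by
    show Spec.map (CommRingCat.ofHom i₂) ≫ w = _
    rw [← show b.left ≫ k'.str = w from Over.w b, reassoc_of% hb']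
    rfl)
  let ψ : k.K →+* Ω' := i₂.comp (Spec.preimage a.left).hom
  have hψ : Spec.map (CommRingCat.ofHom ψ) = Spec.map (CommRingCat.ofHom i₂) ≫ a.left := by
    conv_rhs => rw [← Spec.map_preimage a.left]
    rw [← Spec.map_comp]
    rfl
  have hT : T = Over.mk (Spec.map (CommRingCat.ofHom ψ) ≫ k.str) := by
    refine congrArg Over.mk (?_ : _ = Spec.map (CommRingCat.ofHom ψ) ≫ k.str)
    rw [hψ, Category.assoc, show a.left ≫ k.str = w from Over.w a]
    exact (Over.w d).symm
  let iT : T ⟶ Over.mk (Spec.map (CommRingCat.ofHom ψ) ≫ k.str) := eqToHom hT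
  have hiT : iT.left = 𝟙 _ := by
    simp only [iT, Over.eqToHom_left]
    rfl
  have key : (yon S).map s ≫ extPt k' φ = (yon S).map iT ≫ extPt k ψ := by
    rw [← Functor.map_comp_assoc, ← Functor.map_comp_assoc]
    have h1 : (s ≫ Over.homMk (Spec.map (CommRingCat.ofHom φ)) rfl : T ⟶ k'.pt) = d ≫ b :=
      Over.OverMorphism.ext hb'.symm
    have h2 : (iT ≫ Over.homMk (Spec.map (CommRingCat.ofHom ψ)) rfl : T ⟶ k.pt) = d ≫ a :=
      Over.OverMorphism.ext (by rw [Over.comp_left, hiT]; exact (Category.id_comp _).trans hψ)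
    rw [h1, h2, Functor.map_comp, Functor.map_comp, Category.assoc, Category.assoc, e]
  rw [key]
  intro P a' b' sq
  exact h Ω' ψ P a' (b' ≫ (yon S).map iT) (sq.of_iso (Iso.refl _) (Iso.refl _)
    ((yon S).mapIso (eqToIso hT)) (Iso.refl _) (by simp) (by simp [iT]) (by simp) (by simp [iT]))

/-- The points with geometrically reduced fibre. -/
def geomRedLocus (f : X ⟶ Y) : Set (Points Y) := {y | ∀ k : FieldPt Y, Points.mk k = y → GeomRedAt f k}

omit hX hY in
theorem extPt_ofPt {V : Over S} (c : (yon S).obj V ⟶ Y) (v : ↥V.left) {K : Type u} [Field K]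
    (φ : (FieldPt.ofPt c v).K →+* K) :
    extPt (FieldPt.ofPt c v) φ =
      (yon S).map (Over.homMk (Spec.map (CommRingCat.ofHom φ) ≫ V.left.fromSpecResidueField v) (Category.assoc _ _ _) :
        Over.mk (Spec.map (CommRingCat.ofHom φ) ≫ (FieldPt.ofPt c v).str) ⟶ V) ≫ c := by
  rw [extPt, FieldPt.toHom_ofPt, ← Functor.map_comp_assoc]
  rfl

theorem mem_geomRedLocus_ofPt {V : Over S} {c : (yon S).obj V ⟶ Y} {U : Over S} {a₀ : (yon S).obj U ⟶ pullback f c}
    {g : U ⟶ V} (h1 : RepWith @Etale a₀) (h2 : RepWith @Surjective a₀)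
    (h3 : a₀ ≫ pullback.snd f c = (yon S).map g) (v : ↥V.left) :
    Points.ofPt c v ∈ geomRedLocus f ↔ v ∈ GeomRedConstr.locus g.left := by
  rw [GeomRedConstr.locus, Set.mem_ofPred_eq, GeomRedConstr.geometricallyReduced_fiber_iff]
  constructor
  · intro h K _ φ
    obtain ⟨φ', rfl⟩ := Spec.map_surjective φ
    have h4 := h (FieldPt.ofPt c v) rfl
    rw [geomRedAt_iff] at h4
    have h5 := h4 K φ'.hom
    rw [extPt_ofPt] at h5
    exact (redAt_iff h1 h2 h3 _).1 h5
  · intro h k hk
    refine geomRedAt_of_rel hX hY (k := FieldPt.ofPt c v) ?_ (Points.mk_eq_mk_iff.1 hk.symm)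
    rw [geomRedAt_iff]
    intro K _ φ
    rw [extPt_ofPt]
    exact (redAt_iff h1 h2 h3 _).2 (h K (Spec.map (CommRingCat.ofHom φ)))

/-- The geometrically reduced locus is constructible on affine etale charts of the base. -/
theorem isConstructible_preimage_geomRedLocus (hf1 : IsQuasiCompactMor f)
    (hf2 : LocP @LocallyOfFinitePresentation f) (V : Over S) [IsAffine V.left] (c : (yon S).obj V ⟶ Y)
    (hc : RepWith @Etale c) : Topology.IsConstructible (Points.ofPt c ⁻¹' geomRedLocus f) := by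
  haveI : CompactSpace ↥V.left := inferInstance
  obtain ⟨U, a₀, hU, h1, h2⟩ := AlgSpDec.exists_affine_atlas
    (hf1 (IsAlgSpace.yon_obj V) (isQuasiCompactSp_yon V) c _ _ (IsPullback.of_hasPullback f c))
  let g : U ⟶ V := (yon S).preimage (a₀ ≫ pullback.snd f c)
  have h3 : a₀ ≫ pullback.snd f c = (yon S).map g := ((yon S).map_preimage _).symm
  haveI : LocallyOfFinitePresentation g.left :=
    hf2 (a₀ ≫ pullback.fst f c) c g (repWith_comp h1 (repWith_fst f hc)) hc
      (by rw [Category.assoc, pullback.condition, ← Category.assoc, h3])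
  haveI := hU
  haveI : QuasiCompact g.left := inferInstance
  have heq : Points.ofPt c ⁻¹' geomRedLocus f = GeomRedConstr.locus g.left :=
    Set.ext fun v => mem_geomRedLocus_ofPt hX hY h1 h2 h3 v
  rw [heq]
  exact (GeomRedConstr.isLocallyConstructible_locus g.left).isConstructible

end Groth.Agent.AlgSpMor
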