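import Groth.Agent.AlgSpMor.GeomRedFlat
import Groth.Agent.AlgSpDec.LimDescentRep

/-!
# Reducedness of flat proper spaces over a discrete valuation ring
-/

set_option autoImplicit false
set_option linter.style.haveILetI false
set_option backward.isDefEq.respectTransparency false
set_option backward.isDefEq.respectTransparency.types false

universe u

open CategoryTheory CategoryTheory.Limits AlgebraicGeometry Opposite AlgSp

namespace Groth.Agent.AlgSpMor

/-- Base change to a field generated as a field by the image of the ring computes the fibre. -/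
theorem isReduced_pullback_iff_fiber {R : Type u} [CommRing R] {Z : Scheme.{u}} (g : Z ⟶ Spec (CommRingCat.of R))
    {K : Type u} [Field K] (ψ : R →+* K) (hfrac : ∀ z, ∃ a b, z = ψ a / ψ b) :
    IsReduced (Limits.pullback g (Spec.map (CommRingCat.ofHom ψ))) ↔
      IsReduced (g.fiber (Spec.map (CommRingCat.ofHom ψ) (IsLocalRing.closedPoint K))) := by
  obtain ⟨⟨η, φ⟩, hq⟩ := (Scheme.SpecToEquivOfField K (Spec (CommRingCat.of R))).symm.surjective
    (Spec.map (CommRingCat.ofHom ψ))
  change Spec.map φ ≫ (Spec (CommRingCat.of R)).fromSpecResidueField η = _ at hq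
  have hη : Spec.map (CommRingCat.ofHom ψ) (IsLocalRing.closedPoint K) = η := by
    rw [← hq, Scheme.Hom.comp_apply, Scheme.fromSpecResidueField_apply]
  haveI : IsIso φ := (ConcreteCategory.isIso_iff_bijective _).mpr ⟨RingHom.injective _, fun z => by
    obtain ⟨t, ht⟩ := Spec.map_surjective ((Spec (CommRingCat.of R)).fromSpecResidueField η)
    have hq' := hq
    rw [← ht, ← Spec.map_comp] at hq'
    have h3 := fun a => congrArg (fun k => k.hom a) (Spec.map_injective hq')
    obtain ⟨a, b, rfl⟩ := hfrac z
    exact ⟨t.hom a / t.hom b, (map_div₀ φ.hom _ _).trans (congrArg₂ (· / ·) (h3 a) (h3 b))⟩⟩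
  rw [hη, ← hq]
  have sq := (IsPullback.of_hasPullback (g.fiberToSpecResidueField η) (Spec.map φ)).paste_horiz
    (IsPullback.of_hasPullback g ((Spec (CommRingCat.of R)).fromSpecResidueField η))
  constructor
  · intro h
    haveI : IsReduced (Limits.pullback (g.fiberToSpecResidueField η) (Spec.map φ)) :=
      @isReduced_of_isOpenImmersion _ _ sq.isoPullback.hom _ h
    exact isReduced_of_isOpenImmersion (inv (pullback.fst (g.fiberToSpecResidueField η) (Spec.map φ)))
  · intro h
    haveI : IsReduced (Limits.pullback (g.fiberToSpecResidueField η) (Spec.map φ)) :=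
      @isReduced_of_isOpenImmersion _ _ (pullback.fst (g.fiberToSpecResidueField η) (Spec.map φ)) _ h
    exact isReduced_of_isOpenImmersion sq.isoPullback.inv

open Groth.Agent.AlgSpLib Groth.Agent.AlgSpPts

variable {R : Type u} [CommRing R] [IsDomain R] [IsDiscreteValuationRing R]

/-- A proper flat space over a discrete valuation ring with reduced special fibre is reduced, as is its
generic fibre. -/
theorem isReducedSp_of_special_fibre {X : Sp (Spec (CommRingCat.of R))} (hX : IsAlgSpace X)
    (s : X ⟶ (yon (Spec (CommRingCat.of R))).obj (Over.mk (𝟙 _))) (hs1 : IsProperMor s) (hs2 : LocP @Flat s)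
    (jκ : Over.mk (Spec.map (CommRingCat.ofHom (IsLocalRing.residue R))) ⟶ Over.mk (𝟙 (Spec (CommRingCat.of R))))
    (hjκ : jκ.left = Spec.map (CommRingCat.ofHom (IsLocalRing.residue R)))
    (jK : Over.mk (Spec.map (CommRingCat.ofHom (algebraMap R (FractionRing R)))) ⟶
      Over.mk (𝟙 (Spec (CommRingCat.of R))))
    (hjK : jK.left = Spec.map (CommRingCat.ofHom (algebraMap R (FractionRing R))))
    (h0 : RedAt s ((yon _).map jκ)) : IsReducedSp X ∧ RedAt s ((yon _).map jK) := by
  haveI : IsAffine (Over.mk (𝟙 (Spec (CommRingCat.of R)))).left := inferInstanceAs (IsAffine (Spec _))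
  have hqs : IsQuasiSeparatedMor s := AlgSpDec.isQuasiSeparatedMor_of_isSeparatedMor hs1.1
  have hdec := AlgSpDec.isDecent_of_isQuasiSeparatedSp hX (AlgSpVal.isQuasiSeparatedSp_of_toAffine s hqs)
  obtain ⟨U, a, ha, ha'⟩ := hX.atlas
  obtain ⟨g, hg⟩ := (yon _).map_surjective (a ≫ s)
  haveI : Flat g.left := hs2 a (𝟙 _) g ha (repWith_id _ _) (by rw [Category.comp_id]; exact hg.symm)
  haveI : LocallyOfFiniteType g.left := hs1.2.1.1 a (𝟙 _) g ha (repWith_id _ _) (by rw [Category.comp_id]; exact hg.symm)
  let a₀ : (yon _).obj U ⟶ pullback s (𝟙 _) := pullback.lift a ((yon _).map g) (by rw [Category.comp_id]; exact hg.symm)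
  have e₀ : a₀ = a ≫ inv (pullback.fst s (𝟙 _)) := by rw [IsIso.eq_comp_inv]; exact pullback.lift_fst _ _ _
  have h1 : RepWith @Etale a₀ := e₀ ▸ repWith_comp ha (repWith_of_isIso _ _)
  have h2 : RepWith @Surjective a₀ := e₀ ▸ repWith_comp ha' (repWith_of_isIso _ _)
  have h3 : a₀ ≫ pullback.snd s (𝟙 _) = (yon _).map g := pullback.lift_snd _ _ _
  have hspec : IsReduced (Scheme.Hom.fiber (Y := Spec (CommRingCat.of R)) g.left (IsLocalRing.closedPoint R)) := by
    have h4 := (redAt_iff h1 h2 h3 jκ).1 (by rw [Category.comp_id]; exact h0)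
    rw [hjκ] at h4
    have h5 := (isReduced_pullback_iff_fiber g.left (IsLocalRing.residue R) fun z => by
      obtain ⟨a, rfl⟩ := IsLocalRing.residue_surjective z
      exact ⟨a, 1, by simp⟩).1 h4
    haveI : IsLocalHom (IsLocalRing.residue R) := inferInstance
    rwa [show Spec.map (CommRingCat.ofHom (IsLocalRing.residue R)) (IsLocalRing.closedPoint (IsLocalRing.ResidueField R))
      = IsLocalRing.closedPoint R from IsLocalRing.comap_closedPoint (IsLocalRing.residue R)] at h5
  have hcl : IsClosedMap (Points.map s) := hs1.2.2 (IsAlgSpace.yon_obj _) (𝟙 _) (𝟙 _) s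
    (IsPullback.of_horiz_isIso ⟨(Category.id_comp _).trans (Category.comp_id _).symm⟩)
  haveI := isReduced_chart_of_valuation hdec s hcl ha ha' g hg.symm hspec
  refine ⟨⟨U, a, ha, ha', inferInstance⟩, ?_⟩
  have h6 : IsReduced (Limits.pullback g.left jK.left) := by
    rw [hjK]
    refine (isReduced_pullback_iff_fiber g.left (algebraMap R (FractionRing R)) fun z => ?_).2 ?_
    · obtain ⟨a, b, -, h⟩ := IsFractionRing.div_surjective (A := R) z
      exact ⟨a, b, h.symm⟩
    · refine _root_.FlatMisc.isReduced_fiber_of_generic (Y := Spec (CommRingCat.of R)) _ _ fun w hw => ?_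
      refine PrimeSpectrum.ext ?_
      have h0' : (Spec.map (CommRingCat.ofHom (algebraMap R (FractionRing R)))
          (IsLocalRing.closedPoint (FractionRing R)) : PrimeSpectrum R).asIdeal = ⊥ := by
        show Ideal.comap (algebraMap R (FractionRing R)) (IsLocalRing.maximalIdeal _) = ⊥
        rw [IsLocalRing.maximalIdeal_eq_bot]
        exact Ideal.comap_bot_of_injective _ (IsFractionRing.injective R (FractionRing R))
      refine le_antisymm (((PrimeSpectrum.le_iff_specializes (w : PrimeSpectrum R) _).mpr hw)) ?_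
      rw [h0']; exact bot_le
  simpa [Category.comp_id] using (redAt_iff h1 h2 h3 jK).2 h6

end Groth.Agent.AlgSpMor
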