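import Groth.Agent.AlgSpMor.GeomRed
import Groth.Agent.AlgSpVal.ExistUC
import Groth.Agent.AlgSpDec.ReducedStalk
import Groth.Agent.AlgSpDec.Fibres
import Groth.Agent.FlatMisc.GeomRedOpen

/-!
# Flat proper morphisms: openness of the geometrically reduced locus
-/

set_option autoImplicit false
set_option linter.style.haveILetI false
set_option backward.isDefEq.respectTransparency false
set_option backward.isDefEq.respectTransparency.types false

universe u

open CategoryTheory CategoryTheory.Limits AlgebraicGeometry Opposite AlgSp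

namespace Groth.Agent.AlgSpMor

open Groth.Agent.AlgSpLib Groth.Agent.AlgSpPts Groth.Agent.FlatMisc

variable {S : Scheme.{u}}

/-- A flat chart of a space which is closed over the spectrum of a valuation ring is reduced as soon as its
special fibre is. -/
theorem isReduced_chart_of_valuation {P : Sp S} (hdec : IsDecent P) {R : Type u} [CommRing R] [IsDomain R]
    [ValuationRing R] {str : Spec (CommRingCat.of R) ⟶ S} (p : P ⟶ (yon S).obj (Over.mk str))
    (hp : IsClosedMap (Points.map p)) {U : Over S} {a : (yon S).obj U ⟶ P} (ha : RepWith @Etale a)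
    (ha' : RepWith @Surjective a) (g : U ⟶ Over.mk str) (hag : a ≫ p = (yon S).map g)
    [Flat g.left] [LocallyOfFiniteType g.left]
    (hred : IsReduced (Scheme.Hom.fiber (Y := Spec (CommRingCat.of R)) g.left (IsLocalRing.closedPoint R))) :
    IsReduced U.left := by
  haveI : ∀ u : ↥U.left, _root_.IsReduced (U.left.presheaf.stalk u) := fun u => by
    have himg : ∀ w : ↥U.left, Points.map p (Points.ofPt a w) = Points.ofScheme (Over.mk str) (g.left w) := fun w => by
      rw [Points.map_ofPt, hag]
      exact (congrArg (Points.ofPt · w) (Category.comp_id _).symm).trans (ofPt_comp g (𝟙 _) w)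
    let c₀ : ↥(Over.mk str).left := IsLocalRing.closedPoint R
    obtain ⟨z, hxz, hz⟩ : ∃ z, Points.ofPt a u ⤳ z ∧ Points.map p z = Points.ofScheme (Over.mk str) c₀ := by
      have h4 : Points.ofScheme (Over.mk str) c₀ ∈ closure (Points.map p '' closure {Points.ofPt a u}) :=
        ((IsLocalRing.specializes_closedPoint (show PrimeSpectrum R from g.left u)).map
          (Points.schemeHomeo (Over.mk str)).continuous).mem_closed isClosed_closure
          (subset_closure ⟨_, subset_closure rfl, himg u⟩)
      rw [(hp _ isClosed_closure).closure_eq] at h4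
      obtain ⟨z, hz, hzc⟩ := h4
      exact ⟨z, specializes_iff_mem_closure.2 hz, hzc⟩
    obtain ⟨u₀, rfl⟩ := surjective_ofPt ha' z
    obtain ⟨u', hu', he⟩ := AlgSpDec.exists_specializes_lift_of_isDecent hdec ha hxz
    have h₀ : g.left u₀ = c₀ := by
      have h3 := congrArg (Points.toScheme (Over.mk str)) ((himg u₀).symm.trans hz)
      rwa [Points.toScheme_ofScheme, Points.toScheme_ofScheme] at h3
    haveI : _root_.IsReduced (U.left.presheaf.stalk u₀) := ValuationRed.isReduced_stalk_of_closed g.left hred h₀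
    obtain ⟨M, hM⟩ := VarGeom.exists_isLocalization_stalkSpecializes hu'
    letI := (U.left.presheaf.stalkSpecializes hu').hom.toAlgebra
    exact AlgSpDec.isReduced_stalk_of_charts ha ha he
      (isReduced_localizationPreserves M (U.left.presheaf.stalk u') inferInstance)
  exact isReduced_of_isReduced_stalk _

/-- The generic point of a valuation subring has the whole field as residue field. -/
theorem isReduced_pullback_of_fiber {Z Y Z' : Scheme.{u}} {f : Z ⟶ Y} {K : Type u} [Field K]
    {A : ValuationSubring K} {h : Spec (CommRingCat.of A) ⟶ Y} {e : Z' ⟶ Z} {fA : Z' ⟶ Spec (CommRingCat.of A)}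
    (sX : IsPullback e fA f h) (η₀ : ↥(Spec (CommRingCat.of A)))
    (hη : Spec.map (CommRingCat.ofHom A.subtype) (IsLocalRing.closedPoint K) = η₀)
    (hred : IsReduced (fA.fiber η₀)) :
    IsReduced (Limits.pullback f (Spec.map (CommRingCat.ofHom A.subtype) ≫ h)) := by
  obtain ⟨⟨η, φ⟩, hq⟩ := (Scheme.SpecToEquivOfField K (Spec (CommRingCat.of A))).symm.surjective
    (Spec.map (CommRingCat.ofHom A.subtype))
  change Spec.map φ ≫ (Spec (CommRingCat.of A)).fromSpecResidueField η = _ at hq
  obtain rfl : η = η₀ := by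
    rw [← hη, ← hq, Scheme.Hom.comp_apply, Scheme.fromSpecResidueField_apply]
  have hfac : ∀ a : A, ∃ r, φ.hom r = (a : K) := by
    obtain ⟨t, ht⟩ := Spec.map_surjective ((Spec (CommRingCat.of A)).fromSpecResidueField η)
    have hq' := hq
    rw [← ht, ← Spec.map_comp] at hq'
    have h3 := Spec.map_injective hq'
    exact fun a => ⟨t.hom a, congrArg (fun k => k.hom a) h3⟩
  haveI : IsIso φ := (ConcreteCategory.isIso_iff_bijective _).mpr ⟨RingHom.injective _, fun z => by
    rcases A.mem_or_inv_mem z with hz | hz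
    · exact hfac ⟨z, hz⟩
    · obtain ⟨r, hr⟩ := hfac ⟨z⁻¹, hz⟩
      exact ⟨r⁻¹, by show φ.hom r⁻¹ = z; rw [map_inv₀, hr, inv_inv]⟩⟩
  let E := (IsPullback.of_hasPullback fA ((Spec (CommRingCat.of A)).fromSpecResidueField η)).paste_horiz sX
  have sq2 := (IsPullback.of_hasPullback (fA.fiberToSpecResidueField η) (Spec.map φ)).paste_horiz E
  haveI : IsIso (pullback.fst (fA.fiberToSpecResidueField η) (Spec.map φ)) := inferInstance
  haveI : IsReduced (Limits.pullback (fA.fiberToSpecResidueField η) (Spec.map φ)) :=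
    @isReduced_of_isOpenImmersion _ _ (pullback.fst (fA.fiberToSpecResidueField η) (Spec.map φ)) _ hred
  rw [← hq, Category.assoc]
  exact isReduced_of_isOpenImmersion sq2.isoPullback.inv

variable {X Y : Sp S} {f : X ⟶ Y}

/-- On a chart of the base, the geometrically reduced locus of a flat, closed, quasi-separated morphism is
stable under generalisation. -/
theorem stableUnderGeneralization_preimage (hX : IsAlgSpace X) (hY : IsAlgSpace Y) (hfl : LocP @Flat f)
    (hlfp : LocP @LocallyOfFinitePresentation f) (hqs : IsQuasiSeparatedMor f) (hcl : IsUnivClosedMor f)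
    {V : Over S} (c : (yon S).obj V ⟶ Y) (hc : RepWith @Etale c) :
    StableUnderGeneralization (Points.ofPt c ⁻¹' geomRedLocus f) := by
  intro v v' hsp hv
  obtain ⟨U, a₀, g, h1, h2, h3⟩ := exists_chart_over hX hY f c
  have hmem := fun w => mem_geomRedLocus_ofPt (f := f) hX hY h1 h2 h3 w
  rw [Set.mem_preimage, hmem] at hv ⊢
  have hac : (a₀ ≫ pullback.fst f c) ≫ f = (yon S).map g ≫ c := by
    rw [Category.assoc, pullback.condition, ← Category.assoc, h3]
  haveI : Flat g.left := hfl _ c g (repWith_comp h1 (repWith_fst f hc)) hc hac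
  haveI : LocallyOfFinitePresentation g.left := hlfp _ c g (repWith_comp h1 (repWith_fst f hc)) hc hac
  refine (GeomRedConstr.geometricallyReduced_fiber_iff g.left v').2 fun K _ φ => ?_
  obtain ⟨φ', rfl⟩ := Spec.map_surjective φ
  let σ : V.left.presheaf.stalk v ⟶ CommRingCat.of K :=
    V.left.presheaf.stalkSpecializes hsp ≫ V.left.residue v' ≫ φ'
  obtain ⟨A, hA, hloc⟩ := IsLocalRing.exists_factor_valuationRing σ.hom
  let g' : V.left.presheaf.stalk v ⟶ CommRingCat.of A := CommRingCat.ofHom (σ.hom.codRestrict A.toSubring hA)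
  haveI : IsLocalHom g'.hom := hloc
  let h : Spec (CommRingCat.of A) ⟶ V.left := Spec.map g' ≫ V.left.fromSpecStalk v
  have hcl' : h (IsLocalRing.closedPoint A) = v := by
    show V.left.fromSpecStalk v (Spec.map g' (IsLocalRing.closedPoint A)) = v
    rw [show Spec.map g' (IsLocalRing.closedPoint A) = IsLocalRing.closedPoint (V.left.presheaf.stalk v) from
      IsLocalRing.comap_closedPoint g'.hom, Scheme.fromSpecStalk_closedPoint]
  have hcomp : Spec.map (CommRingCat.ofHom A.subtype) ≫ h = Spec.map φ' ≫ V.left.fromSpecResidueField v' := by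
    rw [← Spec.map_comp_assoc, Scheme.fromSpecResidueField, ← Scheme.SpecMap_stalkSpecializes_fromSpecStalk hsp,
      ← Spec.map_comp_assoc, ← Spec.map_comp_assoc]
    rfl
  rw [← hcomp]
  let t : Over.mk (h ≫ V.hom) ⟶ V := Over.homMk h rfl
  let p : pullback f ((yon S).map t ≫ c) ⟶ (yon S).obj (Over.mk (h ≫ V.hom)) := pullback.snd _ _
  have sq := IsPullback.of_hasPullback f ((yon S).map t ≫ c)
  have hP : IsAlgSpace (pullback f ((yon S).map t ≫ c)) := isAlgSpace_pullback hX (IsAlgSpace.yon_obj _) hY _ _
  haveI : IsAffine (Over.mk (h ≫ V.hom)).left := inferInstanceAs (IsAffine (Spec _))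
  have hdec := AlgSpDec.isDecent_of_isQuasiSeparatedSp hP
    (AlgSpVal.isQuasiSeparatedSp_of_toAffine p (isQuasiSeparatedMor_of_isPullback sq hqs))
  obtain ⟨a', -, ha'snd, ha'⟩ := exists_bc_chart sq h3 (c := 𝟙 _) (t := t) (Category.id_comp _)
  have sX : IsPullback (Limits.pullback.fst g t).left (Limits.pullback.snd g t).left g.left h :=
    (IsPullback.of_hasPullback g t).map (Over.forget S)
  haveI : Flat (Limits.pullback.snd g t).left := MorphismProperty.of_isPullback sX ‹Flat g.left›
  haveI : LocallyOfFiniteType g.left := inferInstance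
  haveI : LocallyOfFiniteType (Limits.pullback.snd g t).left :=
    MorphismProperty.of_isPullback sX ‹LocallyOfFiniteType g.left›
  have hred : IsReduced (Scheme.Hom.fiber (Y := Spec (CommRingCat.of A)) (Limits.pullback.snd g t).left
      (IsLocalRing.closedPoint A)) := by
    have h5 : IsLocalRing.closedPoint A ∈
        GeomRedConstr.locus (Y := Spec (CommRingCat.of A)) (Limits.pullback.snd g t).left := by
      rw [GeomRedConstr.locus_preimage (Y' := Spec (CommRingCat.of A)) sX]
      show h (IsLocalRing.closedPoint A) ∈ GeomRedConstr.locus g.left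
      rw [hcl']; exact hv
    exact h5.geometrically_isReduced (𝟙 _) (𝟙 _) _ (IsPullback.of_id_fst) |> fun h => h
  haveI : IsReduced (Limits.pullback g t).left :=
    isReduced_chart_of_valuation hdec p (hcl (IsAlgSpace.yon_obj _) _ _ _ sq)
      (ha' _ h1 (repWith_id _ _)) (ha' _ h2 (repWith_id _ _)) (Limits.pullback.snd g t)
      (ha'snd.trans (Category.comp_id _)) hred
  have hbot : (⊥ : Ideal A).IsPrime := Ideal.isPrime_bot
  let η : ↥(Spec (CommRingCat.of A)) := (⟨⊥, hbot⟩ : PrimeSpectrum A)
  have h6 : IsReduced (Scheme.Hom.fiber (Y := Spec (CommRingCat.of A)) (Limits.pullback.snd g t).left η) :=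
    _root_.FlatMisc.isReduced_fiber_of_generic _ η fun w hw =>
      PrimeSpectrum.ext (le_bot_iff.mp ((PrimeSpectrum.le_iff_specializes (w : PrimeSpectrum A) η).mpr hw))
  have hη : Spec.map (CommRingCat.ofHom A.subtype) (IsLocalRing.closedPoint K) = η := by
    refine PrimeSpectrum.ext ?_
    show Ideal.comap A.subtype (IsLocalRing.maximalIdeal K) = ⊥
    rw [IsLocalRing.maximalIdeal_eq_bot]
    exact Ideal.comap_bot_of_injective _ Subtype.val_injective
  exact isReduced_pullback_of_fiber (K := K) (A := A) (f := g.left) (h := h)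
    (fA := (Limits.pullback.snd g t).left) sX η hη h6

end Groth.Agent.AlgSpMor

namespace Groth.Agent.AlgSpMor

open Groth.Agent.AlgSpLib Groth.Agent.AlgSpPts Groth.Agent.FlatMisc

variable {S : Scheme.{u}} {X Y : Sp S} {f : X ⟶ Y}

/-- The geometrically reduced locus of a flat, universally closed morphism of finite presentation is open. -/
theorem isOpen_geomRedLocus (hX : IsAlgSpace X) (hY : IsAlgSpace Y) (hfl : LocP @Flat f)
    (hfp : IsFinitePresentationMor f) (hcl : IsUnivClosedMor f) : IsOpen (geomRedLocus f) := by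
  obtain ⟨U, p, hp, hp'⟩ := hY.atlas
  rw [isOpen_iff_chart hp hp', isOpen_iff_forall_mem_open]
  intro x hx
  obtain ⟨W, hW, hxW, -⟩ := exists_isAffineOpen_mem_and_subset (x := x) (U := ⊤) trivial
  let Vo : Over S := Over.mk (W.ι ≫ U.hom)
  let ι : Vo ⟶ U := Over.homMk W.ι rfl
  haveI : IsAffine Vo.left := hW
  have hc : RepWith @Etale ((yon S).map ι ≫ p) :=
    repWith_comp ((repWith_yon_map_iff _ _).2 (inferInstanceAs (Etale W.ι))) hp
  have h1 : IsOpen (Points.ofPt ((yon S).map ι ≫ p) ⁻¹' geomRedLocus f) :=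
    AlgebraicGeometry.Scheme.isoSpec Vo.left |>.hom.homeomorph.isOpen_image.1 <| by
      refine PrimeSpectrum.isOpen_of_stableUnderGeneralization_of_isConstructible ?_ ?_
      · rintro a b hab ⟨y, hy, rfl⟩
        obtain ⟨z, rfl⟩ := (Scheme.isoSpec Vo.left).hom.homeomorph.surjective b
        exact ⟨z, stableUnderGeneralization_preimage hX hY hfl hfp.1 hfp.2.2 hcl _ hc
          ((Scheme.isoSpec Vo.left).hom.homeomorph.isInducing.specializes_iff.1 hab) hy, rfl⟩
      · exact (isConstructible_preimage_geomRedLocus hX hY hfp.2.1 hfp.1 Vo _ hc).image_of_isOpenEmbedding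
          (Scheme.isoSpec Vo.left).hom.homeomorph.isOpenEmbedding (by
            rw [(Scheme.isoSpec Vo.left).hom.homeomorph.surjective.range_eq]
            exact IsRetrocompact.univ)
  refine ⟨W.ι '' (Points.ofPt ((yon S).map ι ≫ p) ⁻¹' geomRedLocus f), ?_, W.ι.isOpenEmbedding.isOpenMap _ h1, ?_⟩
  · rintro _ ⟨w, hw, rfl⟩
    rw [Set.mem_preimage, ofPt_comp] at hw
    exact hw
  · refine ⟨⟨x, hxW⟩, ?_, rfl⟩
    rw [Set.mem_preimage, ofPt_comp]
    exact hx

end Groth.Agent.AlgSpMor
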