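import Groth.Agent.AlgSpMor.GlueableEt
import Groth.Agent.RelNorm.Glue

/-!
# Maps of glueable spaces agreeing on the two sides of a glueing pair are equal
-/

set_option autoImplicit false
set_option linter.style.haveILetI false
set_option backward.isDefEq.respectTransparency false
set_option backward.isDefEq.respectTransparency.types false

noncomputable section

universe u

open CategoryTheory CategoryTheory.Limits AlgebraicGeometry TensorProduct AlgSp

namespace Groth.Agent.AlgSpMor.GlueEq

open Groth.Agent.EtGlue7 (locHom bcHom)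
open Groth.Agent.AlgSpMor.GlueableEt (TorsInj isGlueable_iff_torsInj aff)

theorem isPullback_of_mono_comp {C : Type*} [Category C] {P X Y Z W : C} {fst : P ⟶ X} {snd : P ⟶ Y} {j : X ⟶ Z}
    {σ : Y ⟶ Z} (π : Z ⟶ W) [Mono π] (h : IsPullback fst snd (j ≫ π) (σ ≫ π)) : IsPullback fst snd j σ := by
  have w : fst ≫ j = snd ≫ σ := by rw [← cancel_mono π, Category.assoc, Category.assoc, h.w]
  refine ⟨⟨w⟩, ⟨PullbackCone.IsLimit.mk w (fun s => h.lift s.fst s.snd (by rw [← Category.assoc, s.condition, Category.assoc]))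
    (fun s => h.lift_fst _ _ _) (fun s => h.lift_snd _ _ _) fun s m h₁ h₂ => h.hom_ext ?_ ?_⟩⟩
  · rw [h.lift_fst, h₁]
  · rw [h.lift_snd, h₂]

variable {R R' : Type u} [CommRing R] [CommRing R'] [Algebra R R'] {f : R}


theorem sqLoc {B D : Type u} [CommRing B] [CommRing D] [Algebra R B] [Algebra R D] [Algebra B D] [IsScalarTower R B D]
    {E : Scheme.{u}} (π : E ⟶ Spec (CommRingCat.of B)) [Mono π] (ψ₀ : B →+* D) (j : Spec (CommRingCat.of D) ⟶ E)
    (σ₁ : Spec (CommRingCat.of (Localization.Away (algebraMap R B f))) ⟶ E)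
    (hj : j ≫ π = Spec.map (CommRingCat.ofHom ψ₀))
    (hσ₁ : σ₁ ≫ π = Spec.map (CommRingCat.ofHom (algebraMap B (Localization.Away (algebraMap R B f)))))
    (hψ : ψ₀ = algebraMap B D) :
    IsPullback (Spec.map (CommRingCat.ofHom (algebraMap D (Localization.Away (algebraMap B D (algebraMap R B f))))))
      (Spec.map (CommRingCat.ofHom (locHom B D f))) j σ₁ := by
  subst hψ
  let : Algebra (Localization.Away (algebraMap R B f)) (Localization.Away (algebraMap B D (algebraMap R B f))) :=
    (locHom B D f).toAlgebra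
  have : IsScalarTower B (Localization.Away (algebraMap R B f))
      (Localization.Away (algebraMap B D (algebraMap R B f))) :=
    .of_algebraMap_eq fun a => by
      show _ = locHom B D f (algebraMap B _ a)
      rw [IsScalarTower.algebraMap_apply B D (Localization.Away (algebraMap B D (algebraMap R B f)))]
      exact (Groth.Agent.EtGlue7.locHom_algebraMap (R := R) (f := f) a).symm
  have := Groth.Agent.EtGlue7.isLocalization_locHom (A := B) (B := D) f
  have : Algebra.IsPushout B D (Localization.Away (algebraMap R B f))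
      (Localization.Away (algebraMap B D (algebraMap R B f))) :=
    Algebra.isPushout_of_isLocalization (Submonoid.powers (algebraMap R B f)) _ D _
  refine isPullback_of_mono_comp π ?_
  rw [hj, hσ₁]
  exact isPullback_SpecMap_of_isPushout _ _ _ _ (CommRingCat.isPushout_of_isPushout B D (Localization.Away (algebraMap R B f))
    (Localization.Away (algebraMap B D (algebraMap R B f))))

theorem sqBC {B D : Type u} [CommRing B] [CommRing D] [Algebra R B] [Algebra R D] [Algebra B D] [IsScalarTower R B D]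
    {E : Scheme.{u}} (π : E ⟶ Spec (CommRingCat.of B)) [Mono π] (ψ₀ : B →+* D) (j : Spec (CommRingCat.of D) ⟶ E)
    (σ₂ : Spec (CommRingCat.of (R' ⊗[R] B)) ⟶ E) (hj : j ≫ π = Spec.map (CommRingCat.ofHom ψ₀))
    (hσ₂ : σ₂ ≫ π =
      Spec.map (CommRingCat.ofHom (Algebra.TensorProduct.includeRight : B →ₐ[R] R' ⊗[R] B).toRingHom))
    (hψ : ψ₀ = algebraMap B D) :
    IsPullback (Spec.map (CommRingCat.ofHom (Algebra.TensorProduct.includeRight : D →ₐ[R] R' ⊗[R] D).toRingHom))
      (Spec.map (CommRingCat.ofHom (bcHom R B D R').toRingHom)) j σ₂ := by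
  subst hψ
  let : Algebra B (R' ⊗[R] B) := Algebra.TensorProduct.rightAlgebra
  let : Algebra D (R' ⊗[R] D) := Algebra.TensorProduct.rightAlgebra
  let : Algebra (R' ⊗[R] B) (R' ⊗[R] D) := (bcHom R B D R').toRingHom.toAlgebra
  let : Algebra B (R' ⊗[R] D) := ((algebraMap D (R' ⊗[R] D)).comp (algebraMap B D)).toAlgebra
  have : IsScalarTower B (R' ⊗[R] B) (R' ⊗[R] D) := .of_algebraMap_eq fun a => by
    show _ = bcHom R B D R' ((1 : R') ⊗ₜ[R] a)
    simp [Algebra.TensorProduct.map_tmul]
    rfl
  have : IsScalarTower B D (R' ⊗[R] D) := .of_algebraMap_eq fun _ => rfl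
  have : Algebra.IsPushout B (R' ⊗[R] B) D (R' ⊗[R] D) := Groth.Agent.EtGlue7.isPushout_bcHom fun _ => rfl
  have : Algebra.IsPushout B D (R' ⊗[R] B) (R' ⊗[R] D) := .symm inferInstance
  refine isPullback_of_mono_comp π ?_
  rw [hj, hσ₂]
  exact isPullback_SpecMap_of_isPushout _ _ _ _ (CommRingCat.isPushout_of_isPushout B D (R' ⊗[R] B) (R' ⊗[R] D))


theorem etale_locHom_quot {B D D' : Type u} [CommRing B] [CommRing D] [CommRing D'] [Algebra R B] [Algebra R D]
    [Algebra R D'] [Algebra B D] [Algebra B D'] [Algebra D D'] [IsScalarTower R B D] [IsScalarTower R B D']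
    [IsScalarTower B D D'] (hs : Function.Surjective (algebraMap D D'))
    (hk : ∀ m : D, algebraMap D D' m = 0 → ∃ n : ℕ, f ^ n • m = 0) (h : (locHom B D f).Etale) :
    (locHom B D' f).Etale := by
  have hle : Submonoid.powers (algebraMap B D (algebraMap R B f)) ≤
      (Submonoid.powers (algebraMap B D' (algebraMap R B f))).comap (algebraMap D D') := by
    rintro _ ⟨n, rfl⟩
    refine Submonoid.mem_comap.2 ((Submonoid.mem_powers_iff _ _).2 ⟨n, ?_⟩)
    simp only [map_pow]; rw [← IsScalarTower.algebraMap_apply B D D']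
  let qf : Localization.Away (algebraMap B D (algebraMap R B f)) →+*
      Localization.Away (algebraMap B D' (algebraMap R B f)) := IsLocalization.map _ (algebraMap D D') hle
  have e : locHom B D' f = qf.comp (locHom B D f) := by
    refine IsLocalization.ringHom_ext (Submonoid.powers (algebraMap R B f)) (RingHom.ext fun a => ?_)
    simp only [RingHom.comp_apply, Groth.Agent.EtGlue7.locHom_algebraMap, qf, IsLocalization.map_eq,
      ← IsScalarTower.algebraMap_apply B D D']
  have hb : Function.Bijective qf := by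
    constructor
    · rw [injective_iff_map_eq_zero]
      intro z hz
      obtain ⟨m, ⟨_, k, rfl⟩, rfl⟩ :=
        IsLocalization.exists_mk'_eq (Submonoid.powers (algebraMap B D (algebraMap R B f))) z
      rw [IsLocalization.mk'_eq_zero_iff]
      simp only [qf, IsLocalization.map_mk', IsLocalization.mk'_eq_zero_iff] at hz
      obtain ⟨⟨_, n, rfl⟩, hn⟩ := hz
      obtain ⟨l, hl⟩ := hk (algebraMap B D (algebraMap R B f) ^ n * m) (by
        rw [map_mul, map_pow, ← IsScalarTower.algebraMap_apply B D D']; exact hn)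
      refine ⟨⟨_, l + n, rfl⟩, ?_⟩
      rw [Algebra.smul_def, map_pow, IsScalarTower.algebraMap_apply R B D] at hl
      simpa [pow_add, mul_assoc] using hl
    · intro z
      obtain ⟨m, ⟨_, k, rfl⟩, rfl⟩ :=
        IsLocalization.exists_mk'_eq (Submonoid.powers (algebraMap B D' (algebraMap R B f))) z
      obtain ⟨m, rfl⟩ := hs m
      refine ⟨IsLocalization.mk' _ m (⟨_, k, rfl⟩ : Submonoid.powers (algebraMap B D (algebraMap R B f))), ?_⟩
      simp only [qf, IsLocalization.map_mk']
      congr 1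
      exact Subtype.ext (by simp only [map_pow]; rw [← IsScalarTower.algebraMap_apply B D D'])
  rw [e]
  exact RingHom.Etale.respectsIso.1 _ (RingEquiv.ofBijective qf hb) h

set_option maxHeartbeats 1600000 in
/-- A monomorphism to a glueable affine scheme with sections over both sides of the glueing pair has etale
local sections. -/
theorem exists_etale_section (hRR' : EtGlue.IsGlueingPair R R' f) {B : Type u} [CommRing B] [Algebra R B]
    (hB : EtGlue.IsGlueable R R' f B) {E : Scheme.{u}} (π : E ⟶ Spec (CommRingCat.of B)) [Mono π]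
    (σ₁ : Spec (CommRingCat.of (Localization.Away (algebraMap R B f))) ⟶ E)
    (hσ₁ : σ₁ ≫ π = Spec.map (CommRingCat.ofHom (algebraMap B (Localization.Away (algebraMap R B f)))))
    (σ₂ : Spec (CommRingCat.of (R' ⊗[R] B)) ⟶ E)
    (hσ₂ : σ₂ ≫ π =
      Spec.map (CommRingCat.ofHom (Algebra.TensorProduct.includeRight : B →ₐ[R] R' ⊗[R] B).toRingHom))
    (p : PrimeSpectrum B) :
    ∃ (D : Type u) (_ : CommRing D) (_ : Algebra R D) (ψ : B →ₐ[R] D) (r : Spec (CommRingCat.of D) ⟶ E)
      (q : PrimeSpectrum D), ψ.toRingHom.Etale ∧ r ≫ π = Spec.map (CommRingCat.ofHom ψ.toRingHom) ∧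
        q.comap ψ.toRingHom = p := by
  -- a point over `p`
  obtain ⟨e, hep, he⟩ : ∃ e : E, π e = p ∧ (e ∈ Set.range σ₁ ∨ e ∈ Set.range σ₂) := by
    by_cases hp : algebraMap R B f ∈ p.asIdeal
    · have hq1 := Groth.Agent.EtGlue7.quotPow_tensor hRR'.1 B 1 one_pos
      let : Algebra B (R' ⊗[R] B) := Algebra.TensorProduct.rightAlgebra
      rcases Groth.Agent.EtGlue7.jointly_surjective (R := B) (R' := R' ⊗[R] B)
        (f := algebraMap R B f ^ 1) hq1 p with ⟨x, hx⟩ | ⟨x, hx⟩
      · refine ⟨σ₂ x, ?_, .inr ⟨x, rfl⟩⟩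
        rw [← Scheme.Hom.comp_apply, hσ₂]
        exact hx
      · exfalso
        have : p ∈ Set.range (PrimeSpectrum.comap (algebraMap B (Localization.Away (algebraMap R B f ^ 1)))) :=
          ⟨x, hx⟩
        rw [PrimeSpectrum.localization_away_comap_range (Localization.Away (algebraMap R B f ^ 1))
          (algebraMap R B f ^ 1)] at this
        exact this (Ideal.pow_mem_of_mem _ hp 1 one_pos)
    · obtain ⟨x, hx⟩ : p ∈ Set.range (PrimeSpectrum.comap (algebraMap B (Localization.Away (algebraMap R B f)))) := by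
        rw [PrimeSpectrum.localization_away_comap_range (Localization.Away (algebraMap R B f)) (algebraMap R B f)]
        exact hp
      refine ⟨σ₁ x, ?_, .inl ⟨x, rfl⟩⟩
      rw [← Scheme.Hom.comp_apply, hσ₁]
      exact hx
  obtain ⟨V, hV, heV, -⟩ := exists_isAffineOpen_mem_and_subset (U := (⊤ : E.Opens)) (x := e) trivial
  obtain ⟨q₀, hq₀⟩ : e ∈ Set.range hV.fromSpec := by rw [hV.range_fromSpec]; exact heV
  let D : CommRingCat.{u} := Γ(E, V)
  let j : Spec D ⟶ E := hV.fromSpec
  let ψ₀ : CommRingCat.of B ⟶ D := Spec.preimage (j ≫ π)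
  have hj : j ≫ π = Spec.map ψ₀ := (Spec.map_preimage _).symm
  let _ : Algebra B D := ψ₀.hom.toAlgebra
  let _ : Algebra R D := (ψ₀.hom.comp (algebraMap R B)).toAlgebra
  have : IsScalarTower R B D := .of_algebraMap_eq fun _ => rfl
  let fB := algebraMap R B f
  let Bf := Localization.Away fB
  let Df := Localization.Away (algebraMap B D fB)
  -- the two base changes of `Spec D → Spec B` are open immersions
  have sq₁ := sqLoc (f := f) π ψ₀.hom j σ₁ hj hσ₁ rfl
  have sq₂ := sqBC (R' := R') π ψ₀.hom j σ₂ hj hσ₂ rfl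
  have h₁ : (locHom B D f).Etale := by
    refine (HasRingHomProperty.Spec_iff (P := @Etale) (φ := CommRingCat.ofHom (locHom B D f))).1 ?_
    have : IsOpenImmersion (Spec.map (CommRingCat.ofHom (locHom B D f))) :=
      MorphismProperty.of_isPullback (P := @IsOpenImmersion) sq₁ inferInstance
    infer_instance
  have h₂ : (bcHom R B D R').toRingHom.Etale := by
    refine (HasRingHomProperty.Spec_iff (P := @Etale) (φ := CommRingCat.ofHom (bcHom R B D R').toRingHom)).1 ?_
    have : IsOpenImmersion (Spec.map (CommRingCat.ofHom (bcHom R B D R').toRingHom)) :=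
      MorphismProperty.of_isPullback (P := @IsOpenImmersion) sq₂ inferInstance
    infer_instance
  -- kill the torsion invisible on both sides
  let N : Ideal D :=
    { carrier := {m | (∃ n : ℕ, f ^ n • m = 0) ∧ (1 : R') ⊗ₜ[R] m = 0}
      add_mem' := fun {a b} ⟨⟨n, hn⟩, ha⟩ ⟨⟨k, hk⟩, hb⟩ => ⟨⟨n + k, by
        rw [smul_add]
        conv_lhs => arg 2; rw [pow_add, mul_smul, hk, smul_zero]
        rw [pow_add, mul_comm, mul_smul, hn, smul_zero, add_zero]⟩, by rw [tmul_add, ha, hb, add_zero]⟩
      zero_mem' := ⟨⟨0, smul_zero _⟩, tmul_zero _ _⟩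
      smul_mem' := fun c m ⟨⟨n, hn⟩, hm⟩ => ⟨⟨n, by rw [smul_eq_mul, ← mul_smul_comm, hn, mul_zero]⟩, by
        rw [smul_eq_mul, show (1 : R') ⊗ₜ[R] (c * m) = ((1 : R') ⊗ₜ[R] c) * ((1 : R') ⊗ₜ[R] m) by simp, hm, mul_zero]⟩ }
  let D' := D ⧸ N
  let mk : D →ₐ[R] D' := Ideal.Quotient.mkₐ R N
  let ψ : B →ₐ[R] D' := mk.comp (IsScalarTower.toAlgHom R B D)
  let _ : Algebra B D' := ψ.toRingHom.toAlgebra
  have : IsScalarTower R B D' := .of_algebraMap_eq fun r => (ψ.commutes r).symm
  let _ : Algebra D D' := mk.toRingHom.toAlgebra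
  have : IsScalarTower B D D' := .of_algebraMap_eq fun _ => rfl
  have h₁' : (locHom B D' f).Etale := etale_locHom_quot (D := D) Ideal.Quotient.mk_surjective
    (fun m hm => (Ideal.Quotient.eq_zero_iff_mem.1 hm).1) h₁
  have hq' : Function.Bijective (Algebra.TensorProduct.map (AlgHom.id R R') mk) := by
    have hs : Function.Surjective (mk.toLinearMap.lTensor R') := LinearMap.lTensor_surjective _ Ideal.Quotient.mk_surjective
    have hex : Function.Exact ((N.restrictScalars R).subtype.lTensor R') (mk.toLinearMap.lTensor R') :=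
      lTensor_exact R' (fun x => ⟨fun hx => ⟨⟨x, Ideal.Quotient.eq_zero_iff_mem.1 hx⟩, rfl⟩,
        fun ⟨y, hy⟩ => hy ▸ Ideal.Quotient.eq_zero_iff_mem.2 y.2⟩) Ideal.Quotient.mk_surjective
    have hz : (N.restrictScalars R).subtype.lTensor R' = 0 := by
      refine TensorProduct.ext' fun r n => ?_
      show r ⊗ₜ[R] (n : D) = 0
      rw [show r ⊗ₜ[R] (n : D) = (r ⊗ₜ[R] (1 : D)) * ((1 : R') ⊗ₜ[R] (n : D)) by simp, n.2.2, mul_zero]
    have hi : Function.Injective (mk.toLinearMap.lTensor R') := by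
      rw [injective_iff_map_eq_zero]
      intro x hx
      obtain ⟨y, rfl⟩ := (hex x).1 hx
      rw [hz, LinearMap.zero_apply]
    exact ⟨hi, hs⟩
  have h₂' : (bcHom R B D' R').toRingHom.Etale := by
    have : (bcHom R B D' R').toRingHom =
        (Algebra.TensorProduct.map (AlgHom.id R R') mk).toRingHom.comp (bcHom R B D R').toRingHom := by
      have : bcHom R B D' R' = (Algebra.TensorProduct.map (AlgHom.id R R') mk).comp (bcHom R B D R') :=
        Algebra.TensorProduct.ext' fun _ _ => rfl
      rw [this]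
      rfl
    rw [this]
    exact RingHom.Etale.respectsIso.1 _ (RingEquiv.ofBijective _ hq') h₂
  have hN : N ≤ q₀.asIdeal := by
    rintro m ⟨⟨n, hn⟩, hm⟩
    rcases he with ⟨x, hx⟩ | ⟨x, hx⟩
    · obtain ⟨z, hz, -⟩ := Scheme.exists_preimage_of_isPullback sq₁ q₀ x (hq₀.trans hx.symm)
      rw [← hz]
      show algebraMap D Df m ∈ z.asIdeal
      have hu : IsUnit (algebraMap D Df (algebraMap B D fB)) := IsLocalization.Away.algebraMap_isUnit _
      have h0 : algebraMap D Df (algebraMap B D fB ^ n) * algebraMap D Df m = 0 := by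
        rw [← map_mul, ← map_zero (algebraMap D Df)]
        congr 1
        rwa [Algebra.smul_def, map_pow, IsScalarTower.algebraMap_apply R B D] at hn
      rw [map_pow, (hu.pow n).mul_right_eq_zero] at h0
      rw [h0]
      exact zero_mem _
    · obtain ⟨z, hz, -⟩ := Scheme.exists_preimage_of_isPullback sq₂ q₀ x (hq₀.trans hx.symm)
      rw [← hz]
      show (1 : R') ⊗ₜ[R] m ∈ z.asIdeal
      rw [hm]
      exact zero_mem _
  have hker : RingHom.ker (Ideal.Quotient.mk N) ≤ q₀.asIdeal := by rw [Ideal.mk_ker]; exact hN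
  let q : PrimeSpectrum D' := ⟨q₀.asIdeal.map (Ideal.Quotient.mk N),
    Ideal.map_isPrime_of_surjective Ideal.Quotient.mk_surjective hker⟩
  refine ⟨D', inferInstance, inferInstance, ψ, Spec.map (CommRingCat.ofHom mk.toRingHom) ≫ j, q,
    (Groth.Agent.EtGlue7.etale_iff (A := B) (B := D') hRR'.1 hB).2 ⟨h₁', h₂'⟩, ?_, ?_⟩
  · rw [Category.assoc, hj, ← Spec.map_comp]
    rfl
  · have hq : q.comap mk.toRingHom = q₀ := PrimeSpectrum.ext (by
      show (q₀.asIdeal.map (Ideal.Quotient.mk N)).comap (Ideal.Quotient.mk N) = q₀.asIdeal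
      rw [Ideal.comap_map_of_surjective' _ Ideal.Quotient.mk_surjective, sup_eq_left.mpr hker])
    have : Spec.map ψ₀ q₀ = p := by rw [← hj, Scheme.Hom.comp_apply, hq₀, hep]
    rw [← hq] at this
    exact this

open Groth.Agent.AlgSpLib Groth.Agent.RelNorm in
/-- Maps of glueable spaces agreeing over both sides of the glueing pair are equal. -/
theorem eq_of_eq (hRR' : EtGlue.IsGlueingPair R R' f) {Y Z : Space (Spec (CommRingCat.of R))}
    (hY : ∀ (A : Type u) [CommRing A] [Algebra R A] (g : (yon _).obj (aff R A) ⟶ Y.obj),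
      RepWith @Etale g → EtGlue.IsGlueable R R' f A)
    (a b : Y.obj ⟶ Z.obj)
    (hU : ∀ (A : Type u) [CommRing A] [Algebra R A] (g : (yon _).obj (aff R A) ⟶ Y.obj),
      IsUnit (algebraMap R A f) → g ≫ a = g ≫ b)
    (hX : ∀ (A : Type u) [CommRing A] [Algebra R A] (g : (yon _).obj (aff R A) ⟶ Y.obj),
      (∃ φ : R' →+* A, φ.comp (algebraMap R R') = algebraMap R A) → g ≫ a = g ≫ b) : a = b := by
  obtain ⟨ι, A, _, _, g, hg, hcov, hA⟩ := GlueableEt.exists_cover_of_forall hY
  have key : ∀ (k : ι) (p : PrimeSpectrum (A k)), ∃ (T : Over (Spec (CommRingCat.of R))) (c : (yon _).obj T ⟶ Y.obj),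
      (RepWith @Etale c ∧ c ≫ a = c ≫ b) ∧
        ∃ t, Points.ofPt c t = Points.ofPt (g k) (show ↥(aff R (A k)).left from p) := by
    intro k p
    let B := A k
    let q : (yon _).obj (aff R B) ⟶ prod Z.obj Z.obj := prod.lift (g k ≫ a) (g k ≫ b)
    have hd : Representable (diag Z.obj) := Z.property.diag
    let E := hd.pullback q
    let π : E ⟶ aff R B := hd.snd q
    let e : (yon _).obj E ⟶ Z.obj := hd.fst q
    have sq := hd.isPullback q
    have hm : Mono π := by
      have : Mono ((yon (Spec (CommRingCat.of R))).map π) :=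
        MorphismProperty.of_isPullback (P := MorphismProperty.monomorphisms _) sq
          (MorphismProperty.monomorphisms.infer_property (diag Z.obj))
      exact (yon _).mono_of_mono_map this
    have : Mono π.left := Over.mono_left_of_mono π
    have lift : ∀ {L : Type u} [CommRing L] [Algebra R L] (φ : B →ₐ[R] L),
        (∀ c : (yon _).obj (aff R L) ⟶ Y.obj, c ≫ a = c ≫ b) →
          ∃ σ : Spec (CommRingCat.of L) ⟶ E.left, σ ≫ π.left = Spec.map (CommRingCat.ofHom φ.toRingHom) := by
      intro L _ _ φ hφ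
      let u : aff R L ⟶ aff R B := CategoryTheory.Over.homMk (Spec.map (CommRingCat.ofHom φ.toRingHom)) (by
        show Spec.map _ ≫ Spec.map _ = Spec.map _
        rw [← Spec.map_comp, ← CommRingCat.ofHom_comp]
        congr 2
        exact φ.comp_algebraMap)
      have hu := hφ ((yon _).map u ≫ g k)
      obtain ⟨s, hs⟩ := (yon _).map_surjective (sq.lift ((yon _).map u ≫ g k ≫ a) ((yon _).map u) (by
        apply Limits.prod.hom_ext
        · simp [q]
        · simpa [q] using hu))
      refine ⟨s.left, ?_⟩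
      have : s ≫ π = u := (yon _).map_injective (by rw [Functor.map_comp, hs, sq.lift_snd])
      exact congrArg CommaMorphism.left this
    let Bf := Localization.Away (algebraMap R B f)
    obtain ⟨σ₁, hσ₁⟩ := lift (IsScalarTower.toAlgHom R B Bf) fun c => hU Bf c (by
      rw [IsScalarTower.algebraMap_apply R B Bf]; exact IsLocalization.Away.algebraMap_isUnit _)
    obtain ⟨σ₂, hσ₂⟩ := lift (Algebra.TensorProduct.includeRight : B →ₐ[R] R' ⊗[R] B) fun c => hX _ c
      ⟨(Algebra.TensorProduct.includeLeft : R' →ₐ[R] R' ⊗[R] B).toRingHom,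
        (Algebra.TensorProduct.includeLeft : R' →ₐ[R] R' ⊗[R] B).comp_algebraMap⟩
    obtain ⟨D, _, _, ψ, r, t, hψ, hr, ht⟩ := exists_etale_section hRR' (hA k) π.left σ₁ hσ₁ σ₂ hσ₂ p
    let d : aff R D ⟶ aff R B := CategoryTheory.Over.homMk (Spec.map (CommRingCat.ofHom ψ.toRingHom)) (by
      show Spec.map _ ≫ Spec.map _ = Spec.map _
      rw [← Spec.map_comp, ← CommRingCat.ofHom_comp]
      congr 2
      exact ψ.comp_algebraMap)
    let r' : aff R D ⟶ E := CategoryTheory.Over.homMk r (by
      show r ≫ E.hom = (aff R D).hom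
      rw [← Over.w π, ← Category.assoc, hr]
      exact Over.w d)
    have hde : Etale d.left :=
      (HasRingHomProperty.Spec_iff (P := @Etale) (φ := CommRingCat.ofHom ψ.toRingHom)).2 hψ
    refine ⟨aff R D, (yon _).map d ≫ g k, ⟨repWith_comp ((repWith_yon_map_iff _ d).2 hde) (hg k), ?_⟩,
      t, ?_⟩
    · have hrd : r' ≫ π = d := Over.OverMorphism.ext hr
      rw [← hrd, Functor.map_comp]
      have h₁ := congrArg (· ≫ (Limits.prod.fst : prod Z.obj Z.obj ⟶ Z.obj)) sq.w
      have h₂ := congrArg (· ≫ (Limits.prod.snd : prod Z.obj Z.obj ⟶ Z.obj)) sq.w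
      simp [q, π] at h₁ h₂ ⊢
      rw [← h₁, ← h₂]
    · rw [ofPt_comp]
      exact congrArg (Points.ofPt (g k)) ht
  let C : ∀ T, ((yon _).obj T ⟶ Y.obj) → Prop := fun T c => RepWith @Etale c ∧ c ≫ a = c ≫ b
  have hC : Covers C := by
    refine ⟨fun _ _ h => h.1, fun y => ?_⟩
    obtain ⟨k, z, rfl⟩ := hcov y
    obtain ⟨p, rfl⟩ := (Points.schemeHomeo (aff R (A k))).surjective z
    obtain ⟨T, c, hc, t, ht⟩ := key k p
    exact ⟨T, c, hc, t, ht.trans (Points.ofPt_eq_map_ofScheme _ _)⟩
  refine hom_ext_of_covers hC (𝟙 Y.obj) fun T c hc => ?_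
  have hfst : pullback.fst (𝟙 Y.obj) c = pullback.snd (𝟙 Y.obj) c ≫ c := by
    rw [← pullback.condition, Category.comp_id]
  rw [hfst, Category.assoc, Category.assoc, hc.2]

end Groth.Agent.AlgSpMor.GlueEq
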