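import Groth.Agent.AlgSpMor.GlueEq
import Groth.Agent.AlgSpMor.ColimitEtale
import Groth.Agent.EtGlue7.Glueing

/-!
# Maps out of glueable spaces glue along a glueing pair
-/

set_option autoImplicit false
set_option linter.style.haveILetI false
set_option linter.unusedVariables false
set_option backward.isDefEq.respectTransparency false
set_option backward.isDefEq.respectTransparency.types false

noncomputable section

universe u

open CategoryTheory CategoryTheory.Limits AlgebraicGeometry TensorProduct AlgSp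

namespace Groth.Agent.AlgSpMor.GlueHom

open Groth.Agent.AlgSpMor.GlueableEt (aff)
open Groth.Agent.EtGlue7 (locHom bcHom)

variable {R : Type u} [CommRing R]

section Sp

variable {A B C : Type u} [CommRing A] [CommRing B] [CommRing C] [Algebra R A] [Algebra R B] [Algebra R C]

/-- The map of affine schemes over the base given by an algebra map, as a map of sheaves. -/
def affHom (φ : A →ₐ[R] B) : aff R B ⟶ aff R A :=
  CategoryTheory.Over.homMk (Spec.map (CommRingCat.ofHom φ.toRingHom)) (by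
    show Spec.map _ ≫ Spec.map _ = Spec.map _
    rw [← Spec.map_comp, ← CommRingCat.ofHom_comp]
    congr 2
    exact φ.comp_algebraMap)

/-- The map of representable sheaves given by an algebra map. -/
abbrev sp (φ : A →ₐ[R] B) : (yon _).obj (aff R B) ⟶ (yon (Spec (CommRingCat.of R))).obj (aff R A) :=
  (yon _).map (affHom φ)

theorem affHom_comp (φ : A →ₐ[R] B) (ψ : B →ₐ[R] C) : affHom (ψ.comp φ) = affHom ψ ≫ affHom φ := by
  apply Over.OverMorphism.ext
  show Spec.map _ = Spec.map _ ≫ Spec.map _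
  rw [← Spec.map_comp]
  rfl

theorem sp_comp (φ : A →ₐ[R] B) (ψ : B →ₐ[R] C) : sp (ψ.comp φ) = sp ψ ≫ sp φ := by
  show (yon _).map _ = _
  rw [affHom_comp]
  exact (yon _).map_comp _ _

theorem exists_affHom_eq (k : aff R B ⟶ aff R A) : ∃ φ : A →ₐ[R] B, affHom φ = k := by
  obtain ⟨ψ, hψ⟩ : ∃ ψ : CommRingCat.of A ⟶ CommRingCat.of B, Spec.map ψ = k.left :=
    ⟨Spec.preimage k.left, Spec.map_preimage _⟩
  have h : CommRingCat.ofHom (algebraMap R A) ≫ ψ = CommRingCat.ofHom (algebraMap R B) := Spec.map_injective (by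
    rw [Spec.map_comp, hψ]; exact Over.w k)
  refine ⟨{ ψ.hom with commutes' := fun r => RingHom.congr_fun (congrArg CommRingCat.Hom.hom h) r }, ?_⟩
  exact Over.OverMorphism.ext hψ

theorem sp_surjective (m : (yon _).obj (aff R B) ⟶ (yon (Spec (CommRingCat.of R))).obj (aff R A)) :
    ∃ φ : A →ₐ[R] B, sp φ = m := by
  obtain ⟨k, rfl⟩ := (yon _).map_surjective m
  obtain ⟨φ, rfl⟩ := exists_affHom_eq k
  exact ⟨φ, rfl⟩

theorem sp_injective {φ ψ : A →ₐ[R] B} (h : sp φ = sp ψ) : φ = ψ := by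
  have := Spec.map_injective (congrArg CommaMorphism.left ((yon _).map_injective h))
  exact AlgHom.coe_ringHom_injective (congrArg CommRingCat.Hom.hom this)

/-- An affine scheme over the base is the spectrum of an algebra. -/
theorem exists_aff_iso (W : Over (Spec (CommRingCat.of R))) (hW : IsAffine W.left) :
    ∃ (D : Type u) (_ : CommRing D) (_ : Algebra R D), Nonempty (aff R D ≅ W) := by
  let ψ : CommRingCat.of R ⟶ Γ(W.left, ⊤) := Spec.preimage (W.left.isoSpec.inv ≫ W.hom)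
  let _ : Algebra R Γ(W.left, ⊤) := ψ.hom.toAlgebra
  refine ⟨Γ(W.left, ⊤), inferInstance, inferInstance, ⟨CategoryTheory.Over.isoMk W.left.isoSpec.symm ?_⟩⟩
  show W.left.isoSpec.inv ≫ W.hom = Spec.map ψ
  rw [Spec.map_preimage]

theorem point_eq (φ : A →ₐ[R] B) (q : PrimeSpectrum B) :
    (affHom φ).left q = (show ↥(aff R A).left from q.comap φ.toRingHom) := rfl

end Sp

theorem hom_terminal_ext {T : Sp (Spec (CommRingCat.of R))}
    (x y : T ⟶ (yon (Spec (CommRingCat.of R))).obj (Over.mk (𝟙 _))) : x = y :=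
  (CategoryTheory.Over.mkIdTerminal.isTerminalObj (yon (Spec (CommRingCat.of R)))).hom_ext x y

section Pull

variable {Z : Sp (Spec (CommRingCat.of R))}

/-- The pullback of two affine schemes over a sheaf with affine diagonal, as an algebra. -/
theorem exists_pullAlg (hd : IsAffineMor (diag Z)) {A C : Type u} [CommRing A] [CommRing C] [Algebra R A]
    [Algebra R C] (a : (yon _).obj (aff R A) ⟶ Z) (c : (yon _).obj (aff R C) ⟶ Z) :
    ∃ (D : Type u) (_ : CommRing D) (_ : Algebra R D) (jA : A →ₐ[R] D) (jC : C →ₐ[R] D),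
      IsPullback (sp jC) (sp jA) c a := by
  let P := Over.mk (pullback.fst (aff R A).hom (aff R C).hom ≫ (aff R A).hom)
  let p : P ⟶ aff R A := CategoryTheory.Over.homMk (pullback.fst _ _) rfl
  let q : P ⟶ aff R C := CategoryTheory.Over.homMk (pullback.snd _ _) pullback.condition.symm
  let tA : aff R A ⟶ Over.mk (𝟙 (Spec (CommRingCat.of R))) := CategoryTheory.Over.homMk (aff R A).hom (Category.comp_id _)
  let tC : aff R C ⟶ Over.mk (𝟙 (Spec (CommRingCat.of R))) := CategoryTheory.Over.homMk (aff R C).hom (Category.comp_id _)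
  have sqP : IsPullback p q tA tC :=
    IsPullback.of_map (Over.forget _) (Over.OverMorphism.ext pullback.condition) (IsPullback.of_hasPullback _ _)
  have sqY := sqP.map (yon (Spec (CommRingCat.of R)))
  have : IsAffine P.left := inferInstanceAs (IsAffine (pullback (Spec.map (CommRingCat.ofHom (algebraMap R A)))
    (Spec.map (CommRingCat.ofHom (algebraMap R C)))))
  obtain ⟨W, i, e, sq, hW⟩ := hd this (prod.lift ((yon _).map p ≫ a) ((yon _).map q ≫ c))
  obtain ⟨D, _, _, ⟨ε⟩⟩ := exists_aff_iso W hW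
  obtain ⟨jA, hjA⟩ := sp_surjective ((yon _).map (ε.hom ≫ i ≫ p))
  obtain ⟨jC, hjC⟩ := sp_surjective ((yon _).map (ε.hom ≫ i ≫ q))
  refine ⟨D, inferInstance, inferInstance, jA, jC, ?_⟩
  have e₁ := congrArg (· ≫ (Limits.prod.fst : prod Z Z ⟶ Z)) sq.w
  have e₂ := congrArg (· ≫ (Limits.prod.snd : prod Z Z ⟶ Z)) sq.w
  simp only [Category.assoc, prod.lift_fst, prod.lift_snd, Category.comp_id] at e₁ e₂
  rw [hjA, hjC]
  have key : IsPullback ((yon _).map (i ≫ q)) ((yon _).map (i ≫ p)) c a := by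
    refine ⟨⟨by simp only [Functor.map_comp, Category.assoc]; rw [← e₁, ← e₂]⟩, ⟨PullbackCone.IsLimit.mk _
      (fun s => sq.lift (s.snd ≫ a) (sqY.lift s.snd s.fst (hom_terminal_ext _ _)) ?_) (fun s => ?_) (fun s => ?_)
      fun s m h₁ h₂ => ?_⟩⟩
    · apply Limits.prod.hom_ext
      · simp [sqY.lift_fst_assoc]
      · simp [sqY.lift_snd_assoc, s.condition]
    · rw [Functor.map_comp, sq.lift_snd_assoc, sqY.lift_snd]
    · rw [Functor.map_comp, sq.lift_snd_assoc, sqY.lift_fst]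
    · simp only [Functor.map_comp] at h₁ h₂
      refine sq.hom_ext ?_ ?_
      · rw [sq.lift_fst, e₁, reassoc_of% h₂]
      · rw [sq.lift_snd]
        refine sqY.hom_ext ?_ ?_
        · rw [Category.assoc, h₂, sqY.lift_fst]
        · rw [Category.assoc, h₁, sqY.lift_snd]
  refine IsPullback.of_iso key ((yon _).mapIso ε).symm (Iso.refl _) (Iso.refl _) (Iso.refl _) ?_ ?_ (by simp) (by simp) <;>
    simp [← Functor.map_comp]

variable {A C D T : Type u} [CommRing A] [CommRing C] [CommRing D] [CommRing T] [Algebra R A]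
  [Algebra R C] [Algebra R D] [Algebra R T] {a : (yon _).obj (aff R A) ⟶ Z} {c : (yon _).obj (aff R C) ⟶ Z}
  {jA : A →ₐ[R] D} {jC : C →ₐ[R] D}

theorem exists_pair (sq : IsPullback (sp jC) (sp jA) c a) (α : A →ₐ[R] T) (γ : C →ₐ[R] T)
    (h : sp γ ≫ c = sp α ≫ a) : ∃ δ : D →ₐ[R] T, δ.comp jA = α ∧ δ.comp jC = γ := by
  obtain ⟨δ, hδ⟩ := sp_surjective (sq.lift (sp γ) (sp α) h)
  exact ⟨δ, sp_injective (by rw [sp_comp, hδ, sq.lift_snd]), sp_injective (by rw [sp_comp, hδ, sq.lift_fst])⟩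

theorem pair_ext (sq : IsPullback (sp jC) (sp jA) c a) {δ δ' : D →ₐ[R] T} (h₁ : δ.comp jA = δ'.comp jA)
    (h₂ : δ.comp jC = δ'.comp jC) : δ = δ' :=
  sp_injective (sq.hom_ext (by rw [← sp_comp, ← sp_comp, h₂]) (by rw [← sp_comp, ← sp_comp, h₁]))

end Pull

variable {R' : Type u} [CommRing R'] [Algebra R R'] {f : R}

/-- A pair of algebras over both sides, identified over the overlap, glues to a glueable algebra. -/
theorem exists_glued_algebra (hRR' : EtGlue.IsGlueingPair R R' f) (D₁ : Type u) [CommRing D₁] [Algebra R D₁]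
    (h₁ : IsUnit (algebraMap R D₁ f)) (D' : Type u) [CommRing D'] [Algebra R D'] [Algebra R' D']
    [IsScalarTower R R' D'] (γ : D' →ₐ[R'] R' ⊗[R] D₁) (hker : ∀ x, γ x = 0 → ∃ n : ℕ, f ^ n • x = 0)
    (hsurj : ∀ y : D₁, ∃ (n : ℕ) (x : D'), γ x = (1 : R') ⊗ₜ[R] (f ^ n • y)) :
    ∃ (D : Type u) (_ : CommRing D) (_ : Algebra R D) (p : D →ₐ[R] D') (q : D →ₐ[R] D₁)
      (Ψ : R' ⊗[R] D ≃ₐ[R'] D'), EtGlue.IsGlueable R R' f D ∧ (∀ d, Ψ ((1 : R') ⊗ₜ[R] d) = p d) ∧
        (∀ z : D₁, ∃ (n : ℕ) (d : D), algebraMap R D₁ f ^ n * z = q d) ∧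
        (∀ d, q d = 0 → ∃ n : ℕ, f ^ n • d = 0) ∧
        ∀ {A : Type u} [CommRing A] [Algebra R A] (x : A →ₐ[R] D') (y : A →ₐ[R] D₁),
          (∀ a, γ (x a) = (1 : R') ⊗ₜ[R] y a) → ∃ h : A →ₐ[R] D, p.comp h = x ∧ q.comp h = y := by
  let E := AlgHom.equalizer ((γ.restrictScalars R).comp (AlgHom.fst R D' D₁))
    (Algebra.TensorProduct.includeRight.comp (AlgHom.snd R D' D₁))
  let p : E →ₐ[R] D' := (AlgHom.fst R D' D₁).comp E.val
  let q : E →ₐ[R] D₁ := (AlgHom.snd R D' D₁).comp E.val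
  let D : Groth.Agent.EtGlue7.GlueData R R' f E D' D₁ :=
    { p := p.toLinearMap
      q := q.toLinearMap
      β := (γ.restrictScalars R).toLinearMap
      β_smul := fun r x => map_smul γ r x
      comm := fun m => m.2
      inj := fun m h1 h2 => Subtype.ext (Prod.ext h1 h2)
      lift := fun x y h => ⟨⟨(x, y), h⟩, rfl, rfl⟩
      bij := by
        simp_rw [Algebra.smul_def]
        exact ⟨fun a b h => IsUnit.mul_left_cancel h₁ h, fun y => ⟨↑(IsUnit.unit h₁)⁻¹ * y, by
          show algebraMap R D₁ f * _ = y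
          rw [← mul_assoc, IsUnit.mul_val_inv, one_mul]⟩⟩
      ker := hker
      surj := hsurj }
  have hloc := D.isLocalizedModule
  let Ψ : R' ⊗[R] E →ₐ[R'] D' := Algebra.TensorProduct.lift (Algebra.ofId R' D') p fun _ _ => Commute.all _ _
  have hΨ : ∀ t, Ψ t = D.toTensor t := fun t => by
    induction t with
    | zero => simp
    | tmul r a => simp [Ψ, D, Groth.Agent.EtGlue7.GlueData.toTensor, Algebra.smul_def]
    | add a b ha hb => simp only [map_add, ha, hb]
  refine ⟨E, inferInstance, inferInstance, p, q,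
    AlgEquiv.ofBijective Ψ (by rw [show ⇑Ψ = D.toTensor from funext hΨ]; exact D.bijective_toTensor hRR'),
    D.isGlueable hRR', fun d => (hΨ _).trans (D.toTensor_one_tmul d), fun z => ?_, fun d hd => ?_, ?_⟩
  · obtain ⟨⟨d, ⟨_, n, rfl⟩⟩, hd⟩ := IsLocalizedModule.surj (Submonoid.powers f) D.q z
    refine ⟨n, d, ?_⟩
    rw [← map_pow, ← Algebra.smul_def]
    exact hd
  · obtain ⟨⟨_, n, rfl⟩, hn⟩ := (IsLocalizedModule.eq_zero_iff (Submonoid.powers f) D.q).1 hd
    exact ⟨n, hn⟩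
  · intro A _ _ x y h
    exact ⟨(x.prod y).codRestrict E h, rfl, rfl⟩

section Local

open Groth.Agent.AlgSpLib

variable {Z : Space (Spec (CommRingCat.of R))} {A : Type u} [CommRing A] [Algebra R A]
  {zU : (yon _).obj (aff R (Localization.Away (algebraMap R A f))) ⟶ Z.obj}
  {zX : (yon _).obj (aff R (R' ⊗[R] A)) ⟶ Z.obj}

theorem isUnit_away : IsUnit (algebraMap R (Localization.Away (algebraMap R A f)) f) :=
  (IsScalarTower.algebraMap_apply R A (Localization.Away (algebraMap R A f)) f).symm ▸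
    IsLocalization.Away.algebraMap_isUnit (algebraMap R A f)

/-- An affine chart of the target at the image of a point of the base. -/
theorem exists_chart_at_point (hRR' : EtGlue.IsGlueingPair R R' f)
    (zU : (yon _).obj (aff R (Localization.Away (algebraMap R A f))) ⟶ Z.obj)
    (zX : (yon _).obj (aff R (R' ⊗[R] A)) ⟶ Z.obj) (p : PrimeSpectrum A) :
    ∃ (C : Type u) (_ : CommRing C) (_ : Algebra R C) (c : (yon _).obj (aff R C) ⟶ Z.obj) (v : ↥(aff R C).left),
      RepWith @Etale c ∧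
        ((∃ u : PrimeSpectrum (Localization.Away (algebraMap R A f)),
            u.comap (IsScalarTower.toAlgHom R A (Localization.Away (algebraMap R A f))).toRingHom = p ∧
              Points.ofPt c v = Points.ofPt zU (show ↥(aff R (Localization.Away (algebraMap R A f))).left from u)) ∨
          ∃ x : PrimeSpectrum (R' ⊗[R] A),
            x.comap (Algebra.TensorProduct.includeRight : A →ₐ[R] R' ⊗[R] A).toRingHom = p ∧
              Points.ofPt c v = Points.ofPt zX (show ↥(aff R (R' ⊗[R] A)).left from x)) := by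
  have chart : ∀ z : Points Z.obj, ∃ (C : Type u) (_ : CommRing C) (_ : Algebra R C)
      (c : (yon _).obj (aff R C) ⟶ Z.obj) (v : ↥(aff R C).left), RepWith @Etale c ∧ Points.ofPt c v = z := fun z => by
    obtain ⟨V, c₀, v, hV, hc₀, hvz⟩ := AlgSpDec.exists_affine_chart_at Z.property z
    obtain ⟨C, _, _, ⟨ε⟩⟩ := exists_aff_iso V hV
    refine ⟨C, inferInstance, inferInstance, (yon _).map ε.hom ≫ c₀, ε.inv.left v,
      repWith_comp ((repWith_yon_map_iff _ ε.hom).2 (inferInstanceAs (Etale ((Over.forget _).map ε.hom)))) hc₀, ?_⟩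
    rw [← Groth.Agent.AlgSpLib.ofPt_comp, ← Category.assoc, ← Functor.map_comp, ε.inv_hom_id,
      CategoryTheory.Functor.map_id, Category.id_comp, hvz]
  let fA := algebraMap R A f
  by_cases hp : fA ∈ p.asIdeal
  · have hq1 := Groth.Agent.EtGlue7.quotPow_tensor hRR'.1 A 1 one_pos
    let : Algebra A (R' ⊗[R] A) := Algebra.TensorProduct.rightAlgebra
    rcases Groth.Agent.EtGlue7.jointly_surjective (R := A) (R' := R' ⊗[R] A) (f := fA ^ 1) hq1 p with
      ⟨x, hx⟩ | ⟨x, hx⟩
    · obtain ⟨C, i₁, i₂, c, v, hc, hv⟩ := chart (Points.ofPt zX (show ↥(aff R (R' ⊗[R] A)).left from x))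
      exact ⟨C, i₁, i₂, c, v, hc, .inr ⟨x, hx, hv⟩⟩
    · exfalso
      have : p ∈ Set.range (PrimeSpectrum.comap (algebraMap A (Localization.Away (fA ^ 1)))) := ⟨x, hx⟩
      rw [PrimeSpectrum.localization_away_comap_range (Localization.Away (fA ^ 1)) (fA ^ 1)] at this
      exact this (Ideal.pow_mem_of_mem _ hp 1 one_pos)
  · obtain ⟨x, hx⟩ : p ∈ Set.range (PrimeSpectrum.comap (algebraMap A (Localization.Away fA))) := by
      rw [PrimeSpectrum.localization_away_comap_range (Localization.Away fA) fA]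
      exact hp
    obtain ⟨C, i₁, i₂, c, v, hc, hv⟩ := chart (Points.ofPt zU (show ↥(aff R (Localization.Away fA)).left from x))
    exact ⟨C, i₁, i₂, c, v, hc, .inl ⟨x, hx, hv⟩⟩

variable {C : Type u} [CommRing C] [Algebra R C] {c : (yon _).obj (aff R C) ⟶ Z.obj}
  {D₁ : Type u} [CommRing D₁] [Algebra R D₁] {jA : Localization.Away (algebraMap R A f) →ₐ[R] D₁}
  {jC : C →ₐ[R] D₁} {D' : Type u} [CommRing D'] [Algebra R D'] [Algebra R' D'] [IsScalarTower R R' D']
  {jA' : R' ⊗[R] A →ₐ[R] D'} {jC' : C →ₐ[R] D'}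

theorem exists_away_lift {A L T : Type u} [CommRing A] [CommRing L] [CommRing T] [Algebra R A] [Algebra R L] [Algebra R T]
    [Algebra A L] [IsScalarTower R A L] [IsLocalization.Away (algebraMap R A f) L] (g : A →ₐ[R] T)
    (hu : IsUnit (algebraMap R T f)) : ∃ α : L →ₐ[R] T, α.comp (IsScalarTower.toAlgHom R A L) = g := by
  have hu' : IsUnit (g.toRingHom (algebraMap R A f)) := by
    show IsUnit (g (algebraMap R A f))
    rwa [AlgHom.commutes]
  exact ⟨{ IsLocalization.Away.lift (algebraMap R A f) hu' with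
      commutes' := fun r => by
        show IsLocalization.Away.lift (algebraMap R A f) hu' (algebraMap R L r) = _
        rw [IsScalarTower.algebraMap_apply R A L, IsLocalization.Away.lift_eq]
        exact g.commutes r }, AlgHom.ext fun a => IsLocalization.Away.lift_eq _ hu' a⟩

theorem away_hom_ext {A L T : Type u} [CommRing A] [CommRing L] [CommRing T] [Algebra R A] [Algebra R L] [Algebra R T]
    [Algebra A L] [IsScalarTower R A L] [IsLocalization.Away (algebraMap R A f) L] {α β : L →ₐ[R] T}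
    (h : α.comp (IsScalarTower.toAlgHom R A L) = β.comp (IsScalarTower.toAlgHom R A L)) : α = β :=
  AlgHom.coe_ringHom_injective (IsLocalization.ringHom_ext (Submonoid.powers (algebraMap R A f))
    (congrArg AlgHom.toRingHom h))

section Abstract

variable {Af : Type u} [CommRing Af] [Algebra R Af] [Algebra A Af] [IsScalarTower R A Af]
  [IsLocalization.Away (algebraMap R A f) Af] {zL : (yon _).obj (aff R Af) ⟶ Z.obj} {jL : Af →ₐ[R] D₁}
  {Df : Type u} [CommRing Df] [Algebra R Df] [Algebra D' Df] [IsScalarTower R D' Df]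
  [IsLocalization.Away (algebraMap R D' f) Df]

variable (Df) in
omit [Algebra R' D'] [IsScalarTower R R' D'] in
theorem exists_bwd (sq₁ : IsPullback (sp jC) (sp jL) c zL) (sq' : IsPullback (sp jC') (sp jA') c zX)
    (agree : ∀ (T : Type u) [CommRing T] [Algebra R T] (α : Af →ₐ[R] T)
      (β : R' ⊗[R] A →ₐ[R] T), α.comp (IsScalarTower.toAlgHom R A _) = β.comp Algebra.TensorProduct.includeRight →
        sp α ≫ zL = sp β ≫ zX) (hDf : IsUnit (algebraMap R Df f)) :
    ∃ δ : D₁ →ₐ[R] Df,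
      (δ.comp jL).comp (IsScalarTower.toAlgHom R A Af) =
          (IsScalarTower.toAlgHom R D' Df).comp (jA'.comp Algebra.TensorProduct.includeRight) ∧
        δ.comp jC = (IsScalarTower.toAlgHom R D' Df).comp jC' := by
  obtain ⟨α₂, hα₂⟩ := exists_away_lift (f := f) (L := Af)
    ((IsScalarTower.toAlgHom R D' Df).comp (jA'.comp Algebra.TensorProduct.includeRight)) hDf
  obtain ⟨δ, hδA, hδC⟩ := exists_pair sq₁ α₂ ((IsScalarTower.toAlgHom R D' Df).comp jC') (by
    rw [sp_comp, Category.assoc, sq'.w, ← Category.assoc, ← sp_comp]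
    exact (agree _ _ _ (by rw [hα₂]; rfl)).symm)
  exact ⟨δ, by rw [hδA, hα₂], hδC⟩

omit [Algebra R' D'] [IsScalarTower R R' D'] in
theorem exists_gamma (sq₁ : IsPullback (sp jC) (sp jL) c zL) (sq' : IsPullback (sp jC') (sp jA') c zX)
    (agree : ∀ (T : Type u) [CommRing T] [Algebra R T] (α : Af →ₐ[R] T)
      (β : R' ⊗[R] A →ₐ[R] T), α.comp (IsScalarTower.toAlgHom R A _) = β.comp Algebra.TensorProduct.includeRight →
        sp α ≫ zL = sp β ≫ zX) :
    ∃ γ : D' →ₐ[R] R' ⊗[R] D₁,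
      γ.comp jA' = Algebra.TensorProduct.map (AlgHom.id R R') (jL.comp (IsScalarTower.toAlgHom R A Af)) ∧
        γ.comp jC' = (Algebra.TensorProduct.includeRight : D₁ →ₐ[R] R' ⊗[R] D₁).comp jC := by
  refine exists_pair sq' _ _ ?_
  rw [sp_comp, Category.assoc, sq₁.w, ← Category.assoc, ← sp_comp]
  refine agree _ _ _ (AlgHom.ext fun a => ?_)
  simp

end Abstract

/-- The two base changes of a chart are identified over the overlap. -/
theorem exists_overlap (sq₁ : IsPullback (sp jC) (sp jA) c zU) (sq' : IsPullback (sp jC') (sp jA') c zX)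
    (agree : ∀ (T : Type u) [CommRing T] [Algebra R T] (α : Localization.Away (algebraMap R A f) →ₐ[R] T)
      (β : R' ⊗[R] A →ₐ[R] T), α.comp (IsScalarTower.toAlgHom R A _) = β.comp Algebra.TensorProduct.includeRight →
        sp α ≫ zU = sp β ≫ zX)
    (hL : ∀ r : R', algebraMap R' D' r = jA' ((Algebra.TensorProduct.includeLeft : R' →ₐ[R] R' ⊗[R] A) r))
    (Df : Type u) [CommRing Df] [Algebra R Df] [Algebra D' Df] [IsScalarTower R D' Df]
    [IsLocalization.Away (algebraMap R D' f) Df] :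
    ∃ γ : D' →ₐ[R'] R' ⊗[R] D₁,
      (∀ a, γ (jA' ((Algebra.TensorProduct.includeRight : A →ₐ[R] R' ⊗[R] A) a)) =
        (1 : R') ⊗ₜ[R] jA (algebraMap A _ a)) ∧
      (∀ x, γ (jC' x) = (1 : R') ⊗ₜ[R] jC x) ∧ (∀ x, γ x = 0 → ∃ n : ℕ, f ^ n • x = 0) ∧
      ∀ y : D₁, ∃ (n : ℕ) (x : D'), γ x = (1 : R') ⊗ₜ[R] (f ^ n • y) := by
  have hu₁ : IsUnit (algebraMap R D₁ f) := by rw [← jA.commutes]; exact (isUnit_away (f := f)).map jA
  have hDf : IsUnit (algebraMap R Df f) := by
    rw [IsScalarTower.algebraMap_apply R D' Df]; exact IsLocalization.Away.algebraMap_isUnit _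
  obtain ⟨γ₀, hγA, hγC⟩ := exists_gamma sq₁ sq' agree
  obtain ⟨δ, hδA, hδC⟩ := exists_bwd Df sq₁ sq' agree hDf
  have hγR : ∀ a, γ₀ (jA' ((1 : R') ⊗ₜ[R] a)) = (1 : R') ⊗ₜ[R] jA (algebraMap A _ a) := fun a => by
    rw [← AlgHom.comp_apply, hγA]; simp
  let bwd : R' ⊗[R] D₁ →ₐ[R] Df := Algebra.TensorProduct.lift
    ((IsScalarTower.toAlgHom R D' Df).comp (jA'.comp (Algebra.TensorProduct.includeLeft : R' →ₐ[R] R' ⊗[R] A))) δ
    (fun _ _ => Commute.all _ _)
  have hbγ : bwd.comp γ₀ = IsScalarTower.toAlgHom R D' Df := by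
    refine pair_ext sq' ?_ ?_
    · rw [AlgHom.comp_assoc, hγA]
      refine Algebra.TensorProduct.ext' fun r a => ?_
      have h1 := AlgHom.congr_fun hδA a
      simp only [AlgHom.comp_apply, IsScalarTower.coe_toAlgHom'] at h1
      simp only [bwd, AlgHom.comp_apply, Algebra.TensorProduct.map_tmul, Algebra.TensorProduct.lift_tmul,
        AlgHom.id_apply, IsScalarTower.coe_toAlgHom']
      rw [h1, ← map_mul, ← map_mul]
      simp
    · rw [AlgHom.comp_assoc, hγC, ← AlgHom.comp_assoc]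
      rw [show bwd.comp (Algebra.TensorProduct.includeRight : D₁ →ₐ[R] R' ⊗[R] D₁) = δ from
        Algebra.TensorProduct.lift_comp_includeRight _ _ (fun _ _ => Commute.all _ _), hδC]
  obtain ⟨fwd, hfwd⟩ := exists_away_lift (f := f) (L := Df) γ₀
    (by rw [← (Algebra.TensorProduct.includeRight : D₁ →ₐ[R] R' ⊗[R] D₁).commutes]; exact hu₁.map _)
  have hfδ : fwd.comp δ = (Algebra.TensorProduct.includeRight : D₁ →ₐ[R] R' ⊗[R] D₁) := by
    refine pair_ext sq₁ (away_hom_ext (f := f) (A := A) ?_) (by rw [AlgHom.comp_assoc, hδC, ← AlgHom.comp_assoc, hfwd, hγC])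
    rw [AlgHom.comp_assoc fwd δ jA, AlgHom.comp_assoc fwd, hδA, ← AlgHom.comp_assoc, hfwd]
    exact AlgHom.ext hγR
  refine ⟨{ γ₀.toRingHom with
      commutes' := fun r => by
        show γ₀ (algebraMap R' D' r) = _
        rw [hL, ← AlgHom.comp_apply, hγA]
        simp }, hγR, fun x => AlgHom.congr_fun hγC x, fun x hx => ?_, fun y => ?_⟩
  · have h0 : algebraMap D' Df x = 0 := by
      show (IsScalarTower.toAlgHom R D' Df) x = 0
      rw [← hbγ, AlgHom.comp_apply, show γ₀ x = 0 from hx, map_zero]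
    obtain ⟨⟨_, n, rfl⟩, hn⟩ := (IsLocalization.map_eq_zero_iff (Submonoid.powers (algebraMap R D' f)) Df x).1 h0
    exact ⟨n, by rw [Algebra.smul_def, map_pow]; exact hn⟩
  · obtain ⟨⟨x, ⟨_, n, rfl⟩⟩, hx⟩ := IsLocalization.surj (Submonoid.powers (algebraMap R D' f)) (δ y)
    refine ⟨n, x, ?_⟩
    have h3 := congrArg fwd hx
    have h4 : ∀ z, fwd (algebraMap D' Df z) = γ₀ z := AlgHom.congr_fun hfwd
    rw [map_mul, ← AlgHom.comp_apply, hfδ, h4, h4] at h3
    show γ₀ x = _
    rw [← h3, map_pow, AlgHom.commutes, ← (Algebra.TensorProduct.includeRight : D₁ →ₐ[R] R' ⊗[R] D₁).commutes,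
      ← map_pow, ← map_mul]
    simp [Algebra.smul_def, mul_comm]

variable {D : Type u} [CommRing D] [Algebra R D] {ψ : A →ₐ[R] D}

/-- The localisation of the glued algebra. -/
theorem isLocalization_glued {q : D →ₐ[R] D₁} (hu₁ : IsUnit (algebraMap R D₁ f))
    (hqs : ∀ z : D₁, ∃ (n : ℕ) (d : D), algebraMap R D₁ f ^ n * z = q d)
    (hqk : ∀ d, q d = 0 → ∃ n : ℕ, f ^ n • d = 0) :
    @IsLocalization _ _ (Submonoid.powers (algebraMap R D f)) D₁ _ q.toRingHom.toAlgebra := by
  let _ : Algebra D D₁ := q.toRingHom.toAlgebra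
  have : IsScalarTower R D D₁ := .of_algebraMap_eq fun r => (q.commutes r).symm
  refine ⟨?_, fun z => ?_, fun {x y} h => ?_⟩
  · rintro ⟨_, n, rfl⟩
    show IsUnit (algebraMap D D₁ (algebraMap R D f ^ n))
    rw [map_pow, ← IsScalarTower.algebraMap_apply]
    exact hu₁.pow n
  · obtain ⟨n, d, hd⟩ := hqs z
    refine ⟨⟨d, ⟨_, n, rfl⟩⟩, ?_⟩
    show z * algebraMap D D₁ (algebraMap R D f ^ n) = q d
    rw [map_pow, ← IsScalarTower.algebraMap_apply, mul_comm, hd]
  · obtain ⟨n, hn⟩ := hqk (x - y) (by rw [map_sub]; exact sub_eq_zero.2 h)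
    refine ⟨⟨_, n, rfl⟩, ?_⟩
    rw [Algebra.smul_def, map_pow, mul_sub, sub_eq_zero] at hn
    exact hn

theorem etale_locHom_glued {q : D →ₐ[R] D₁} (hu₁ : IsUnit (algebraMap R D₁ f))
    (hqs : ∀ z : D₁, ∃ (n : ℕ) (d : D), algebraMap R D₁ f ^ n * z = q d)
    (hqk : ∀ d, q d = 0 → ∃ n : ℕ, f ^ n • d = 0) (hψq : q.comp ψ = jA.comp (IsScalarTower.toAlgHom R A _))
    (hetA : jA.toRingHom.Etale) [Algebra A D] [IsScalarTower R A D] (hψ : ∀ a, algebraMap A D a = ψ a) :
    (locHom A D f).Etale := by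
  let _ : Algebra D D₁ := q.toRingHom.toAlgebra
  have : IsLocalization.Away (algebraMap A D (algebraMap R A f)) D₁ := by
    rw [← IsScalarTower.algebraMap_apply R A D]
    exact isLocalization_glued hu₁ hqs hqk
  let e := IsLocalization.algEquiv (Submonoid.powers (algebraMap A D (algebraMap R A f))) D₁
    (Localization.Away (algebraMap A D (algebraMap R A f)))
  have : locHom A D f = e.toRingEquiv.toRingHom.comp jA.toRingHom := by
    refine IsLocalization.ringHom_ext (Submonoid.powers (algebraMap R A f)) (RingHom.ext fun a => ?_)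
    simp only [RingHom.comp_apply, Groth.Agent.EtGlue7.locHom_algebraMap]
    show _ = e ((jA.comp (IsScalarTower.toAlgHom R A _)) a)
    rw [← hψq]
    show _ = e (algebraMap D D₁ (ψ a))
    rw [e.commutes]
    exact congrArg _ (hψ a)
  rw [this]
  exact RingHom.Etale.respectsIso.1 _ e.toRingEquiv hetA

theorem etale_bcHom_glued {p₂ : D →ₐ[R] D'} (Ψ : R' ⊗[R] D ≃ₐ[R'] D') (hΨ : ∀ d, Ψ ((1 : R') ⊗ₜ[R] d) = p₂ d)
    (hL : ∀ r : R', algebraMap R' D' r = jA' ((Algebra.TensorProduct.includeLeft : R' →ₐ[R] R' ⊗[R] A) r))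
    (hψp : p₂.comp ψ = jA'.comp Algebra.TensorProduct.includeRight)
    (hetA' : jA'.toRingHom.Etale) [Algebra A D] [IsScalarTower R A D] (hψ : ∀ a, algebraMap A D a = ψ a) :
    (bcHom R A D R').toRingHom.Etale := by
  have h : ∀ x, Ψ (bcHom R A D R' x) = jA' x := fun x => by
    induction x with
    | zero => simp
    | add x y hx hy => simp only [map_add, hx, hy]
    | tmul r a =>
      have h2 : (r ⊗ₜ[R] a : R' ⊗[R] A) = (Algebra.TensorProduct.includeLeft : R' →ₐ[R] R' ⊗[R] A) r *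
          (Algebra.TensorProduct.includeRight : A →ₐ[R] R' ⊗[R] A) a := by simp
      rw [h2, map_mul, map_mul, map_mul, ← hL, ← AlgHom.comp_apply jA', ← hψp]
      congr 1
      · simp [bcHom]
        exact Ψ.commutes r
      · simp [bcHom, hΨ, hψ]
  have : (bcHom R A D R').toRingHom = Ψ.symm.toRingEquiv.toRingHom.comp jA'.toRingHom :=
    RingHom.ext fun x => ((Ψ.symm_apply_eq).2 (h x).symm).symm
  rw [this]
  exact RingHom.Etale.respectsIso.1 _ Ψ.symm.toRingEquiv hetA'

theorem extends_loc {q : D →ₐ[R] D₁} (hu₁ : IsUnit (algebraMap R D₁ f))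
    (hqs : ∀ z : D₁, ∃ (n : ℕ) (d : D), algebraMap R D₁ f ^ n * z = q d)
    (hqk : ∀ d, q d = 0 → ∃ n : ℕ, f ^ n • d = 0) (hψq : q.comp ψ = jA.comp (IsScalarTower.toAlgHom R A _))
    {T : Type u} [CommRing T] [Algebra R T] (η : D →ₐ[R] T) (α : Localization.Away (algebraMap R A f) →ₐ[R] T)
    (h : α.comp (IsScalarTower.toAlgHom R A _) = η.comp ψ) :
    ∃ η₁ : D₁ →ₐ[R] T, η₁.comp q = η ∧ η₁.comp jA = α := by
  let _ : Algebra D D₁ := q.toRingHom.toAlgebra
  have : IsScalarTower R D D₁ := .of_algebraMap_eq fun r => (q.commutes r).symm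
  have : IsLocalization.Away (algebraMap R D f) D₁ := isLocalization_glued hu₁ hqs hqk
  have hu : IsUnit (η.toRingHom (algebraMap R D f)) := by
    show IsUnit (η (algebraMap R D f))
    rw [AlgHom.commutes, ← α.commutes]
    exact (isUnit_away (f := f)).map α
  let η₁ : D₁ →ₐ[R] T :=
    { IsLocalization.Away.lift (algebraMap R D f) hu with
      commutes' := fun r => by
        show IsLocalization.Away.lift (algebraMap R D f) hu (algebraMap R D₁ r) = _
        rw [IsScalarTower.algebraMap_apply R D D₁, IsLocalization.Away.lift_eq]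
        exact η.commutes r }
  have hη : η₁.comp q = η := AlgHom.ext fun d => IsLocalization.Away.lift_eq _ hu d
  refine ⟨η₁, hη, AlgHom.coe_ringHom_injective (IsLocalization.ringHom_ext (Submonoid.powers (algebraMap R A f))
    (RingHom.ext fun a => ?_))⟩
  show η₁ ((jA.comp (IsScalarTower.toAlgHom R A _)) a) = (α.comp (IsScalarTower.toAlgHom R A _)) a
  rw [← hψq, h, ← hη]
  rfl

theorem extends_bc {p₂ : D →ₐ[R] D'} (Ψ : R' ⊗[R] D ≃ₐ[R'] D') (hΨ : ∀ d, Ψ ((1 : R') ⊗ₜ[R] d) = p₂ d)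
    (hL : ∀ r : R', algebraMap R' D' r = jA' ((Algebra.TensorProduct.includeLeft : R' →ₐ[R] R' ⊗[R] A) r))
    (hψp : p₂.comp ψ = jA'.comp Algebra.TensorProduct.includeRight)
    {T : Type u} [CommRing T] [Algebra R T] (η : D →ₐ[R] T) (β : R' ⊗[R] A →ₐ[R] T)
    (h : β.comp Algebra.TensorProduct.includeRight = η.comp ψ) :
    ∃ η' : D' →ₐ[R] T, η'.comp p₂ = η ∧ η'.comp jA' = β := by
  let θ : R' ⊗[R] D →ₐ[R] T := Algebra.TensorProduct.lift
    (β.comp (Algebra.TensorProduct.includeLeft : R' →ₐ[R] R' ⊗[R] A)) η (fun _ _ => Commute.all _ _)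
  let η' : D' →ₐ[R] T := θ.comp (Ψ.symm.toAlgHom.restrictScalars R)
  have hη : η'.comp p₂ = η := AlgHom.ext fun d => by
    show θ (Ψ.symm (p₂ d)) = η d
    rw [← hΨ, Ψ.symm_apply_apply]
    simp [θ, ← Algebra.TensorProduct.one_def]
  refine ⟨η', hη, Algebra.TensorProduct.ext' fun r a => ?_⟩
  have h2 : (r ⊗ₜ[R] a : R' ⊗[R] A) = (Algebra.TensorProduct.includeLeft : R' →ₐ[R] R' ⊗[R] A) r *
      (Algebra.TensorProduct.includeRight : A →ₐ[R] R' ⊗[R] A) a := by simp
  rw [h2, map_mul, map_mul]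
  congr 1
  · show θ (Ψ.symm (jA' _)) = _
    rw [← hL, Ψ.symm.commutes]
    simp [θ, Algebra.TensorProduct.algebraMap_apply]
  · show η' ((jA'.comp Algebra.TensorProduct.includeRight) a) = (β.comp Algebra.TensorProduct.includeRight) a
    rw [← hψp, h, ← hη]
    rfl

end Local

open Groth.Agent.AlgSpLib in
/-- Compatible maps on both sides of the glueing pair extend to etale neighbourhoods. -/
theorem exists_local_extension (hRR' : EtGlue.IsGlueingPair R R' f) {Z : Space (Spec (CommRingCat.of R))}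
    (hd : IsAffineMor (diag Z.obj)) {A : Type u} [CommRing A] [Algebra R A] (hA : EtGlue.IsGlueable R R' f A)
    (zU : (yon _).obj (aff R (Localization.Away (algebraMap R A f))) ⟶ Z.obj)
    (zX : (yon _).obj (aff R (R' ⊗[R] A)) ⟶ Z.obj)
    (agree : ∀ (T : Type u) [CommRing T] [Algebra R T] (α : Localization.Away (algebraMap R A f) →ₐ[R] T)
      (β : R' ⊗[R] A →ₐ[R] T), α.comp (IsScalarTower.toAlgHom R A _) = β.comp Algebra.TensorProduct.includeRight →
        sp α ≫ zU = sp β ≫ zX)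
    (p : PrimeSpectrum A) :
    ∃ (D : Type u) (_ : CommRing D) (_ : Algebra R D) (ψ : A →ₐ[R] D) (w : (yon _).obj (aff R D) ⟶ Z.obj),
      ψ.toRingHom.Etale ∧ (∃ t : PrimeSpectrum D, t.comap ψ.toRingHom = p) ∧
      (∀ (T : Type u) [CommRing T] [Algebra R T] (δ : D →ₐ[R] T) (α : Localization.Away (algebraMap R A f) →ₐ[R] T),
        α.comp (IsScalarTower.toAlgHom R A _) = δ.comp ψ → sp δ ≫ w = sp α ≫ zU) ∧
      (∀ (T : Type u) [CommRing T] [Algebra R T] (δ : D →ₐ[R] T) (β : R' ⊗[R] A →ₐ[R] T),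
        β.comp Algebra.TensorProduct.includeRight = δ.comp ψ → sp δ ≫ w = sp β ≫ zX) := by
  obtain ⟨C, _, _, c, v, hc, hv⟩ := exists_chart_at_point hRR' zU zX p
  obtain ⟨D₁, _, _, jA, jC, sq₁⟩ := exists_pullAlg hd zU c
  obtain ⟨D', _, _, jA', jC', sq'⟩ := exists_pullAlg hd zX c
  let _ : Algebra R' D' := (jA'.comp (Algebra.TensorProduct.includeLeft : R' →ₐ[R] R' ⊗[R] A)).toRingHom.toAlgebra
  have : IsScalarTower R R' D' := .of_algebraMap_eq fun r =>
    ((jA'.comp (Algebra.TensorProduct.includeLeft : R' →ₐ[R] R' ⊗[R] A)).commutes r).symm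
  have hL : ∀ r : R', algebraMap R' D' r = jA' ((Algebra.TensorProduct.includeLeft : R' →ₐ[R] R' ⊗[R] A) r) :=
    fun r => rfl
  have hu₁ : IsUnit (algebraMap R D₁ f) := by rw [← jA.commutes]; exact (isUnit_away (f := f)).map jA
  obtain ⟨γ, hγA, hγC, hker, hsurj⟩ := exists_overlap sq₁ sq' agree hL (Localization.Away (algebraMap R D' f))
  obtain ⟨D, _, _, p₂, q, Ψ, hD, hΨ, hqs, hqk, hpair⟩ := exists_glued_algebra hRR' D₁ hu₁ D' γ hker hsurj
  obtain ⟨ψ, hψp, hψq⟩ := hpair (jA'.comp Algebra.TensorProduct.includeRight)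
    (jA.comp (IsScalarTower.toAlgHom R A _)) hγA
  obtain ⟨ψC, hCp, hCq⟩ := hpair jC' jC hγC
  have hetA : jA.toRingHom.Etale :=
    (HasRingHomProperty.Spec_iff (P := @Etale) (φ := CommRingCat.ofHom jA.toRingHom)).1
      (hc.property zU (sp jC) (affHom jA) sq₁)
  have hetA' : jA'.toRingHom.Etale :=
    (HasRingHomProperty.Spec_iff (P := @Etale) (φ := CommRingCat.ofHom jA'.toRingHom)).1
      (hc.property zX (sp jC') (affHom jA') sq')
  let _ : Algebra A D := ψ.toRingHom.toAlgebra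
  have : IsScalarTower R A D := .of_algebraMap_eq fun r => (ψ.commutes r).symm
  refine ⟨D, inferInstance, inferInstance, ψ, sp ψC ≫ c,
    (Groth.Agent.EtGlue7.etale_iff (A := A) (B := D) hRR'.1 hA).2
      ⟨etale_locHom_glued hu₁ hqs hqk hψq hetA fun _ => rfl, etale_bcHom_glued Ψ hΨ hL hψp hetA' fun _ => rfl⟩,
    ?_, fun T _ _ η α h => ?_, fun T _ _ η β h => ?_⟩
  · rcases hv with ⟨x, hx, hvx⟩ | ⟨x, hx, hvx⟩
    · obtain ⟨t, -, ht⟩ := exists_ofPt_of_eq sq₁ hvx
      refine ⟨PrimeSpectrum.comap q.toRingHom t, ?_⟩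
      have e := congrArg AlgHom.toRingHom hψq
      rw [← PrimeSpectrum.comap_comp_apply, show q.toRingHom.comp ψ.toRingHom = _ from e, ← hx]
      exact (PrimeSpectrum.comap_comp_apply _ _ _).trans (congrArg (PrimeSpectrum.comap _) ht)
    · obtain ⟨t, -, ht⟩ := exists_ofPt_of_eq sq' hvx
      refine ⟨PrimeSpectrum.comap p₂.toRingHom t, ?_⟩
      have e := congrArg AlgHom.toRingHom hψp
      rw [← PrimeSpectrum.comap_comp_apply, show p₂.toRingHom.comp ψ.toRingHom = _ from e, ← hx]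
      exact (PrimeSpectrum.comap_comp_apply _ _ _).trans (congrArg (PrimeSpectrum.comap _) ht)
  · obtain ⟨η₁, hη, hηA⟩ := extends_loc hu₁ hqs hqk hψq η α h
    rw [← hη, ← Category.assoc, ← sp_comp, AlgHom.comp_assoc, hCq, sp_comp, Category.assoc, sq₁.w,
      ← Category.assoc, ← sp_comp, hηA]
  · obtain ⟨η', hη, hηA⟩ := extends_bc Ψ hΨ hL hψp η β h
    rw [← hη, ← Category.assoc, ← sp_comp, AlgHom.comp_assoc, hCp, sp_comp, Category.assoc, sq'.w,
      ← Category.assoc, ← sp_comp, hηA]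

open Groth.Agent.AlgSpLib Groth.Agent.RelNorm in
/-- Natural maps on the points over both sides of a glueing pair come from a unique morphism. -/
theorem existsUnique_hom (hRR' : EtGlue.IsGlueingPair R R' f) {Y Z : Space (Spec (CommRingCat.of R))}
    (hY : ∀ (A : Type u) [CommRing A] [Algebra R A] (g : (yon _).obj (aff R A) ⟶ Y.obj),
      RepWith @Etale g → EtGlue.IsGlueable R R' f A)
    (hd : IsAffineMor (diag Z.obj))
    (GU : ∀ (T : Type u) [CommRing T] [Algebra R T] (g : (yon _).obj (aff R T) ⟶ Y.obj),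
      IsUnit (algebraMap R T f) → ((yon _).obj (aff R T) ⟶ Z.obj))
    (GX : ∀ (T : Type u) [CommRing T] [Algebra R T] (g : (yon _).obj (aff R T) ⟶ Y.obj),
      (R' →ₐ[R] T) → ((yon _).obj (aff R T) ⟶ Z.obj))
    (natU : ∀ (T T' : Type u) [CommRing T] [Algebra R T] [CommRing T'] [Algebra R T'] (δ : T →ₐ[R] T')
      (g : (yon _).obj (aff R T) ⟶ Y.obj) (h : IsUnit (algebraMap R T f)) (h' : IsUnit (algebraMap R T' f)),
        sp δ ≫ GU T g h = GU T' (sp δ ≫ g) h')
    (natX : ∀ (T T' : Type u) [CommRing T] [Algebra R T] [CommRing T'] [Algebra R T'] (δ : T →ₐ[R] T')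
      (g : (yon _).obj (aff R T) ⟶ Y.obj) (β : R' →ₐ[R] T), sp δ ≫ GX T g β = GX T' (sp δ ≫ g) (δ.comp β))
    (compat : ∀ (T : Type u) [CommRing T] [Algebra R T] (g : (yon _).obj (aff R T) ⟶ Y.obj)
      (h : IsUnit (algebraMap R T f)) (β : R' →ₐ[R] T), GU T g h = GX T g β) :
    ∃! φ : Y.obj ⟶ Z.obj,
      (∀ (T : Type u) [CommRing T] [Algebra R T] (g : (yon _).obj (aff R T) ⟶ Y.obj) (h : IsUnit (algebraMap R T f)),
        g ≫ φ = GU T g h) ∧
      ∀ (T : Type u) [CommRing T] [Algebra R T] (g : (yon _).obj (aff R T) ⟶ Y.obj) (β : R' →ₐ[R] T),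
        g ≫ φ = GX T g β := by
  let Good : ∀ (V : Over (Spec (CommRingCat.of R))) (v : (yon _).obj V ⟶ Y.obj),
      ((yon _).obj V ⟶ Z.obj) → Prop := fun V v q =>
    ∀ (T : Type u) [CommRing T] [Algebra R T] (k : (yon _).obj (aff R T) ⟶ (yon _).obj V),
      (∀ h, k ≫ q = GU T (k ≫ v) h) ∧ ∀ β, k ≫ q = GX T (k ≫ v) β
  let CC : ∀ V, ((yon (Spec (CommRingCat.of R))).obj V ⟶ Y.obj) → Prop := fun V v =>
    RepWith @Etale v ∧ ∃ q, Good V v q
  have hCC : Covers CC := by
    refine ⟨fun _ _ h => h.1, fun y => ?_⟩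
    obtain ⟨ι, A, _, _, g, hg, hcov, hA⟩ := GlueableEt.exists_cover_of_forall hY
    obtain ⟨k, z, rfl⟩ := hcov y
    obtain ⟨p, rfl⟩ := (Points.schemeHomeo (aff R (A k))).surjective z
    let Af := Localization.Away (algebraMap R (A k) f)
    let toAf : A k →ₐ[R] Af := IsScalarTower.toAlgHom R (A k) _
    have hAf : IsUnit (algebraMap R Af f) := by
      rw [IsScalarTower.algebraMap_apply R (A k) Af]; exact IsLocalization.Away.algebraMap_isUnit _
    let iR : A k →ₐ[R] R' ⊗[R] A k := Algebra.TensorProduct.includeRight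
    let iL : R' →ₐ[R] R' ⊗[R] A k := Algebra.TensorProduct.includeLeft
    obtain ⟨D, _, _, ψ, w, hψ, ⟨t, ht⟩, hwU, hwX⟩ := exists_local_extension hRR' hd (hA k)
      (GU Af (sp toAf ≫ g k) hAf) (GX _ (sp iR ≫ g k) iL)
      (fun T _ _ α β h => by
        have hu : IsUnit (algebraMap R T f) := by rw [← α.commutes]; exact hAf.map α
        rw [natU Af T α _ hAf hu, natX _ T β _ iL, ← Category.assoc, ← Category.assoc, ← sp_comp, ← sp_comp, h]
        exact compat T _ hu _) p
    have hde : Etale (affHom ψ).left :=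
      (HasRingHomProperty.Spec_iff (P := @Etale) (φ := CommRingCat.ofHom ψ.toRingHom)).2 hψ
    refine ⟨aff R D, sp ψ ≫ g k, ⟨repWith_comp ((repWith_yon_map_iff _ (affHom ψ)).2 hde) (hg k), w, ?_⟩, t, ?_⟩
    · intro T _ _ m
      obtain ⟨η, rfl⟩ := sp_surjective m
      refine ⟨fun hu => ?_, fun β => ?_⟩
      · have hu' : IsUnit ((η.comp ψ).toRingHom (algebraMap R (A k) f)) := by
          show IsUnit ((η.comp ψ) (algebraMap R (A k) f))
          rwa [AlgHom.commutes]
        let α : Af →ₐ[R] T :=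
          { IsLocalization.Away.lift (algebraMap R (A k) f) hu' with
            commutes' := fun r => by
              show IsLocalization.Away.lift (algebraMap R (A k) f) hu' (algebraMap R Af r) = _
              rw [IsScalarTower.algebraMap_apply R (A k) Af, IsLocalization.Away.lift_eq]
              exact (η.comp ψ).commutes r }
        have hα : α.comp toAf = η.comp ψ := AlgHom.ext fun a => IsLocalization.Away.lift_eq _ hu' a
        rw [hwU T η α hα, natU Af T α _ hAf hu, ← Category.assoc, ← sp_comp, hα, sp_comp, Category.assoc]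
      · let β' : R' ⊗[R] A k →ₐ[R] T := Algebra.TensorProduct.lift β (η.comp ψ) (fun _ _ => Commute.all _ _)
        have h1 : β'.comp iR = η.comp ψ := Algebra.TensorProduct.lift_comp_includeRight _ _ (fun _ _ => Commute.all _ _)
        have h2 : β'.comp iL = β := Algebra.TensorProduct.lift_comp_includeLeft _ _ (fun _ _ => Commute.all _ _)
        rw [hwX T η β' h1, natX _ T β' _ iL, h2, ← Category.assoc, ← sp_comp, h1, sp_comp, Category.assoc]
    · rw [ofPt_comp, point_eq, ht]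
      exact Points.ofPt_eq_map_ofScheme _ _
  choose q hq using fun V v (h : CC V v) => h.2
  obtain ⟨φ, hφ⟩ := exists_glue hCC (𝟙 Y.obj) (fun V v hv => pullback.snd _ v ≫ q V v hv)
    fun V v hv V' v' hv' Q y y' hy => by
      let K : Space (Spec (CommRingCat.of R)) :=
        ⟨pullback v v', isAlgSpace_pullback (IsAlgSpace.yon_obj V) (IsAlgSpace.yon_obj V') Y.property v v'⟩
      have hK : pullback.fst v v' ≫ q V v hv = pullback.snd v v' ≫ q V' v' hv' := by
        refine GlueEq.eq_of_eq hRR' (Y := K) (Z := Z) (fun A _ _ g hg => ?_) _ _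
          (fun A _ _ g hu => ?_) (fun A _ _ g hx => ?_)
        · exact hY A (g ≫ pullback.fst v v' ≫ v) (repWith_comp hg (repWith_comp (repWith_fst v hv'.1) hv.1))
        · obtain ⟨h₁, -⟩ := hq V v hv A (g ≫ pullback.fst v v')
          obtain ⟨h₁', -⟩ := hq V' v' hv' A (g ≫ pullback.snd v v')
          rw [← Category.assoc, ← Category.assoc, h₁ hu, h₁' hu, Category.assoc, Category.assoc, pullback.condition]
        · obtain ⟨b, hb⟩ := hx
          let β : R' →ₐ[R] A := { b with commutes' := fun r => RingHom.congr_fun hb r }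
          obtain ⟨-, h₁⟩ := hq V v hv A (g ≫ pullback.fst v v')
          obtain ⟨-, h₁'⟩ := hq V' v' hv' A (g ≫ pullback.snd v v')
          rw [← Category.assoc, ← Category.assoc, h₁ β, h₁' β, Category.assoc, Category.assoc, pullback.condition]
      let l : (yon _).obj Q ⟶ pullback v v' := pullback.lift (y ≫ pullback.snd _ v) (y' ≫ pullback.snd _ v')
        (by rw [Category.assoc, Category.assoc, ← ColimitEtale.fst_id, ← ColimitEtale.fst_id, hy])
      have := congrArg (l ≫ ·) hK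
      simpa [l] using this
  have hvφ : ∀ V v (hv : CC V v), v ≫ φ = q V v hv := fun V v hv => by
    have := congrArg (pullback.lift (f := 𝟙 Y.obj) (g := v) v (𝟙 _) (by simp) ≫ ·) (hφ V v hv)
    simp only [pullback.lift_fst_assoc, pullback.lift_snd_assoc] at this
    exact this.trans (Category.id_comp _)
  have key : ∀ (T : Type u) [CommRing T] [Algebra R T] (g : (yon _).obj (aff R T) ⟶ Y.obj)
      (V : Over (Spec (CommRingCat.of R))) (v : (yon _).obj V ⟶ Y.obj) (hv : CC V v) (T' : Type u) [CommRing T']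
      [Algebra R T'] (δ : T →ₐ[R] T') (k : (yon _).obj (aff R T') ⟶ (yon _).obj V), k ≫ v = sp δ ≫ g →
      (∀ h, sp δ ≫ g ≫ φ = sp δ ≫ GU T g h) ∧
      (∀ (β : R' →ₐ[R] T), sp δ ≫ g ≫ φ = sp δ ≫ GX T g β) := by
    intro T _ _ g V v hv T' _ _ δ k hk
    have e : sp δ ≫ g ≫ φ = k ≫ q V v hv := by
      rw [← Category.assoc, ← hk, Category.assoc, hvφ V v hv]
    refine ⟨fun h => ?_, fun β => ?_⟩
    · have hu : IsUnit (algebraMap R T' f) := by rw [← δ.commutes]; exact h.map δ
      rw [e, (hq V v hv T' k).1 hu, natU T T' δ g h hu, hk]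
    · rw [e, (hq V v hv T' k).2 (δ.comp β), natX T T' δ g β, hk]
  have cover : ∀ (T : Type u) [CommRing T] [Algebra R T] (g : (yon _).obj (aff R T) ⟶ Y.obj)
      (G : (yon _).obj (aff R T) ⟶ Z.obj),
      (∀ (T' : Type u) [CommRing T'] [Algebra R T'] (δ : T →ₐ[R] T') (V : Over (Spec (CommRingCat.of R)))
        (v : (yon _).obj V ⟶ Y.obj) (hv : CC V v) (k : (yon _).obj (aff R T') ⟶ (yon _).obj V),
          k ≫ v = sp δ ≫ g → sp δ ≫ g ≫ φ = sp δ ≫ G) → g ≫ φ = G := by
    intro T _ _ g G H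
    refine hom_ext_of_covers hCC g fun V v hv => ?_
    have halg := isAlgSpace_pullback (IsAlgSpace.yon_obj (aff R T)) (IsAlgSpace.yon_obj V) Y.property g v
    refine hom_ext_of_covers (ColimitEtale.covers_affine halg) (𝟙 _) fun W w hw => ?_
    rw [ColimitEtale.fst_id, Category.assoc, Category.assoc]
    congr 1
    obtain ⟨T', _, _, ⟨ε⟩⟩ := exists_aff_iso W hw.1
    rw [← cancel_epi ((yon (Spec (CommRingCat.of R))).map ε.hom)]
    obtain ⟨δ, hδ⟩ := sp_surjective ((yon _).map ε.hom ≫ w ≫ pullback.fst g v)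
    have := H T' δ V v hv ((yon _).map ε.hom ≫ w ≫ pullback.snd g v)
      (by rw [hδ]; simp only [Category.assoc, pullback.condition])
    rw [hδ] at this
    simpa only [Category.assoc] using this
  refine ⟨φ, ⟨fun T _ _ g h => cover T g _ fun T' _ _ δ V v hv k hk => (key T g V v hv T' δ k hk).1 h,
    fun T _ _ g β => cover T g _ fun T' _ _ δ V v hv k hk => (key T g V v hv T' δ k hk).2 β⟩, fun φ' ⟨h₁, h₂⟩ => ?_⟩
  · refine GlueEq.eq_of_eq hRR' (Y := Y) (Z := Z) hY φ' φ (fun A _ _ g hu => ?_) (fun A _ _ g hx => ?_)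
    · rw [h₁ A g hu]
      exact (cover A g _ fun T' _ _ δ V v hv k hk => (key A g V v hv T' δ k hk).1 hu).symm
    · obtain ⟨b, hb⟩ := hx
      let β : R' →ₐ[R] A := { b with commutes' := fun r => RingHom.congr_fun hb r }
      rw [h₂ A g β]
      exact (cover A g _ fun T' _ _ δ V v hv k hk => (key A g V v hv T' δ k hk).2 β).symm

theorem away_subsingleton {T : Type u} [CommRing T] [Algebra R T] (φ ψ : Localization.Away f →ₐ[R] T) : φ = ψ :=
  AlgHom.coe_ringHom_injective (IsLocalization.ringHom_ext (Submonoid.powers f)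
    (RingHom.ext fun r => (φ.commutes r).trans (ψ.commutes r).symm))

theorem isUnit_of_hom {T : Type u} [CommRing T] [Algebra R T] (φ : Localization.Away f →ₐ[R] T) :
    IsUnit (algebraMap R T f) := by
  rw [← φ.commutes]
  exact (IsLocalization.Away.algebraMap_isUnit f).map φ

/-- The away map as an algebra map. -/
theorem exists_away_hom {T : Type u} [CommRing T] [Algebra R T] (h : IsUnit (algebraMap R T f)) :
    ∃ φ : Localization.Away f →ₐ[R] T, True :=
  ⟨{ IsLocalization.Away.lift f h with commutes' := fun r => IsLocalization.Away.lift_eq f h r }, trivial⟩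

/-- Maps given on the base changes to both sides of a glueing pair glue to a unique morphism. -/
theorem existsUnique_hom_of_data (hRR' : EtGlue.IsGlueingPair R R' f) {Y Z : Space (Spec (CommRingCat.of R))}
    (hY : ∀ (A : Type u) [CommRing A] [Algebra R A] (g : (yon _).obj (aff R A) ⟶ Y.obj),
      RepWith @Etale g → EtGlue.IsGlueable R R' f A)
    (hd : IsAffineMor (diag Z.obj))
    {πY : Y.obj ⟶ (yon (Spec (CommRingCat.of R))).obj (Over.mk (𝟙 _))}
    {tU : aff R (Localization.Away f) ⟶ Over.mk (𝟙 _)} {tX : aff R R' ⟶ Over.mk (𝟙 _)}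
    {YU YX YU' : Sp (Spec (CommRingCat.of R))} (hYUa : IsAlgSpace YU) (hYXa : IsAlgSpace YX)
    {uY : YU ⟶ Y.obj} {sY : YU ⟶ (yon _).obj (aff R (Localization.Away f))}
    (hYU : IsPullback uY sY πY ((yon _).map tU))
    {xY : YX ⟶ Y.obj} {rY : YX ⟶ (yon _).obj (aff R R')} (hYX : IsPullback xY rY πY ((yon _).map tX))
    {m₁ : YU' ⟶ YU} {m₂ : YU' ⟶ YX} (hYU' : IsPullback m₁ m₂ uY xY)
    (φU : YU ⟶ Z.obj) (φX : YX ⟶ Z.obj) (hφ : m₁ ≫ φU = m₂ ≫ φX) :
    ∃! φ : Y.obj ⟶ Z.obj, uY ≫ φ = φU ∧ xY ≫ φ = φX := by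
  choose loc hloc using fun (T : Type u) (i : CommRing T) (j : Algebra R T) (h : IsUnit (algebraMap R T f)) =>
    exists_away_hom (f := f) (T := T) h
  let GU : ∀ (T : Type u) [CommRing T] [Algebra R T] (g : (yon _).obj (aff R T) ⟶ Y.obj),
      IsUnit (algebraMap R T f) → ((yon _).obj (aff R T) ⟶ Z.obj) :=
    fun T i j g h => hYU.lift g (sp (loc T i j h)) (hom_terminal_ext _ _) ≫ φU
  let GX : ∀ (T : Type u) [CommRing T] [Algebra R T] (g : (yon _).obj (aff R T) ⟶ Y.obj),
      (R' →ₐ[R] T) → ((yon _).obj (aff R T) ⟶ Z.obj) :=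
    fun T i j g β => hYX.lift g (sp β) (hom_terminal_ext _ _) ≫ φX
  obtain ⟨φ, ⟨hU, hX⟩, huniq⟩ := existsUnique_hom hRR' hY hd GU GX
    (fun T T' _ _ _ _ δ g h h' => by
      show sp δ ≫ hYU.lift _ _ _ ≫ φU = _
      rw [← Category.assoc]
      congr 1
      refine hYU.hom_ext ?_ ?_
      · rw [Category.assoc, hYU.lift_fst, hYU.lift_fst]
      · rw [Category.assoc, hYU.lift_snd, hYU.lift_snd, ← sp_comp]
        exact congrArg sp (away_subsingleton _ _))
    (fun T T' _ _ _ _ δ g β => by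
      show sp δ ≫ hYX.lift _ _ _ ≫ φX = _
      rw [← Category.assoc]
      congr 1
      refine hYX.hom_ext ?_ ?_
      · rw [Category.assoc, hYX.lift_fst, hYX.lift_fst]
      · rw [Category.assoc, hYX.lift_snd, hYX.lift_snd, ← sp_comp])
    (fun T i j g h β => by
      show hYU.lift g (sp (loc T i j h)) (hom_terminal_ext _ _) ≫ φU =
        hYX.lift g (sp β) (hom_terminal_ext _ _) ≫ φX
      have e := congrArg (hYU'.lift (hYU.lift g (sp (loc T i j h)) (hom_terminal_ext _ _))
        (hYX.lift g (sp β) (hom_terminal_ext _ _)) (by rw [hYU.lift_fst, hYX.lift_fst]) ≫ ·) hφ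
      simpa [hYU'.lift_fst_assoc, hYU'.lift_snd_assoc] using e)
  have test : ∀ {P : Sp (Spec (CommRingCat.of R))}, IsAlgSpace P → ∀ g₁ g₂ : P ⟶ Z.obj,
      (∀ (T : Type u) [CommRing T] [Algebra R T] (c : (yon _).obj (aff R T) ⟶ P), c ≫ g₁ = c ≫ g₂) → g₁ = g₂ := by
    intro P hP g₁ g₂ H
    refine Groth.Agent.RelNorm.hom_ext_of_covers (ColimitEtale.covers_affine hP) (𝟙 _) fun W w hw => ?_
    rw [ColimitEtale.fst_id, Category.assoc, Category.assoc]
    congr 1
    obtain ⟨T, _, _, ⟨ε⟩⟩ := exists_aff_iso W hw.1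
    rw [← cancel_epi ((yon (Spec (CommRingCat.of R))).map ε.hom)]
    simpa only [Category.assoc] using H T ((yon _).map ε.hom ≫ w)
  refine ⟨φ, ⟨test hYUa _ _ fun T i j c => ?_, test hYXa _ _ fun T i j c => ?_⟩, fun φ' ⟨h₁, h₂⟩ => ?_⟩
  · obtain ⟨l, hl⟩ := sp_surjective (c ≫ sY)
    rw [← Category.assoc, hU T (c ≫ uY) (isUnit_of_hom l)]
    show hYU.lift _ _ _ ≫ φU = _
    congr 1
    refine hYU.hom_ext ?_ ?_
    · rw [hYU.lift_fst]
    · rw [hYU.lift_snd, ← hl]
      exact congrArg sp (away_subsingleton _ _)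
  · obtain ⟨β, hβ⟩ := sp_surjective (c ≫ rY)
    rw [← Category.assoc, hX T (c ≫ xY) β]
    show hYX.lift _ _ _ ≫ φX = _
    congr 1
    refine hYX.hom_ext ?_ ?_
    · rw [hYX.lift_fst]
    · rw [hYX.lift_snd, hβ]
  · refine huniq φ' ⟨fun T i j g h => ?_, fun T i j g β => ?_⟩
    · show _ = hYU.lift _ _ _ ≫ φU
      rw [← h₁, hYU.lift_fst_assoc]
    · show _ = hYX.lift _ _ _ ≫ φX
      rw [← h₂, hYX.lift_fst_assoc]

end Groth.Agent.AlgSpMor.GlueHom
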