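import Groth.Agent.AlgSpMor.Glue
import Groth.Agent.AlgSpDec.ImmCover
import Groth.Agent.AlgSpPts.SepDescent
import Groth.Agent.AlgSpPts.Imm

/-!
# Separatedness from an etale covering family of the source
-/

set_option autoImplicit false
set_option linter.style.haveILetI false
set_option backward.isDefEq.respectTransparency false
set_option backward.isDefEq.respectTransparency.types false

universe u

open CategoryTheory CategoryTheory.Limits AlgebraicGeometry Opposite AlgSp

namespace Groth.Agent.AlgSpMor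

open Groth.Agent.AlgSpLib Groth.Agent.AlgSpPts

variable {S : Scheme.{u}} {X Y : Sp S}

/-- A morphism is separated if the canonical maps `A i ×_X A k ⟶ A i ×_Y A k` of an etale jointly surjective
family over the source are closed immersions. -/
theorem isSeparatedMor_of_family (hX : IsAlgSpace X) (hY : IsAlgSpace Y) (g : X ⟶ Y) {ι : Type u}
    (A : ι → Sp S) (hA : ∀ i, IsAlgSpace (A i)) (a : ∀ i, A i ⟶ X) (hae : ∀ i, IsEtaleMor (a i))
    (has : ∀ x : Points X, ∃ i y, Points.map (a i) y = x)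
    (h : ∀ i k, RepWith @IsClosedImmersion (pullback.map (a i) (a k) (a i ≫ g) (a k ≫ g) (𝟙 _) (𝟙 _) g
      (Category.id_comp _).symm (Category.id_comp _).symm)) : IsSeparatedMor g := by
  have hP : IsAlgSpace (pullback g g) := isAlgSpace_pullback hX hX hY g g
  have hAA : ∀ i k, IsAlgSpace (pullback (a i ≫ g) (a k ≫ g)) := fun i k =>
    isAlgSpace_pullback (hA i) (hA k) hY _ _
  let e : ∀ q : ι × ι, pullback (a q.1 ≫ g) (a q.2 ≫ g) ⟶ pullback g g := fun q =>
    pullback.map (a q.1 ≫ g) (a q.2 ≫ g) g g (a q.1) (a q.2) (𝟙 Y) (Category.comp_id _) (Category.comp_id _)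
  have he : ∀ q, IsEtaleMor (e q) := fun q => by
    let e₁ : pullback (a q.1 ≫ g) (a q.2 ≫ g) ⟶ pullback g (a q.2 ≫ g) :=
      pullback.map (a q.1 ≫ g) (a q.2 ≫ g) g (a q.2 ≫ g) (a q.1) (𝟙 _) (𝟙 Y) (by simp) (by simp)
    let e₂ : pullback g (a q.2 ≫ g) ⟶ pullback g g :=
      pullback.map g (a q.2 ≫ g) g g (𝟙 X) (a q.2) (𝟙 Y) (by simp) (by simp)
    have hQ : IsAlgSpace (pullback g (a q.2 ≫ g)) := isAlgSpace_pullback hX (hA q.2) hY _ _
    have h₁ : IsEtaleMor e₁ :=
      isEtaleMor_of_isPullback (isPullback_map_left (a q.1) g (a q.2 ≫ g)) (hA q.1) hX hQ (hae q.1)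
    have h₂ : IsEtaleMor e₂ :=
      isEtaleMor_of_isPullback (isPullback_map_right (a q.2) g g) (hA q.2) hX hP (hae q.2)
    have : e q = e₁ ≫ e₂ := by
      apply pullback.hom_ext <;> simp [e, e₁, e₂]
    rw [this]
    exact fun _ φ hφ => by rw [← Category.assoc]; exact h₂ _ (h₁ φ hφ)
  have hes : ∀ z : Points (pullback g g), ∃ q w, Points.map (e q) w = z := fun z => by
    obtain ⟨i, y, hy⟩ := has (Points.map (pullback.fst g g) z)
    obtain ⟨w, -, hw⟩ := exists_point_of_isPullback (isPullback_map_left (a i) g g) hy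
    obtain ⟨k, y', hy'⟩ := has (Points.map (pullback.snd (a i ≫ g) g) w)
    obtain ⟨r, -, hr⟩ := exists_point_of_isPullback (isPullback_map_right (a k) g (a i ≫ g)) hy'
    refine ⟨(i, k), r, ?_⟩
    rw [← hw, ← hr, ← Points.map_comp]
    congr 1
    apply pullback.hom_ext <;> simp [e]
  choose T p hp hps using fun q : ι × ι => (hAA q.1 q.2).atlas
  obtain ⟨m, hm⟩ := AlgSpDec.exists_hom_sigma T (fun q => p q ≫ e q)
  have hme : RepWith @Etale m :=
    AlgSpDec.repWith_etale_sigma (representable_from_yon' hP m) fun q => by rw [hm]; exact he q (p q) (hp q)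
  have hms : RepWith @Surjective m := repWith_surjective_of_surjective hme.rep fun z => by
    obtain ⟨q, w, rfl⟩ := hes z
    obtain ⟨t, rfl⟩ := surjective_map_of_repWith (hps q) w
    exact ⟨Points.map ((yon S).map (AlgSpDec.sigmaι T q)) t, by simp only [← Points.map_comp, hm]⟩
  have hr : Representable (pullback.diagonal g) := representable_diagonal hX g
  let W := hr.pullback m
  let s : W ⟶ AlgSpDec.sigmaOver T := hr.snd m
  have sqW : IsPullback (hr.fst m) ((yon S).map s) (pullback.diagonal g) m := hr.isPullback m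
  refine AlgSpDec.repWith_isClosedImmersion_of_etale_cover hme hms sqW ((repWith_yon_map_iff _ _).2 ?_)
  refine IsZariskiLocalAtTarget.of_openCover (P := @IsClosedImmersion)
    (sigmaOpenCover fun q => (T q).left) fun q => ?_
  let ιq := AlgSpDec.sigmaι T q
  have sq1 : IsPullback ((yon S).map (pullback.fst s ιq) ≫ hr.fst m) ((yon S).map (pullback.snd s ιq))
      (pullback.diagonal g) (p q ≫ e q) :=
    hm q ▸ ((IsPullback.of_hasPullback s ιq).map (yon S)).paste_horiz sqW
  let c := pullback.map (a q.1) (a q.2) (a q.1 ≫ g) (a q.2 ≫ g) (𝟙 _) (𝟙 _) g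
    (Category.id_comp _).symm (Category.id_comp _).symm
  have sq2 := (IsPullback.of_hasPullback c (p q)).paste_horiz (pullback_map_diagonal_isPullback (a q.1) (a q.2) g)
  have h2 : RepWith @IsClosedImmersion (pullback.snd c (p q)) :=
    repWith_of_isPullback (IsPullback.of_hasPullback c (p q)) (h q.1 q.2)
  have h3 : RepWith @IsClosedImmersion ((yon S).map (pullback.snd s ιq)) := by
    rw [← IsPullback.isoIsPullback_hom_snd _ _ sq1 sq2]
    exact repWith_comp (repWith_of_isIso _ _) h2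
  have h4 : IsClosedImmersion (pullback.snd s ιq).left := (repWith_yon_map_iff _ _).1 h3
  have sqF : IsPullback (pullback.fst s ιq).left (pullback.snd s ιq).left s.left
      (Sigma.ι (fun q => (T q).left) q) := (IsPullback.of_hasPullback s ιq).map (Over.forget S)
  show IsClosedImmersion (Limits.pullback.snd s.left (Sigma.ι (fun q => (T q).left) q))
  rw [← sqF.isoPullback_inv_snd]
  infer_instance

/-- A morphism whose composite with a separated morphism is an open immersion is an immersion. -/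
theorem repWith_isImmersion_of_comp {P Q V : Sp S} {c : P ⟶ Q} {q : Q ⟶ V} (hq : IsSeparatedMor q)
    (h : RepWith @IsOpenImmersion (c ≫ q)) : RepWith @IsImmersion c := by
  have h1 : RepWith @IsClosedImmersion
      (pullback.lift (𝟙 P) c (by simp) : P ⟶ pullback (c ≫ q) q) :=
    repWith_of_isPullback (pullback_lift_diagonal_isPullback c q) hq
  have h2 : RepWith @IsOpenImmersion (pullback.snd (c ≫ q) q) :=
    repWith_of_isPullback (IsPullback.of_hasPullback (c ≫ q) q) h
  have h3 := repWith_comp (P := @IsImmersion)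
    (repWith_mono (fun _ _ i (_ : IsClosedImmersion i) => (inferInstance : IsImmersion i)) _ h1)
    (repWith_mono (fun _ _ i (_ : IsOpenImmersion i) => (inferInstance : IsImmersion i)) _ h2)
  rwa [pullback.lift_snd] at h3

end Groth.Agent.AlgSpMor

namespace Groth.Agent.AlgSpMor

open Groth.Agent.AlgSpLib Groth.Agent.AlgSpPts

/-- Separatedness of a morphism out of an elementary distinguished square. -/
theorem isSeparatedMor_of_isElemDistSq {S : Scheme.{u}} {U V X Y PX PY QX QY : AlgSp.Space S} (g : X ⟶ Y)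
    (j : U ⟶ X) (f : V ⟶ X) (hsq : AlgSp.IsElemDistSq j.hom f.hom)
    (hU : AlgSp.IsSeparatedMor (j ≫ g).hom)
    {pX : PX ⟶ U} {qX : PX ⟶ V} (hPX : IsPullback pX.hom qX.hom j.hom f.hom)
    {pY : PY ⟶ U} {qY : PY ⟶ V} (hPY : IsPullback pY.hom qY.hom (j ≫ g).hom (f ≫ g).hom)
    {c : PX ⟶ PY} (hc₁ : c ≫ pY = pX) (hc₂ : c ≫ qY = qX) (hcl : AlgSp.IsClosedMor c.hom)
    {rX₁ rX₂ : QX ⟶ V} (hQX : IsPullback rX₁.hom rX₂.hom f.hom f.hom)
    {rY₁ rY₂ : QY ⟶ V} (hQY : IsPullback rY₁.hom rY₂.hom (f ≫ g).hom (f ≫ g).hom)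
    {d : QX ⟶ QY} (hd₁ : d ≫ rY₁ = rX₁) (hd₂ : d ≫ rY₂ = rX₂)
    (hdcl : AlgSp.RepWith @IsClosedImmersion d.hom) : AlgSp.IsSeparatedMor g.hom := by
  have hc₁' : c.hom ≫ pY.hom = pX.hom := congrArg (·.hom) hc₁
  have hc₂' : c.hom ≫ qY.hom = qX.hom := congrArg (·.hom) hc₂
  have hd₁' : d.hom ≫ rY₁.hom = rX₁.hom := congrArg (·.hom) hd₁
  have hd₂' : d.hom ≫ rY₂.hom = rX₂.hom := congrArg (·.hom) hd₂
  have hqX : RepWith @IsOpenImmersion qX.hom := repWith_of_isPullback hPX hsq.1
  have himm : RepWith @IsImmersion c.hom := by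
    refine repWith_isImmersion_of_comp (isSeparatedMor_of_isPullback hPY hU) ?_
    rw [hc₂']
    exact hqX
  have hcc : RepWith @IsClosedImmersion c.hom :=
    (repWith_isClosedImmersion_iff himm).2 hcl.isClosed_range
  haveI : Mono j.hom :=
    mono_of_repWith (repWith_mono (fun _ _ e (_ : IsOpenImmersion e) => (inferInstance : Mono e)) _ hsq.1)
  let A : ULift.{u} Bool → Sp S := fun i => if i.down then U.obj else V.obj
  let a : ∀ i, A i ⟶ X.obj := fun i => match i with
    | ⟨true⟩ => j.hom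
    | ⟨false⟩ => f.hom
  refine isSeparatedMor_of_family X.property Y.property g.hom A (fun i => ?_) a (fun i => ?_) (fun x => ?_)
    fun i k => ?_
  · rcases i with ⟨_ | _⟩
    · exact V.property
    · exact U.property
  · rcases i with ⟨_ | _⟩
    · exact hsq.2.1
    · exact Groth.Agent.AlgSpLib.isEtaleMor_of_repWith_isOpenImmersion hsq.1
  · rcases exists_point_of_isElemDistSq hsq x with ⟨y, hy⟩ | ⟨y, hy⟩
    · exact ⟨⟨true⟩, y, hy⟩
    · exact ⟨⟨false⟩, y, hy⟩
  have key : ∀ {A B P Q : Sp S} {a : A ⟶ X.obj} {b : B ⟶ X.obj} {p₁ : P ⟶ A} {p₂ : P ⟶ B} {q₁ : Q ⟶ A} {q₂ : Q ⟶ B}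
      (hP : IsPullback p₁ p₂ a b) (hQ : IsPullback q₁ q₂ (a ≫ g.hom) (b ≫ g.hom)) (m : P ⟶ Q),
      m ≫ q₁ = p₁ → m ≫ q₂ = p₂ → RepWith @IsClosedImmersion m →
      RepWith @IsClosedImmersion (pullback.map a b (a ≫ g.hom) (b ≫ g.hom) (𝟙 _) (𝟙 _) g.hom
        (Category.id_comp _).symm (Category.id_comp _).symm) := by
    intro A B P Q a b p₁ p₂ q₁ q₂ hP hQ m h₁ h₂ hm
    have : pullback.map a b (a ≫ g.hom) (b ≫ g.hom) (𝟙 _) (𝟙 _) g.hom
        (Category.id_comp _).symm (Category.id_comp _).symm = hP.isoPullback.inv ≫ m ≫ hQ.isoPullback.hom := by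
      apply pullback.hom_ext <;> simp [h₁, h₂]
    rw [this]
    exact repWith_comp (repWith_of_isIso _ _) (repWith_comp hm (repWith_of_isIso _ _))
  rcases i with ⟨_ | _⟩ <;> rcases k with ⟨_ | _⟩
  · exact key hQX hQY d.hom hd₁' hd₂' hdcl
  · exact key hPX.flip hPY.flip c.hom hc₂' hc₁' hcc
  · exact key hPX hPY c.hom hc₁' hc₂' hcc
  · refine key (IsKernelPair.id_of_mono j.hom) (IsPullback.of_hasPullback _ _)
      (pullback.diagonal (j.hom ≫ g.hom)) ?_ ?_ hU
    · exact pullback.lift_fst _ _ _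
    · exact pullback.lift_snd _ _ _

end Groth.Agent.AlgSpMor
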