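import Groth.Agent.EtGlue7.Alg
import Groth.Agent.AlgSpLib.EtaleSmoothLocal
import Groth.Agent.AlgSpDec.MonoRep

/-!
# Glueability for a glueing pair is etale local
-/

set_option autoImplicit false
set_option linter.style.haveILetI false
set_option backward.isDefEq.respectTransparency false
set_option backward.isDefEq.respectTransparency.types false

universe u

open CategoryTheory CategoryTheory.Limits AlgebraicGeometry TensorProduct AlgSp

namespace Groth.Agent.AlgSpMor.GlueableEt

section Alg

variable {A C : Type u} [CommRing A] [CommRing C] [Algebra A C] [Module.Flat A C]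

/-- Flat algebras see annihilators. -/
theorem exists_tmul_of_smul_eq_zero (a : A) (c : C) (h : a • c = 0) :
    ∃ t : LinearMap.ker (LinearMap.lsmul A A a) ⊗[A] C,
      (LinearMap.ker (LinearMap.lsmul A A a)).subtype.rTensor C t = (1 : A) ⊗ₜ[A] c := by
  have hex : Function.Exact (LinearMap.ker (LinearMap.lsmul A A a)).subtype (LinearMap.lsmul A A a) :=
    LinearMap.exact_subtype_ker_map _
  refine (Module.Flat.rTensor_exact C hex _).1 ?_
  rw [LinearMap.rTensor_tmul]
  apply (TensorProduct.lid A C).injective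
  simpa using h

/-- An element killed in flat neighbourhoods of all primes vanishes. -/
theorem exists_notMem_mul_eq_zero {m : A} (hm : algebraMap A C m = 0) (q : Ideal C) (hq : q ≠ ⊤) :
    ∃ a : A, a ∉ q.comap (algebraMap A C) ∧ m * a = 0 := by
  by_contra hne
  push Not at hne
  obtain ⟨t, ht⟩ := exists_tmul_of_smul_eq_zero m (1 : C) (by rwa [Algebra.smul_def, mul_one])
  refine hq ((Ideal.eq_top_iff_one q).2 ?_)
  have key : ∀ t : LinearMap.ker (LinearMap.lsmul A A m) ⊗[A] C,
      TensorProduct.lid A C ((LinearMap.ker (LinearMap.lsmul A A m)).subtype.rTensor C t) ∈ q := by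
    intro t
    induction t with
    | zero => simp
    | add x y hx hy => simp only [map_add]; exact add_mem hx hy
    | tmul a c =>
      have ha : algebraMap A C a.1 ∈ q := by
        by_contra hc
        exact hne a.1 hc (LinearMap.mem_ker.1 a.2)
      simpa [Algebra.smul_def] using q.mul_mem_right c ha
  have := key t
  rwa [ht, TensorProduct.lid_tmul, one_smul] at this

end Alg

section Torsion

variable (R R' : Type u) [CommRing R] [CommRing R'] [Algebra R R'] (f : R)

/-- The torsion criterion for glueability. -/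
def TorsInj (M : Type u) [AddCommGroup M] [Module R M] : Prop :=
  ∀ m : M, (∃ n : ℕ, f ^ n • m = 0) → (1 : R') ⊗ₜ[R] m = 0 → m = 0

variable {R R' f}

theorem isGlueable_iff_torsInj (h : EtGlue.IsGlueingPair R R' f) (M : Type u) [AddCommGroup M] [Module R M] :
    EtGlue.IsGlueable R R' f M ↔ TorsInj R R' f M :=
  (Groth.Agent.EtGlue7.isGlueable_iff h.1 M).2 h

attribute [local instance] Algebra.TensorProduct.rightAlgebra

/-- The torsion criterion passes to flat algebras. -/
theorem torsInj_of_flat {A C : Type u} [CommRing A] [CommRing C] [Algebra R A] [Algebra R C] [Algebra A C]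
    [IsScalarTower R A C] [Module.Flat A C] (hA : TorsInj R R' f A) : TorsInj R R' f C := by
  rintro c ⟨n, hn⟩ hc
  let a : A := algebraMap R A (f ^ n)
  obtain ⟨t, ht⟩ := exists_tmul_of_smul_eq_zero a c (by rwa [algebraMap_smul])
  let T := LinearMap.ker (LinearMap.lsmul A A a)
  let ψ : A →ₗ[A] R' ⊗[R] A := Algebra.linearMap A (R' ⊗[R] A)
  have hψ : Function.Injective (ψ.comp T.subtype) := by
    rw [injective_iff_map_eq_zero]
    intro x hx
    refine Subtype.ext (hA x.1 ⟨n, ?_⟩ hx)
    have hx2 : a * x.1 = 0 := LinearMap.mem_ker.1 x.2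
    rwa [← algebraMap_smul A (f ^ n) x.1, smul_eq_mul]
  have h1 : (ψ.comp T.subtype).rTensor C t = 0 := by
    rw [LinearMap.rTensor_comp_apply, ht, LinearMap.rTensor_tmul]
    apply (Groth.Agent.EtGlue7.tensorA R R' A C).injective
    rw [map_zero]
    show Groth.Agent.EtGlue7.tensorA R R' A C (((1 : R') ⊗ₜ[R] (1 : A)) ⊗ₜ[A] c) = 0
    rw [Groth.Agent.EtGlue7.tensorA_tmul, one_smul, hc]
  have ht0 : t = 0 :=
    Module.Flat.rTensor_preserves_injective_linearMap _ hψ (by rw [h1, map_zero])
  rw [ht0, map_zero] at ht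
  simpa using congrArg (TensorProduct.lid A C) ht.symm

/-- The torsion criterion descends along jointly injective maps. -/
theorem torsInj_of_jointly_injective {A : Type u} [CommRing A] [Algebra R A] {ι : Type*} (C : ι → Type u)
    [∀ i, CommRing (C i)] [∀ i, Algebra R (C i)] (φ : ∀ i, A →ₐ[R] C i) (h : ∀ i, TorsInj R R' f (C i))
    (hinj : ∀ a : A, (∀ i, φ i a = 0) → a = 0) : TorsInj R R' f A := by
  rintro m ⟨n, hn⟩ hm
  refine hinj m fun i => h i _ ⟨n, ?_⟩ ?_
  · rw [← map_smul, hn, map_zero]
  · simpa using congrArg ((φ i).toLinearMap.lTensor R') hm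

end Torsion

section Space

open Groth.Agent.AlgSpLib

variable {R R' : Type u} [CommRing R] [CommRing R'] [Algebra R R'] {f : R}
  {Y : Space (Spec (CommRingCat.of R))}

/-- An affine scheme over the base, from its coordinate ring. -/
noncomputable abbrev aff (R : Type u) [CommRing R] (A : Type u) [CommRing A] [Algebra R A] : Over (Spec (CommRingCat.of R)) :=
  Over.mk (Spec.map (CommRingCat.ofHom (algebraMap R A)))

/-- An etale cover by glueable affines makes all affine etale schemes over the space glueable. -/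
theorem isGlueable_of_cover (hRR' : EtGlue.IsGlueingPair R R' f) {ι : Type u} (A : ι → Type u)
    [∀ k, CommRing (A k)] [∀ k, Algebra R (A k)] (g : ∀ k, (yon _).obj (aff R (A k)) ⟶ Y.obj)
    (hg : ∀ k, RepWith @Etale (g k)) (hcov : ∀ y : Points Y.obj, ∃ k, y ∈ Set.range (Points.map (g k)))
    (hA : ∀ k, EtGlue.IsGlueable R R' f (A k)) (B : Type u) [CommRing B] [Algebra R B]
    (b : (yon _).obj (aff R B) ⟶ Y.obj) (hb : RepWith @Etale b) : EtGlue.IsGlueable R R' f B := by
  rw [isGlueable_iff_torsInj hRR']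
  have key : ∀ p : PrimeSpectrum B, ∃ (C : Type u) (_ : CommRing C) (_ : Algebra R C) (φ : B →ₐ[R] C)
      (q : PrimeSpectrum C), q.comap φ.toRingHom = p ∧ φ.toRingHom.Flat ∧ TorsInj R R' f C := fun p => by
    obtain ⟨k, z, hz⟩ := hcov (Points.ofPt b (show ↥(aff R B).left from p))
    let W := hb.rep.pullback (g k)
    let pr₁ : W ⟶ aff R B := hb.rep.fst' (g k)
    let pr₂ : W ⟶ aff R (A k) := hb.rep.snd (g k)
    have sq := hb.rep.isPullback' (g k)
    have hpr₂ : Etale pr₂.left := hb.property_snd (g k)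
    have hpr₁ : Etale pr₁.left := (hg k).property b _ pr₁ sq.flip
    obtain ⟨t, rfl⟩ := (Points.schemeHomeo (aff R (A k))).surjective z
    have ht : Points.ofPt b (show ↥(aff R B).left from p) = Points.ofPt (g k) t := by
      rw [Points.ofPt_eq_map_ofScheme (g k)]; exact hz.symm
    obtain ⟨w, hw₁, -⟩ := exists_ofPt_of_eq sq ht
    obtain ⟨V, hV, hwV, -⟩ := exists_isAffineOpen_mem_and_subset (U := (⊤ : W.left.Opens)) (x := w) trivial
    let C : CommRingCat.{u} := Γ(W.left, V)
    let φB : CommRingCat.of B ⟶ C := Spec.preimage (hV.fromSpec ≫ pr₁.left)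
    let φA : CommRingCat.of (A k) ⟶ C := Spec.preimage (hV.fromSpec ≫ pr₂.left)
    have eB : CommRingCat.ofHom (algebraMap R B) ≫ φB = CommRingCat.ofHom (algebraMap R (A k)) ≫ φA := by
      apply Spec.map_injective
      rw [Spec.map_comp, Spec.map_comp, Spec.map_preimage, Spec.map_preimage, Category.assoc, Category.assoc]
      exact congrArg (hV.fromSpec ≫ ·) ((Over.w pr₁).trans (Over.w pr₂).symm)
    let _ : Algebra R C := (φB.hom.comp (algebraMap R B)).toAlgebra
    let _ : Algebra (A k) C := φA.hom.toAlgebra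
    have : IsScalarTower R (A k) C := .of_algebraMap_eq fun r => RingHom.congr_fun (congrArg CommRingCat.Hom.hom eB) r
    have hfA : φA.hom.Flat := by
      refine (HasRingHomProperty.Spec_iff (P := @Flat)).1 ?_
      rw [Spec.map_preimage]
      infer_instance
    have : Module.Flat (A k) C := hfA
    have hfB : φB.hom.Flat := by
      refine (HasRingHomProperty.Spec_iff (P := @Flat)).1 ?_
      rw [Spec.map_preimage]
      infer_instance
    obtain ⟨q, hq⟩ : w ∈ Set.range hV.fromSpec := by rw [hV.range_fromSpec]; exact hwV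
    refine ⟨C, inferInstance, inferInstance, { φB.hom with commutes' := fun r => rfl }, q, ?_, hfB, ?_⟩
    · show Spec.map φB q = p
      rw [Spec.map_preimage, Scheme.Hom.comp_apply, hq]
      exact hw₁
    · exact torsInj_of_flat ((isGlueable_iff_torsInj hRR' (A k)).1 (hA k))
  choose C i₁ i₂ φ q hq hflat hC using key
  refine torsInj_of_jointly_injective C φ hC fun m hm => ?_
  have hI : Ideal.span {a : B | m * a = 0} = ⊤ := by
    by_contra hne
    obtain ⟨P, hP, hle⟩ := Ideal.exists_le_maximal _ hne
    let p : PrimeSpectrum B := ⟨P, hP.isPrime⟩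
    let _ : Algebra B (C p) := (φ p).toRingHom.toAlgebra
    have : Module.Flat B (C p) := hflat p
    obtain ⟨a, ha, hma⟩ := exists_notMem_mul_eq_zero (hm p) (q p).asIdeal (q p).2.ne_top
    have hP' : (q p).asIdeal.comap (algebraMap B (C p)) = P := congrArg PrimeSpectrum.asIdeal (hq p)
    rw [hP'] at ha
    exact ha (hle (Ideal.subset_span hma))
  have : (1 : B) ∈ LinearMap.ker (LinearMap.lsmul B B m) := by
    have hle : Ideal.span {a : B | m * a = 0} ≤ LinearMap.ker (LinearMap.lsmul B B m) :=
      Ideal.span_le.2 fun a ha => by simpa using ha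
    exact hle (hI ▸ Submodule.mem_top)
  simpa using this

/-- A space with all affine etale schemes glueable has a cover by such schemes. -/
theorem exists_cover_of_forall
    (h : ∀ (A : Type u) [CommRing A] [Algebra R A] (g : (yon _).obj (aff R A) ⟶ Y.obj),
      RepWith @Etale g → EtGlue.IsGlueable R R' f A) :
    ∃ (ι : Type u) (A : ι → Type u) (_ : ∀ k, CommRing (A k)) (_ : ∀ k, Algebra R (A k))
        (g : ∀ k, (yon _).obj (aff R (A k)) ⟶ Y.obj),
        (∀ k, RepWith @Etale (g k)) ∧ (∀ y : Points Y.obj, ∃ k, y ∈ Set.range (Points.map (g k))) ∧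
          ∀ k, EtGlue.IsGlueable R R' f (A k) := by
  obtain ⟨U, p, hp, hps⟩ := Y.property.atlas
  have : ∀ x : ↥U.left, ∃ V : U.left.Opens, IsAffineOpen V ∧ x ∈ V := fun x => by
    obtain ⟨V, hV, hxV, -⟩ := exists_isAffineOpen_mem_and_subset (U := (⊤ : U.left.Opens)) (x := x) trivial
    exact ⟨V, hV, hxV⟩
  choose V hV hxV using this
  let ψ : ∀ x, CommRingCat.of R ⟶ Γ(U.left, V x) := fun x => Spec.preimage ((hV x).fromSpec ≫ U.hom)
  let _ : ∀ x, Algebra R Γ(U.left, V x) := fun x => (ψ x).hom.toAlgebra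
  let o : ∀ x, aff R Γ(U.left, V x) ⟶ U := fun x => CategoryTheory.Over.homMk (hV x).fromSpec (by
    show _ = Spec.map (ψ x)
    rw [Spec.map_preimage])
  refine ⟨↥U.left, fun x => Γ(U.left, V x), inferInstance, inferInstance, fun x => (yon _).map (o x) ≫ p,
    fun x => repWith_comp ((repWith_yon_map_iff _ (o x)).2 (inferInstanceAs (Etale (hV x).fromSpec))) hp, fun y => ?_,
    fun x => h _ _ (repWith_comp ((repWith_yon_map_iff _ (o x)).2 (inferInstanceAs (Etale (hV x).fromSpec))) hp)⟩
  obtain ⟨x, rfl⟩ := surjective_ofPt hps y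
  obtain ⟨q, hq⟩ : x ∈ Set.range (hV x).fromSpec := by rw [(hV x).range_fromSpec]; exact hxV x
  refine ⟨x, Points.ofScheme _ q, ?_⟩
  rw [← Points.ofPt_eq_map_ofScheme, ofPt_comp]
  exact congrArg (Points.ofPt p) hq

end Space

end Groth.Agent.AlgSpMor.GlueableEt
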