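import Groth.Agent.CurvOpenLib.GorOpen
import Groth.Prelude.Def_AlgSpMor5

/-!
# Morphisms of spaces Gorenstein at a point
-/

set_option autoImplicit false
set_option backward.isDefEq.respectTransparency false
set_option backward.isDefEq.respectTransparency.types false

universe u

open CategoryTheory CategoryTheory.Limits AlgebraicGeometry AlgSp

namespace Groth.Agent.AlgSpMor

open Groth.Agent.AlgSpLib Groth.Agent.CurvOpenLib

variable {S : Scheme.{u}} {F G : Sp S} {f : F ⟶ G}

/-- For flat locally finitely presented morphisms the all-charts form of being Gorenstein at a point agrees with the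
one-chart form. -/
theorem locPAt_gor_iff (hF : IsAlgSpace F) (hG : IsAlgSpace G) (hff : LocP @Flat f)
    (hf : LocP @LocallyOfFinitePresentation f) (x : Points F) :
    LocPAt (fun h u => Dual3.IsGorensteinAt h u) f x ↔
      GenLocus.At (fun {_ _} h u => Dual3.IsGorensteinAt h u) f x := by
  obtain ⟨U, V, a, b, h, ha, ha', hb, -, w⟩ := exists_chart hF hG f
  obtain ⟨u, rfl⟩ := surjective_ofPt ha' x
  rw [GenLocus.at_iff_chart Gor.ptProp_gor hff hf ha hb w u]
  refine ⟨fun H => H a b h u ha hb w rfl, fun H U' V' a' b' h' u' ha₂ hb₂ w₂ he => ?_⟩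
  exact (GenLocus.congr_charts Gor.ptProp_gor hff hf ha hb w ha₂ hb₂ w₂ he.symm).1 H

theorem setOf_locPAt_gor (hF : IsAlgSpace F) (hG : IsAlgSpace G) (hff : LocP @Flat f)
    (hf : LocP @LocallyOfFinitePresentation f) :
    {x : Points F | LocPAt (fun h u => Dual3.IsGorensteinAt h u) f x} =
      {x : Points F | GenLocus.At (fun {_ _} h u => Dual3.IsGorensteinAt h u) f x} :=
  Set.ext fun x => locPAt_gor_iff hF hG hff hf x

end Groth.Agent.AlgSpMor
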