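import Groth.Agent.AlgSpMor.GorAt
import Groth.Agent.AlgSpMor.KoszulLocus
import Groth.Agent.AlgSpDec.Fibres
import Groth.Agent.AlgSpLib.FlatAt
import Groth.Agent.Triage.CMBC

/-!
# Flatness and the Gorenstein condition at a point are independent of the etale charts
-/

set_option autoImplicit false
set_option linter.style.haveILetI false
set_option backward.isDefEq.respectTransparency false
set_option backward.isDefEq.respectTransparency.types false

universe u

open CategoryTheory CategoryTheory.Limits AlgebraicGeometry Opposite AlgSp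

namespace Groth.Agent.AlgSpMor

open Groth.Agent.AlgSpLib Groth.Agent.FibFlat

section Schemes

variable {X Y Z : Scheme.{u}}

/-- Flatness at a point is not changed by an etale morphism on the target. -/
theorem flatAt_comp_etale_iff (k : X ⟶ Y) (e : Y ⟶ Z) [Etale e] (x : X) :
    ((k ≫ e).stalkMap x).hom.Flat ↔ (k.stalkMap x).hom.Flat := by
  refine ⟨fun hf => ?_, fun hk => by rw [Scheme.Hom.stalkMap_comp]; exact (Flat.stalkMap e (k x)).comp hk⟩
  let γ : X ⟶ pullback (k ≫ e) e := pullback.lift (𝟙 X) k (Category.id_comp _)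
  have hγ : IsOpenImmersion γ := by
    have h1 : Etale (γ ≫ pullback.fst (k ≫ e) e) := by rw [pullback.lift_fst]; infer_instance
    have : Etale γ := IsEtLocal.cancel_right (P := @Etale) γ (pullback.fst (k ≫ e) e) h1
    have : IsSplitMono γ := IsSplitMono.mk' ⟨pullback.fst (k ≫ e) e, pullback.lift_fst _ _ _⟩
    exact IsOpenImmersion.of_flat_of_mono γ
  have h1 : ((pullback.snd (k ≫ e) e).stalkMap (γ x)).hom.Flat := by
    refine Groth.Agent.Triage.CMBC.flat_stalk_of_isPullback (IsPullback.of_hasPullback (k ≫ e) e) (γ x) ?_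
    have hp : pullback.fst (k ≫ e) e (γ x) = x := by
      rw [← Scheme.Hom.comp_apply, pullback.lift_fst]; rfl
    have key : ∀ x₀ : X, x₀ = x → ((k ≫ e).stalkMap x₀).hom.Flat := fun x₀ hx₀ => by subst hx₀; exact hf
    exact key _ hp
  have h2 := (flat_stalk_open_comp γ (pullback.snd (k ≫ e) e) x).2 h1
  rwa [pullback.lift_snd] at h2

/-- The Gorenstein condition is not changed by an etale morphism on the source. -/
theorem gorAt_comp_etale_left (e : X ⟶ Y) (g : Y ⟶ Z) [Etale e] (hg : ∀ z, IsLocallyNoetherian (g.fiber z))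
    (heg : ∀ z, IsLocallyNoetherian ((e ≫ g).fiber z)) (x : X) :
    Dual3.IsGorensteinAt (e ≫ g) x ↔ Dual3.IsGorensteinAt g (e x) := by
  have h := Groth.Agent.S3627.result X Y Z e g (CurvOpenLib.Inst.noeth_fiber e) hg heg x
  exact ⟨fun hc => (h.2 hc (Flat.stalkMap e x)).2,
    fun hy => h.1 (CurvOpenLib.Gor.gorensteinAt_smooth e x) hy⟩

/-- The Gorenstein condition is not changed by an etale morphism on the target. -/
theorem gorAt_comp_etale_right (g : X ⟶ Y) (j : Y ⟶ Z) [Etale j] (hg : ∀ y, IsLocallyNoetherian (g.fiber y))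
    (hgj : ∀ z, IsLocallyNoetherian ((g ≫ j).fiber z)) (x : X) :
    Dual3.IsGorensteinAt (g ≫ j) x ↔ Dual3.IsGorensteinAt g x := by
  have h := Groth.Agent.S3627.result X Y Z g j hg (CurvOpenLib.Inst.noeth_fiber j) hgj x
  exact ⟨fun hc => (h.2 hc ((flatAt_comp_etale_iff g j x).1 hc.1)).1,
    fun hx => h.1 hx (CurvOpenLib.Gor.gorensteinAt_smooth j (g x))⟩

theorem isLocallyNoetherian_of_iso {A B : Scheme.{u}} (e : A ≅ B) [IsLocallyNoetherian B] :
    IsLocallyNoetherian A :=
  isLocallyNoetherian_of_isOpenImmersion e.hom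

end Schemes

variable {S : Scheme.{u}} {F G : Sp S}

/-- Every fibre over a field point is locally Noetherian. -/
abbrev FibNoeth (f : F ⟶ G) : Prop :=
  ∀ (k : FieldPt G) (Xk : Sp S) (a : Xk ⟶ F) (b : Xk ⟶ (yon S).obj k.pt),
    IsPullback a b f k.toHom → IsLocNoethSp Xk

/-- An etale chart diagram. -/
structure IsChart (f : F ⟶ G) {U V : Over S} (a : (yon S).obj U ⟶ F) (b : (yon S).obj V ⟶ G) (h : U ⟶ V) :
    Prop where
  ha : RepWith @Etale a
  hb : RepWith @Etale b
  w : a ≫ f = (yon S).map h ≫ b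

variable {f : F ⟶ G} {U V U' V' : Over S} {a : (yon S).obj U ⟶ F} {b : (yon S).obj V ⟶ G} {h : U ⟶ V}
  {a' : (yon S).obj U' ⟶ F} {b' : (yon S).obj V' ⟶ G} {h' : U' ⟶ V'}

/-- The fibres of the top arrow of a chart diagram are locally Noetherian. -/
theorem IsChart.noeth_fiber (hc : IsChart f a b h) (hN : FibNoeth f) (v : ↥V.left) :
    IsLocallyNoetherian (h.left.fiber v) := by
  let k := FieldPt.ofPt b v
  let ι : k.pt ⟶ V := Over.homMk (V.left.fromSpecResidueField v) rfl
  let a₀ : (yon S).obj U ⟶ pullback f b := pullback.lift a ((yon S).map h) hc.w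
  have ha₀ : RepWith @Etale a₀ :=
    repWith_etale_of_comp a₀ (pullback.fst f b) (by rw [pullback.lift_fst]; exact hc.ha) (repWith_fst f hc.hb)
  obtain ⟨a₁, -, -, hR⟩ := exists_bc_chart (IsPullback.of_hasPullback f k.toHom) (a₀ := a₀)
    (pullback.lift_snd _ _ _) (c := 𝟙 _) (t := ι) (by rw [Category.id_comp]; exact FieldPt.toHom_ofPt b v)
  haveI := AlgSpDec.isLocallyNoetherian_chart (hR @Etale ha₀ (repWith_id _ _))
    (hN k _ _ _ (IsPullback.of_hasPullback f k.toHom))
  have e := ((IsPullback.of_hasPullback h ι).map (Over.forget S)).isoPullback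
  exact @isLocallyNoetherian_of_iso _ _ e.symm ‹_›

/-- Two chart diagrams are dominated by a third. -/
theorem IsChart.exists_common (hc : IsChart f a b h) (hc' : IsChart f a' b' h') {u : ↥U.left} {u' : ↥U'.left}
    (he : Points.ofPt a u = Points.ofPt a' u') :
    ∃ (U'' V'' : Over S) (r : U'' ⟶ U) (r' : U'' ⟶ U') (e : V'' ⟶ V) (e' : V'' ⟶ V') (k : U'' ⟶ V'')
      (z : ↥U''.left), Etale r.left ∧ Etale r'.left ∧ Etale e.left ∧ Etale e'.left ∧
      k.left ≫ e.left = r.left ≫ h.left ∧ k.left ≫ e'.left = r'.left ≫ h'.left ∧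
      IsChart f ((yon S).map r ≫ a) b (r ≫ h) ∧ IsChart f ((yon S).map r' ≫ a') b' (r' ≫ h') ∧
      IsChart f ((yon S).map r ≫ a) ((yon S).map e ≫ b) k ∧ r.left z = u ∧ r'.left z = u' := by
  obtain ⟨z, hz, hz'⟩ := exists_ofPt_of_eq (hc.ha.rep.isPullback' a') he
  set r := hc.ha.rep.fst' a'
  set r' := hc.ha.rep.snd a'
  have hr' : Etale r'.left := hc.ha.property_snd a'
  have hr : Etale r.left := hc'.ha.2 a _ _ (hc.ha.rep.isPullback' a').flip
  let e := hc.hb.rep.fst' b'
  let e' := hc.hb.rep.snd b'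
  have he' : Etale e'.left := hc.hb.property_snd b'
  have he₀ : Etale e.left := hc'.hb.2 b _ _ (hc.hb.rep.isPullback' b').flip
  have hra : RepWith @Etale ((yon S).map r ≫ a) := repWith_comp ((repWith_yon_map_iff _ _).2 hr) hc.ha
  have hra' : RepWith @Etale ((yon S).map r' ≫ a') := repWith_comp ((repWith_yon_map_iff _ _).2 hr') hc'.ha
  obtain ⟨k, hk, hk'⟩ : ∃ k, k ≫ e = r ≫ h ∧ k ≫ e' = r' ≫ h' := by
    obtain ⟨k, hk⟩ := (yon S).map_surjective ((hc.hb.rep.isPullback' b').lift ((yon S).map (r ≫ h))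
      ((yon S).map (r' ≫ h')) (by
        rw [Functor.map_comp, Functor.map_comp, Category.assoc, Category.assoc, ← hc.w, ← hc'.w, ← Category.assoc,
          ← Category.assoc]
        exact congrArg (· ≫ f) (hc.ha.rep.isPullback' a').w))
    exact ⟨k, (yon S).map_injective (by rw [Functor.map_comp, hk, IsPullback.lift_fst]),
      (yon S).map_injective (by rw [Functor.map_comp, hk, IsPullback.lift_snd])⟩
  refine ⟨_, _, r, r', e, e', k, z, hr, hr', he₀, he', congrArg Over.Hom.left hk, congrArg Over.Hom.left hk',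
    ⟨hra, hc.hb, by rw [Category.assoc, hc.w, Functor.map_comp, Category.assoc]⟩,
    ⟨hra', hc'.hb, by rw [Category.assoc, hc'.w, Functor.map_comp, Category.assoc]⟩,
    ⟨hra, repWith_comp ((repWith_yon_map_iff _ _).2 he₀) hc.hb, ?_⟩, hz, hz'⟩
  rw [Category.assoc, hc.w, ← Category.assoc, ← Category.assoc, ← Functor.map_comp, ← Functor.map_comp, hk]

/-- Flatness at a point is independent of the chart. -/
theorem IsChart.flatAt_iff (hc : IsChart f a b h) (hc' : IsChart f a' b' h') {u : ↥U.left} {u' : ↥U'.left}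
    (he : Points.ofPt a u = Points.ofPt a' u') :
    (h.left.stalkMap u).hom.Flat ↔ (h'.left.stalkMap u').hom.Flat := by
  obtain ⟨U'', V'', r, r', e, e', k, z, _, _, _, _, hk, hk', -, -, -, hz, hz'⟩ := hc.exists_common hc' he
  subst hz hz'
  have h1 := flatAt_comp_left_iff r.left h.left z (Flat.stalkMap _ _)
  have h2 := flatAt_comp_left_iff r'.left h'.left z (Flat.stalkMap _ _)
  rw [← hk, flatAt_comp_etale_iff] at h1
  rw [← hk', flatAt_comp_etale_iff] at h2
  exact h1.symm.trans h2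

/-- The Gorenstein condition at a point is independent of the chart. -/
theorem IsChart.gorAt_iff (hc : IsChart f a b h) (hc' : IsChart f a' b' h') (hN : FibNoeth f) {u : ↥U.left}
    {u' : ↥U'.left} (he : Points.ofPt a u = Points.ofPt a' u') :
    Dual3.IsGorensteinAt h.left u ↔ Dual3.IsGorensteinAt h'.left u' := by
  obtain ⟨U'', V'', r, r', e, e', k, z, _, _, _, _, hk, hk', c1, c2, c3, hz, hz'⟩ := hc.exists_common hc' he
  subst hz hz'
  have n0 : ∀ v, IsLocallyNoetherian (k.left.fiber v) := c3.noeth_fiber hN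
  have n1 : ∀ v, IsLocallyNoetherian ((r.left ≫ h.left).fiber v) := fun v => c1.noeth_fiber hN v
  have n2 : ∀ v, IsLocallyNoetherian ((r'.left ≫ h'.left).fiber v) := fun v => c2.noeth_fiber hN v
  rw [← gorAt_comp_etale_left r.left h.left (hc.noeth_fiber hN) n1,
    ← gorAt_comp_etale_left r'.left h'.left (hc'.noeth_fiber hN) n2]
  rw [← hk, ← hk'] at *
  rw [gorAt_comp_etale_right k.left e.left n0 n1, gorAt_comp_etale_right k.left e'.left n0 n2]

/-- Being Gorenstein at a point is tested on one chart. -/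
theorem IsChart.locPAt_gor_iff (hc : IsChart f a b h) (hN : FibNoeth f) (u : ↥U.left) :
    LocPAt (fun h u => Dual3.IsGorensteinAt h u) f (Points.ofPt a u) ↔ Dual3.IsGorensteinAt h.left u := by
  refine ⟨fun H => H a b h u hc.ha hc.hb hc.w rfl, fun H U₁ V₁ a₁ b₁ h₁ u₁ ha₁ hb₁ w₁ he => ?_⟩
  exact (hc.gorAt_iff ⟨ha₁, hb₁, w₁⟩ hN he.symm).1 H

/-- Flatness at a point is tested on one chart. -/
theorem IsChart.isFlatAtMor_iff (hc : IsChart f a b h) (u : ↥U.left) :
    IsFlatAtMor f (Points.ofPt a u) ↔ (h.left.stalkMap u).hom.Flat := by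
  refine ⟨fun H => H a b h u hc.ha hc.hb hc.w rfl, fun H U₁ V₁ a₁ b₁ h₁ u₁ ha₁ hb₁ w₁ he => ?_⟩
  exact (hc.flatAt_iff ⟨ha₁, hb₁, w₁⟩ he.symm).1 H

/-- Locally Noetherian fibres are stable under base change. -/
theorem FibNoeth.of_isPullback {F' G' : Sp S} {g : G' ⟶ G} {fst : F' ⟶ F} {snd : F' ⟶ G'}
    (hN : FibNoeth f) (sq : IsPullback fst snd f g) : FibNoeth snd := fun k Xk a b hk =>
  hN (k.map g) Xk (a ≫ fst) b (by rw [FieldPt.toHom_map]; exact hk.paste_horiz sq)

end Groth.Agent.AlgSpMor
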