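import Groth.Agent.AlgSpMor.GorChart
import Groth.Agent.CurvLocusLib.LocP
import Groth.Agent.Dual3Lib.GorTransfer
import Groth.Agent.S3624

/-!
# Gorenstein fibres of morphisms of algebraic spaces
-/

set_option autoImplicit false
set_option linter.style.haveILetI false
set_option backward.isDefEq.respectTransparency false
set_option backward.isDefEq.respectTransparency.types false

universe u

open CategoryTheory CategoryTheory.Limits AlgebraicGeometry AlgSp IsLocalRing

namespace Groth.Agent.AlgSpMor

open Groth.Agent.AlgSpLib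

/-- Gorenstein local rings correspond along an etale morphism. -/
theorem gor_iff_of_etale {U X : Scheme.{u}} (a : U ⟶ X) [Etale a] [IsLocallyNoetherian X] (u : U) :
    LocCoh.IsGorensteinLocalRing (U.presheaf.stalk u) ↔
      LocCoh.IsGorensteinLocalRing (X.presheaf.stalk (a u)) := by
  haveI : IsLocallyNoetherian U := LocallyOfFiniteType.isLocallyNoetherian a
  letI := (a.stalkMap u).hom.toAlgebra
  haveI : IsLocalHom (algebraMap (X.presheaf.stalk (a u)) (U.presheaf.stalk u)) :=
    inferInstanceAs <| IsLocalHom (a.stalkMap u).hom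
  haveI : Module.Flat (X.presheaf.stalk (a u)) (U.presheaf.stalk u) := Flat.stalkMap a u
  exact ⟨fun h => ((Groth.Agent.S0344.result _ _).mp h).1, (CurvLocusLib.cm_gor_of_etale a u).2⟩

/-- All fibres of a morphism Gorenstein at every point are Gorenstein. -/
theorem gor_fiber {X Y : Scheme.{u}} (h : X ⟶ Y) (H : ∀ x, Dual3.IsGorensteinAt h x) (v : Y)
    (z : h.fiber v) : LocCoh.IsGorensteinLocalRing ((h.fiber v).presheaf.stalk z) := by
  have hv : h (h.fiberι v z) = v := by
    have := Set.mem_range_self (f := h.fiberι v) z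
    rwa [Scheme.Hom.range_fiberι] at this
  generalize hx : h.fiberι v z = x at hv
  subst hv
  obtain rfl : z = h.asFiber x :=
    (h.fiberι (h x)).injective (hx.trans (Scheme.Hom.fiberι_asFiber h x).symm)
  exact (H x).2

variable {S : Scheme.{u}} {F : Sp S}

/-- Gorenstein local rings correspond on two etale charts through a point. -/
theorem gor_chart_iff {P W : Over S} {a : (yon S).obj P ⟶ F} {p : (yon S).obj W ⟶ F}
    (ha : RepWith @Etale a) (hp : RepWith @Etale p) [IsLocallyNoetherian P.left] [IsLocallyNoetherian W.left]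
    {z : ↥P.left} {w : ↥W.left} (he : Points.ofPt a z = Points.ofPt p w) :
    LocCoh.IsGorensteinLocalRing (P.left.presheaf.stalk z) ↔
      LocCoh.IsGorensteinLocalRing (W.left.presheaf.stalk w) := by
  obtain ⟨q, rfl, rfl⟩ := exists_ofPt_of_eq (ha.rep.isPullback' p) he
  haveI : Etale (ha.rep.fst' p).left := hp.2 a _ _ (ha.rep.isPullback' p).flip
  haveI : Etale (ha.rep.snd p).left := ha.property_snd p
  exact (gor_iff_of_etale (ha.rep.fst' p).left q).symm.trans (gor_iff_of_etale (ha.rep.snd p).left q)

/-- The fibre of the top arrow of a chart diagram is an etale chart of the fibre of the morphism. -/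
theorem exists_fibre_chart {G : Sp S} {f : F ⟶ G} (hN : FibNoeth f) {U V : Over S}
    {b : (yon S).obj V ⟶ G} {a₀ : (yon S).obj U ⟶ pullback f b} {h : U ⟶ V} (ha₀ : RepWith @Etale a₀)
    (h₀ : a₀ ≫ pullback.snd f b = (yon S).map h) (v : ↥V.left) {Xv : Sp S} {α : Xv ⟶ F}
    {γ : Xv ⟶ (yon S).obj (Over.mk (V.left.fromSpecResidueField v ≫ V.hom))}
    (sq : IsPullback α γ f ((yon S).map (Over.homMk (V.left.fromSpecResidueField v) rfl :
      Over.mk (V.left.fromSpecResidueField v ≫ V.hom) ⟶ V) ≫ b)) :
    ∃ (P : Over S) (a' : (yon S).obj P ⟶ Xv) (e : P.left ≅ h.left.fiber v), RepWith @Etale a' ∧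
      (RepWith @Surjective a₀ → RepWith @Surjective a') ∧ IsLocallyNoetherian P.left := by
  let ι : Over.mk (V.left.fromSpecResidueField v ≫ V.hom) ⟶ V := Over.homMk (V.left.fromSpecResidueField v) rfl
  obtain ⟨a', -, -, hR⟩ := exists_bc_chart sq h₀ (c := 𝟙 _) (t := ι) (Category.id_comp _)
  have ha' : RepWith @Etale a' := hR @Etale ha₀ (repWith_id _ _)
  refine ⟨Limits.pullback h ι, a', ((IsPullback.of_hasPullback h ι).map (Over.forget S)).isoPullback, ha',
    fun hs => hR @Surjective hs (repWith_id _ _), AlgSpDec.isLocallyNoetherian_chart ha' ?_⟩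
  refine hN (FieldPt.ofPt b v) Xv α γ ?_
  rw [FieldPt.toHom_ofPt]
  exact sq

end Groth.Agent.AlgSpMor
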