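import Groth.Agent.EtClImm.Space
import Groth.Agent.EtFound.IntegralProps
import Groth.Agent.AlgSpMor.EtTopos
import Groth.Agent.SitePullUnit.DerivedClass
import Groth.Prelude.Def_AlgSp4

/-!
# Direct images along integral morphisms of algebraic spaces are exact
-/

set_option autoImplicit false
set_option linter.style.haveILetI false
set_option backward.isDefEq.respectTransparency false
set_option backward.isDefEq.respectTransparency.types false

universe u

open CategoryTheory CategoryTheory.Limits AlgebraicGeometry Opposite AlgSp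

namespace Groth.Agent.AlgSpMor

open Groth.Agent.EtClImm

variable {S : Scheme.{u}} {X Y : Sp S} {f : X ⟶ Y}

/-- Sections with equal restrictions along a covering family are equal. -/
theorem eq_of_etTop_cover (F : AbEt X) {E : EtOver X} {ι : Type*} (Z : ι → EtOver X) (g : ∀ i, Z i ⟶ E)
    (hc : ∀ x : ↥E.obj.left.left, ∃ i, x ∈ Set.range (g i).hom.left.left) {s t : ToType (F.obj.obj (op E))}
    (h : ∀ i, F.obj.map (g i).op s = F.obj.map (g i).op t) : s = t := by
  refine (((isSheaf_iff_isSheaf_of_type _ _).1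
    ((sheafCompose (etTop X) (forget AddCommGrpCat.{u + 1})).obj F).property).isSeparated _
      (ofArrows_mem_etTop Z g hc)).ext fun W φ hφ => ?_
  obtain ⟨_, a, _, ⟨i⟩, rfl⟩ := hφ
  show F.obj.map (a ≫ g i).op s = F.obj.map (a ≫ g i).op t
  rw [op_comp, Functor.map_comp, ConcreteCategory.comp_apply, ConcreteCategory.comp_apply, h i]

/-- Sections over disjoint opens covering an object glue. -/
theorem exists_glue_disjoint_etTop (F : AbEt X) (E : EtOver X) {μ : Type u} (O : μ → E.obj.left.left.Opens)
    (hd : ∀ a b, a ≠ b → Disjoint (O a) (O b)) (hO : (⨆ a, O a) = ⊤)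
    (t : ∀ a, ToType (F.obj.obj (op (etOf E (O a).ι)))) :
    ∃ s : ToType (F.obj.obj (op E)), ∀ a, F.obj.map (etTo E (O a).ι).op s = t a := by
  have hc : ∀ x : ↥E.obj.left.left, ∃ a, x ∈ Set.range (etTo E (O a).ι).hom.left.left := fun x => by
    obtain ⟨a, ha⟩ := TopologicalSpace.Opens.mem_iSup.1 (hO.ge (TopologicalSpace.Opens.mem_top x))
    exact ⟨a, ⟨x, ha⟩, rfl⟩
  have h := ((isSheaf_iff_isSheaf_of_type _ _).1
    ((sheafCompose (etTop X) (forget AddCommGrpCat.{u + 1})).obj F).property) _
      (ofArrows_mem_etTop _ (fun a => etTo E (O a).ι) hc)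
  rw [Sieve.ofArrows, ← Presieve.isSheafFor_iff_generate, Presieve.isSheafFor_arrows_iff] at h
  refine (h t fun a b Z ga gb e => ?_).exists
  by_cases hab : a = b
  · subst hab
    have : ga = gb := EtOver.hom_ext _ _ (Over.OverMorphism.ext
      ((cancel_mono (O a).ι).1 (congrArg (fun k => k.hom.left.left) e)))
    rw [this]
  · have hZ : IsEmpty ↥Z.obj.left.left := ⟨fun z => by
      have e' : (ga.hom.left.left ≫ (O a).ι) z = (gb.hom.left.left ≫ (O b).ι) z :=
        congrArg (fun k => k z) (congrArg (fun k => k.hom.left.left) e)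
      rw [Scheme.Hom.comp_apply, Scheme.Hom.comp_apply] at e'
      exact Set.disjoint_left.1 (TopologicalSpace.Opens.coe_disjoint.2 (hd a b hab))
        (ga.hom.left.left z).2 ((congrArg (· ∈ O b) e').mpr (gb.hom.left.left z).2)⟩
    exact eq_of_etTop_cover F (ι := PEmpty.{1}) (fun i => i.elim) (fun i => i.elim)
      (fun z => (hZ.false z).elim) (fun i => i.elim)

variable (hf : Representable f) (hint : RepWith @IsIntegralHom f)

include hint in
/-- Direct image along an integral morphism preserves local surjectivity. -/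
theorem isLocallySurjective_pushEt {F G : AbEt X} (φ : F ⟶ G) [Sheaf.IsLocallySurjective φ] :
    Sheaf.IsLocallySurjective ((pushEt hf AddCommGrpCat.{u + 1}).map φ) := by
  constructor
  intro E s
  have hs := Presheaf.imageSieve_mem (etTop X) φ.hom (U := op (EtOver.bcObj hf E)) s
  choose W g hg hw using fun x => exists_mem_of_etTop hs x
  choose w hw using hw
  choose t ht using hg
  let c := (EtOver.bcπ hf E).left
  have : IsIntegralHom c := hint.property _ _ _ (hf.isPullback E.obj.hom)
  have : ∀ x, Etale (g x).hom.left.left := fun x => EtOver.etale_left (g x)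
  have hdesc := EtFound.etale_sigmaDesc fun x => (g x).hom.left.left
  refine mem_etTop_of_surjective _ fun y => ?_
  obtain ⟨V, v, hv, ⟨z, hz⟩, k, hk⟩ := EtFound.exists_split' c (Sigma.desc fun x => (g x).hom.left.left) y
    (fun x _ => ⟨(Sigma.ι (fun x => (W x).obj.left.left) x).base (w x), by
      rw [← Scheme.Hom.comp_apply, Sigma.ι_desc]; exact hw x⟩)
  refine ⟨etOf E v, etTo E v, ?_, z, hz⟩
  let B : EtOver X := EtOver.bcObj hf (etOf E v)
  let d := (isPullback_bc_etTo hf E v).isoPullback
  let m : B.obj.left.left ⟶ ∐ fun x => (W x).obj.left.left := d.hom ≫ (pullbackSymmetry v c).hom ≫ k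
  have hm : m ≫ Sigma.desc (fun x => (g x).hom.left.left) = (EtOver.bcMap hf (etTo E v)).hom.left.left := by
    simp only [m, Category.assoc, hk, pullbackSymmetry_hom_comp_fst]
    exact IsPullback.isoPullback_hom_snd _
  let O : _ → B.obj.left.left.Opens := fun x => m ⁻¹ᵁ (Sigma.ι (fun x => (W x).obj.left.left) x).opensRange
  have hle : ∀ x, Set.range ((O x).ι ≫ m).base ⊆ Set.range (Sigma.ι (fun x => (W x).obj.left.left) x).base := by
    rintro x _ ⟨a, rfl⟩
    exact a.2
  have hfac : ∀ x, ∃ l : etOf B (O x).ι ⟶ W x, l ≫ g x = etTo B (O x).ι ≫ EtOver.bcMap hf (etTo E v) := by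
    intro x
    have h1 : IsOpenImmersion.lift (Sigma.ι (fun x => (W x).obj.left.left) x) ((O x).ι ≫ m) (hle x) ≫
        (g x).hom.left.left = (O x).ι ≫ (EtOver.bcMap hf (etTo E v)).hom.left.left := by
      have h0 := congrArg (· ≫ Sigma.desc fun x => (g x).hom.left.left)
        (IsOpenImmersion.lift_fac (Sigma.ι (fun x => (W x).obj.left.left) x) ((O x).ι ≫ m) (hle x))
      exact (congrArg (IsOpenImmersion.lift (Sigma.ι (fun x => (W x).obj.left.left) x) ((O x).ι ≫ m) (hle x) ≫ ·)
        (Sigma.ι_desc (fun x => (g x).hom.left.left) x)).symm.trans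
          ((Category.assoc _ _ _).symm.trans (h0.trans ((Category.assoc _ _ _).trans (congrArg ((O x).ι ≫ ·) hm))))
    let l₀ : (etOf B (O x).ι).obj.left ⟶ (W x).obj.left :=
      Over.homMk (IsOpenImmersion.lift (Sigma.ι (fun x => (W x).obj.left.left) x) ((O x).ι ≫ m) (hle x)) (by
        rw [← Over.w (g x).hom.left, ← Category.assoc, h1, Category.assoc, Over.w]
        rfl)
    have h2 : l₀ ≫ (g x).hom.left = (etTo B (O x).ι ≫ EtOver.bcMap hf (etTo E v)).hom.left :=
      Over.OverMorphism.ext h1
    refine ⟨EtOver.homMk l₀ ?_, EtOver.hom_ext _ _ h2⟩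
    rw [← EtOver.w (g x), ← Category.assoc, ← Functor.map_comp, h2]
    exact EtOver.w _
  choose l hl using hfac
  obtain ⟨T, hT⟩ := exists_glue_disjoint_etTop F B O (fun a b hab => by
      have := disjoint_opensRange_sigmaι (fun x => (W x).obj.left.left) a b hab
      rw [disjoint_iff] at this ⊢
      rw [show O a ⊓ O b = m ⁻¹ᵁ ((Sigma.ι (fun x => (W x).obj.left.left) a).opensRange ⊓
        (Sigma.ι (fun x => (W x).obj.left.left) b).opensRange) from rfl, this]
      rfl)
    (eq_top_iff.2 fun p _ => by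
      obtain ⟨x, a, ha⟩ := (sigmaOpenCover fun x => (W x).obj.left.left).exists_eq (m.base p)
      exact TopologicalSpace.Opens.mem_iSup.2 ⟨x, a, ha⟩)
    (fun x => F.obj.map (l x).op (t x))
  refine ⟨T, eq_of_etTop_cover G _ (fun x => etTo B (O x).ι) (fun p => ?_) fun x => ?_⟩
  · obtain ⟨x, a, ha⟩ := (sigmaOpenCover fun x => (W x).obj.left.left).exists_eq (m.base p)
    exact ⟨x, ⟨p, a, ha⟩, rfl⟩
  · show G.obj.map _ (φ.hom.app _ T) = G.obj.map _ (G.obj.map ((EtOver.bc hf).map (etTo E v)).op s)
    rw [← NatTrans.naturality_apply, hT, NatTrans.naturality_apply, ht, ← ConcreteCategory.comp_apply,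
      ← G.obj.map_comp, ← op_comp, hl, op_comp, G.obj.map_comp, ConcreteCategory.comp_apply]
    rfl

include hint in
/-- Direct image along an integral morphism is exact. -/
theorem pushEt_exact :
    PreservesFiniteColimits (pushEt hf AddCommGrpCat.{u + 1}) ∧
      ∀ (p : ℕ), 0 < p → ∀ F : AbEt X, IsZero ((RpushEt hf p).obj F) := by
  haveI : (pushEt hf AddCommGrpCat.{u + 1}).IsRightAdjoint := (pullPushAdjEt hf AddCommGrpCat.{u + 1}).isRightAdjoint
  haveI hl : PreservesFiniteLimits (pushEt hf AddCommGrpCat.{u + 1}) :=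
    letI := (pullPushAdjEt hf AddCommGrpCat.{u + 1}).rightAdjoint_preservesLimits
    PreservesLimitsOfSize.preservesFiniteLimits.{0, 0} _
  haveI : (pushEt hf AddCommGrpCat.{u + 1}).PreservesEpimorphisms := ⟨fun {F G} φ _ => by
    have := (Sheaf.isLocallySurjective_iff_epi' _ φ).2 inferInstance
    exact (Sheaf.isLocallySurjective_iff_epi' _ _).1 (isLocallySurjective_pushEt hf hint φ)⟩
  refine ⟨?_, fun p hp F => ?_⟩
  · rw [Functor.preservesFiniteColimits_iff_forall_exact_map_and_epi]
    intro T hT
    have := hT.epi_g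
    exact ⟨((((pushEt hf AddCommGrpCat.{u + 1}).preservesFiniteLimits_tfae).out 3 0 rfl rfl).1 hl T hT).1, inferInstance⟩
  · obtain ⟨q, rfl⟩ := Nat.exists_eq_succ_of_ne_zero hp.ne'
    exact SitePullUnit.isZero_rightDerived_of_class _ (fun _ => True) (fun _ _ _ _ => trivial)
      (fun T hT _ _ => haveI := hT.epi_g; inferInstance) (X := F) trivial q

end Groth.Agent.AlgSpMor
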