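import Groth.Agent.AlgSpMor.ColimitSpace
import Groth.Agent.AlgSpMor.PinchEtale
import Groth.Agent.RingPO.Sep
import Groth.Agent.RingPO.FibreAffine

/-!
# Pinchings of schemes remain pushouts among algebraic spaces
-/

set_option autoImplicit false
set_option linter.style.haveILetI false
set_option backward.isDefEq.respectTransparency false
set_option backward.isDefEq.respectTransparency.types false

universe u

open CategoryTheory CategoryTheory.Limits AlgebraicGeometry Opposite AlgSp

namespace Groth.Agent.AlgSpMor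

variable {S : Scheme.{u}}

/-- A cocone on a span is a colimit when its square is a pushout. -/
theorem isColimit_of_isPushout {C : Type*} [Category C] {F : WalkingSpan ⥤ C} {s : Cocone F}
    (h : IsPushout (F.map WalkingSpan.Hom.fst) (F.map WalkingSpan.Hom.snd) (s.ι.app WalkingSpan.left)
      (s.ι.app WalkingSpan.right)) : Nonempty (IsColimit s) :=
  ⟨(IsColimit.precomposeHomEquiv (diagramIsoSpan F).symm s).toFun
    (h.isColimit.ofIsoColimit (Cocone.ext (Iso.refl _) (by
      rintro (_ | ⟨_ | _⟩)
      · simp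
      · simp
      · simp)))⟩

/-- A pinching with enough charts, also for etale separated pullbacks, is a pushout among algebraic spaces. -/
theorem isPushout_ofScheme_of_charts {Z X Y P : Over S} (i : Z ⟶ X) (j : Z ⟶ Y) (a : X ⟶ P) (b : Y ⟶ P)
    [IsClosedImmersion i.left] [IsAffineHom j.left] (hpo : IsPushout i j a b)
    (hcP : ∀ y : ↥Y.left, ∃ k : RingPO.Chart i.left j.left, y ∈ k.V)
    (hc' : ∀ {Z' X' Y' : Scheme.{u}} (f : X' ⟶ X.left) (g : Y' ⟶ Y.left) (c : Z' ⟶ Z.left) (i' : Z' ⟶ X')
      (j' : Z' ⟶ Y'), IsPullback i' c f i.left → IsPullback j' c g j.left → Etale f → IsSeparated f → Etale g →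
      IsSeparated g → ∀ y : Y', ∃ k : RingPO.Chart i' j', y ∈ k.V) :
    IsPushout ((AlgSp.ofScheme S).map i) ((AlgSp.ofScheme S).map j) ((AlgSp.ofScheme S).map a)
      ((AlgSp.ofScheme S).map b) := by
  have hP : IsPushout i.left j.left a.left b.left := hpo.map (Over.forget S)
  haveI : IsAffineHom a.left := RingPO.isAffineHom_inl hP hcP
  haveI : IsClosedImmersion b.left := RingPO.isClosedImmersion_inr hP hcP
  let c : Cocone (span i j) := hpo.cocone
  have h₁ : IsColimit ((Over.forget S).mapCocone c) := isColimitOfPreserves _ hpo.isColimit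
  refine Nonempty.elim (nonempty_isColimit_ofScheme h₁ (fun x => ?_) ?_ ?_) fun hc => ?_
  · rcases RingPO.exists_preimage_point hP hcP x with ⟨y, hy⟩ | ⟨y, hy⟩
    · exact ⟨WalkingSpan.left, y, hy⟩
    · exact ⟨WalkingSpan.right, y, hy⟩
  · intro D' α c' a' ha' hcart
    refine isColimit_of_isPushout ?_
    have hX := (hcart WalkingSpan.left).map (Over.forget S)
    have hY := (hcart WalkingSpan.right).map (Over.forget S)
    have hZ : IsPullback (D'.map WalkingSpan.Hom.fst) (α.app WalkingSpan.zero) (α.app WalkingSpan.left)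
        ((span i j).map WalkingSpan.Hom.fst) := by
      refine IsPullback.of_right ?_ (α.naturality WalkingSpan.Hom.fst) (hcart WalkingSpan.left)
      rw [c'.w WalkingSpan.Hom.fst, c.w WalkingSpan.Hom.fst]
      exact hcart WalkingSpan.zero
    haveI : Flat a'.left := inferInstance
    refine RingPO.isPushout_baseChange hP hcP (𝟙 P.left) a'.left (Or.inr inferInstance)
      (sT := 𝟙 _) (IsPullback.of_vert_isIso ⟨by simp⟩) hX.flip hY.flip (hZ.map (Over.forget S)).flip ?_ ?_
    · exact congrArg CommaMorphism.left (α.naturality WalkingSpan.Hom.snd)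
    · exact congrArg CommaMorphism.left ((c'.w WalkingSpan.Hom.fst).trans (c'.w WalkingSpan.Hom.snd).symm)
  · intro D' α heq het hsep
    let f := (α.app WalkingSpan.left).left
    let g := (α.app WalkingSpan.right).left
    let i' := (D'.map WalkingSpan.Hom.fst).left
    let j' := (D'.map WalkingSpan.Hom.snd).left
    have hX : IsPullback i' (α.app WalkingSpan.zero).left f i.left :=
      (heq WalkingSpan.Hom.fst).map (Over.forget S)
    have hY : IsPullback j' (α.app WalkingSpan.zero).left g j.left :=
      (heq WalkingSpan.Hom.snd).map (Over.forget S)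
    haveI : IsClosedImmersion i' := MorphismProperty.of_isPullback hX.flip ‹_›
    haveI : IsAffineHom j' := MorphismProperty.of_isPullback hY.flip ‹_›
    have hcP' := hc' f g (α.app WalkingSpan.zero).left i' j' hX hY (het _) (hsep _) (het _) (hsep _)
    have hP' := RingPO.isPushout_glued hcP'
    have hw : i' ≫ f ≫ a.left = j' ≫ g ≫ b.left := by
      rw [← Category.assoc, hX.w, Category.assoc, hP.w, ← Category.assoc, ← hY.w, Category.assoc]
    let k : RingPO.glued i' j' ⟶ P.left := hP'.desc (f ≫ a.left) (g ≫ b.left) hw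
    have hk₁ : RingPO.inX hcP' ≫ k = f ≫ a.left := hP'.inl_desc _ _ hw
    have hk₂ : RingPO.inY hcP' ≫ k = g ≫ b.left := hP'.inr_desc _ _ hw
    have hket : Etale k := ((pinch_props i.left j.left a.left b.left hP hcP f g i' j' _ hX hY _ _ hP' hcP' k
      hk₁ hk₂).2.2.2.2).2 ⟨het WalkingSpan.left, het WalkingSpan.right⟩
    obtain ⟨hcX, hcY⟩ := pinch_cartesian i.left j.left a.left b.left hP hcP f g i' j' _ hX hY _ _ hP' hcP' k hk₁ hk₂
    let T : Over S := Over.mk (k ≫ P.hom)
    let a₁ : D'.obj WalkingSpan.left ⟶ T := Over.homMk (RingPO.inX hcP') (by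
      show RingPO.inX hcP' ≫ k ≫ P.hom = _
      rw [← Category.assoc, hk₁, Category.assoc, Over.w a]; exact Over.w (α.app WalkingSpan.left))
    let b₁ : D'.obj WalkingSpan.right ⟶ T := Over.homMk (RingPO.inY hcP') (by
      show RingPO.inY hcP' ≫ k ≫ P.hom = _
      rw [← Category.assoc, hk₂, Category.assoc, Over.w b]; exact Over.w (α.app WalkingSpan.right))
    have hw₁ : D'.map WalkingSpan.Hom.fst ≫ a₁ = D'.map WalkingSpan.Hom.snd ≫ b₁ :=
      Over.OverMorphism.ext hP'.w
    let c' : Cocone D' := (Cocone.precompose (diagramIsoSpan D').hom).obj (PushoutCocone.mk a₁ b₁ hw₁)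
    let k' : T ⟶ P := Over.homMk k
    have hl : IsPullback a₁ (α.app WalkingSpan.left) k' a :=
      IsPullback.of_map (Over.forget S) (Over.OverMorphism.ext hk₁) hcX
    have hr : IsPullback b₁ (α.app WalkingSpan.right) k' b :=
      IsPullback.of_map (Over.forget S) (Over.OverMorphism.ext hk₂) hcY
    refine ⟨c', k', hket, ?_⟩
    rintro (_ | ⟨_ | _⟩)
    · have := (heq WalkingSpan.Hom.fst).paste_horiz hl
      simpa [c', c, IsPushout.cocone] using this
    · simpa [c', c, IsPushout.cocone] using hl
    · simpa [c', c, IsPushout.cocone] using hr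
  · refine IsPushout.of_isColimit' ⟨by rw [← Functor.map_comp, hpo.w, Functor.map_comp]⟩ ?_
    exact isColimitMapCoconePushoutCoconeEquiv (AlgSp.ofScheme S) hpo.w hc

end Groth.Agent.AlgSpMor
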