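import Groth.Agent.AlgSpQC10.Push
import Groth.Agent.QCart.EtBasis
import Groth.Agent.AlgSpQC10.WeakFin

/-!
# Direct images of quasi-coherent modules along affine morphisms
-/

universe u

set_option autoImplicit false
set_option linter.style.haveILetI false
set_option backward.isDefEq.respectTransparency false
set_option backward.isDefEq.respectTransparency.types false

open CategoryTheory CategoryTheory.Limits AlgebraicGeometry Opposite TensorProduct AlgSp
open Groth.Agent.AlgSpQC10

namespace Groth.Agent.AlgSpMor

variable {S : Scheme.{u}} {X Y : Sp S} {f : X ⟶ Y} (hf : Representable f)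

/-- Base change of a map of etale objects is a pullback of schemes. -/
theorem isPullback_bcMap {E E' : EtOver Y} (g : E' ⟶ E) :
    IsPullback ((EtOver.bcMap hf g).hom.left.left) (EtOver.bcπ hf E').left (EtOver.bcπ hf E).left
      g.hom.left.left := by
  have h1 : IsPullback ((yon S).map (EtOver.bcMap hf g).hom.left) ((yon S).map (EtOver.bcπ hf E'))
      ((yon S).map (EtOver.bcπ hf E)) ((yon S).map g.hom.left) := by
    refine IsPullback.of_right ?_ ?_ (EtOver.isPullback_bcObj hf E)
    · rw [EtOver.bcObj_obj_hom, EtOver.map_bcMap_fst, EtOver.w g]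
      exact EtOver.isPullback_bcObj hf E'
    · rw [← Functor.map_comp, ← Functor.map_comp, EtOver.bcMap_snd]
  exact (IsPullback.of_map (yon S) ((yon S).map_injective (by
    rw [Functor.map_comp, Functor.map_comp]; exact h1.w)) h1).map (CategoryTheory.Over.forget S)

/-- Direct images along affine morphisms keep quasi-coherence. -/
theorem isCart_push (haff : IsAffineMor f) (M : ModEt X) [M.IsQuasicoherent] :
    (QCart.etBasis Y).IsCart (QCart.psh (R := OEt Y) ((pushModEt hf).obj M)) := by
  intro E E' hE hE' g
  haveI : IsAffine E.obj.left.left := hE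
  haveI : IsAffine E'.obj.left.left := hE'
  haveI hB := isAffine_bcObj hf haff E
  haveI hB' := isAffine_bcObj hf haff E'
  let O := (OEt X).obj
  let PM := QCart.psh (R := OEt X) M
  let PP := QCart.psh (R := OEt Y) ((pushModEt hf).obj M)
  let h : EtOver.bcObj hf E' ⟶ EtOver.bcObj hf E := EtOver.bcMap hf g
  let B := A (EtOver.bcObj hf E)
  have hsq := QCart.isPushout_upHom (isPushout_appTop_of_isPullback (isPullback_bcMap hf g))
  letI : Algebra (A E) B := (φ hf E).hom.toAlgebra
  letI : Algebra (QCart.Rg (OEt Y).obj g) (QCart.Rg O h) :=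
    RingHom.toAlgebra (S := QCart.Rg O h) (φ hf E').hom
  letI : Algebra (A E) (QCart.Rg O h) :=
    RingHom.toAlgebra (S := QCart.Rg O h) ((O.map h.op).hom.comp (φ hf E).hom)
  haveI : IsScalarTower (A E) B (QCart.Rg O h) := IsScalarTower.of_algebraMap_eq fun _ => rfl
  haveI : IsScalarTower (A E) (QCart.Rg (OEt Y).obj g) (QCart.Rg O h) :=
    IsScalarTower.of_algebraMap_eq fun a => congrArg (fun k => CommRingCat.Hom.hom k a) hsq.w
  haveI : Algebra.IsPushout (A E) (QCart.Rg (OEt Y).obj g) B (QCart.Rg O h) :=
    CommRingCat.isPushout_iff_isPushout.1 (show CategoryTheory.IsPushout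
      (CommRingCat.ofHom (algebraMap (A E) (QCart.Rg (OEt Y).obj g))) (CommRingCat.ofHom (algebraMap (A E) B))
      (CommRingCat.ofHom (algebraMap (QCart.Rg (OEt Y).obj g) (QCart.Rg O h)))
      (CommRingCat.ofHom (algebraMap B (QCart.Rg O h))) by
      first | exact hsq | exact hsq.flip)
  let N := Msec M (EtOver.bcObj hf E)
  letI : Module (A E) N := Module.compHom _ (φ hf E).hom
  haveI : IsScalarTower (A E) B N := IsScalarTower.of_algebraMap_smul fun _ _ => rfl
  let j : Msec ((pushModEt hf).obj M) E ≃ₗ[A E] N :=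
    { toFun := fun x => x
      invFun := fun x => x
      map_add' := fun _ _ => rfl
      map_smul' := fun _ _ => rfl }
  let e := Algebra.IsPushout.cancelBaseChange (A E) (QCart.Rg (OEt Y).obj g) B (QCart.Rg O h) N
  have key : ∀ z, QCart.bcMap g PP z = (show (QCart.psh (R := OEt Y) ((pushModEt hf).obj M)).obj (op E') from
      QCart.bcMap h PM (e.symm (j.toLinearMap.lTensor (QCart.Rg (OEt Y).obj g) z))) := fun z => by
    induction z using TensorProduct.induction_on with
    | zero => rw [map_zero, map_zero, map_zero, map_zero]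
    | add a b ha hb => rw [map_add, map_add, map_add, map_add, ha, hb]
    | tmul b x =>
      rw [QCart.bcMap_tmul, LinearMap.lTensor_tmul, Algebra.IsPushout.cancelBaseChange_symm_tmul]
      exact (QCart.bcMap_tmul h PM (algebraMap (QCart.Rg (OEt Y).obj g) (QCart.Rg O h) b) x).symm
  show Function.Bijective (QCart.bcMap g PP)
  rw [show (QCart.bcMap g PP : _ → _) = (fun z => (show QCart.Sec PP g from QCart.bcMap h PM z)) ∘ e.symm ∘
    j.toLinearMap.lTensor (QCart.Rg (OEt Y).obj g) from funext key]
  exact ((isCart M hB hB' h).comp e.symm.bijective).comp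
    (LinearEquiv.lTensor (QCart.Rg (OEt Y).obj g) j).bijective

theorem isQuasicoherent_push_of_isAffineMor (haff : IsAffineMor f) (M : ModEt X) [M.IsQuasicoherent] :
    ((pushModEt hf).obj M).IsQuasicoherent :=
  (QCart.isQuasicoherent_iff Y _).2 (isCart_push hf haff M)

theorem isAffineMor_of_isFiniteMor (hfin : IsFiniteMor f) : IsAffineMor f := fun V hV g => by
  obtain ⟨W, i, fst, sq, hW, -⟩ := hfin hV g
  exact ⟨W, i, fst, sq, hW⟩

/-- The algebra of a finite morphism is finite on affine objects. -/
theorem finite_φ (hfin : IsFiniteMor f) (E : EtOver Y) [IsAffine E.obj.left.left] : (φ hf E).hom.Finite := by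
  obtain ⟨hB, hπ⟩ := isFinite_bcπ hf hfin E
  have h0 : (EtOver.bcπ hf E).left.appTop.hom.Finite :=
    ((HasAffineProperty.iff_of_isAffine (P := @IsFinite)).1 hπ).2
  exact ((RingHom.Finite.of_surjective
    (ULift.ringEquiv.{u, u + 1} (R := Γ((EtOver.bcObj hf E).obj.left.left, ⊤))).symm.toRingHom
    (ULift.ringEquiv.{u, u + 1} (R := Γ((EtOver.bcObj hf E).obj.left.left, ⊤))).symm.surjective).comp h0).comp
    (RingHom.Finite.of_surjective (ULift.ringEquiv.{u, u + 1} (R := Γ(E.obj.left.left, ⊤))).toRingHom
      (ULift.ringEquiv.{u, u + 1} (R := Γ(E.obj.left.left, ⊤))).surjective)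

theorem finite_push_sections (hfin : IsFiniteMor f) (M : ModEt X) [M.IsQuasicoherent] [M.IsFiniteType]
    (E : EtOver Y) [IsAffine E.obj.left.left] : Module.Finite (A E) (Msec ((pushModEt hf).obj M) E) := by
  haveI := (isFinite_bcπ hf hfin E).1
  let B := A (EtOver.bcObj hf E)
  letI : Algebra (A E) B := (φ hf E).hom.toAlgebra
  haveI : Module.Finite (A E) B := finite_φ hf hfin E
  let N := Msec M (EtOver.bcObj hf E)
  letI : Module (A E) N := Module.compHom _ (φ hf E).hom
  haveI : IsScalarTower (A E) B N := IsScalarTower.of_algebraMap_smul fun _ _ => rfl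
  haveI : Module.Finite B N := finite_Msec M (EtOver.bcObj hf E)
  haveI : Module.Finite (A E) N := Module.Finite.trans B N
  let j : Msec ((pushModEt hf).obj M) E ≃ₗ[A E] N :=
    { toFun := fun x => x
      invFun := fun x => x
      map_add' := fun _ _ => rfl
      map_smul' := fun _ _ => rfl }
  exact Module.Finite.equiv j.symm

end Groth.Agent.AlgSpMor
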