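import Groth.Agent.MorLib.ElemEtaleSplit

/-!
# Splitting off finitely many quasi-finite points of a fibre
-/

set_option autoImplicit false
set_option linter.style.haveILetI false
set_option backward.isDefEq.respectTransparency false
set_option backward.isDefEq.respectTransparency.types false

universe u

open CategoryTheory CategoryTheory.Limits AlgebraicGeometry

namespace Groth.Agent.AlgSpMor

open Groth.Agent.MorLib

/-- After an etale neighbourhood of `s`, a finite set of quasi-finite points over `s` is cut out by an open piece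
which is finite over the base. -/
theorem exists_open_piece_of_finite {X Y : Scheme.{u}} (f : X ⟶ Y) [LocallyOfFiniteType f] [IsSeparated f] (s : Y)
    {Z : Set X} (hZ : Z.Finite) (hs : ∀ z ∈ Z, f z = s) (hq : ∀ z ∈ Z, f.QuasiFiniteAt z) :
    ∃ (U : Scheme.{u}) (g : U ⟶ Y) (u : U) (O : (pullback f g).Opens), Etale g ∧ g u = s ∧
      IsFinite (O.ι ≫ pullback.snd f g) ∧
      (∀ w, w ∈ O → pullback.snd f g w = u → pullback.fst f g w ∈ Z) ∧
      (∀ w, pullback.fst f g w ∈ Z → pullback.snd f g w = u → w ∈ O) ∧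
      ∀ z ∈ Z, ∃ w ∈ O, pullback.fst f g w = z ∧ pullback.snd f g w = u := by
  classical
  haveI := hZ.to_subtype
  let e₀ := (Finite.equivFin Z).symm
  obtain ⟨U, g, u, hu, V, v, h⟩ := EEF.exists_elem_nbhd_multi f s (fun i => (e₀ i).1)
    (fun i => hs _ (e₀ i).2) fun i => hq _ (e₀ i).2
  haveI := hu.etale
  let W : (pullback f g).Opens := ⨆ i, V i
  haveI : LocallyQuasiFinite (W.ι ≫ pullback.snd f g) := by
    rw [← Scheme.Hom.quasiFiniteLocus_eq_top_iff, Scheme.Hom.quasiFiniteLocus_comp, eq_top_iff]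
    rintro ⟨t, ht⟩ -
    obtain ⟨i, hi⟩ := TopologicalSpace.Opens.mem_iSup.mp ht
    haveI := (h i).2.1
    exact WT.quasiFiniteAt_of_mem _ (V i) hi
  haveI : UniversallyClosed (W.ι ≫ pullback.snd f g) := by
    refine WT.universallyClosed_of_cover _ (fun i => W.ι ⁻¹ᵁ V i)
      (fun t => by
        obtain ⟨i, hi⟩ := TopologicalSpace.Opens.mem_iSup.mp
          (show (t.1 : ↑(pullback f g)) ∈ ⨆ i, V i from t.2)
        exact ⟨i, hi⟩) fun i => ?_
    haveI := (h i).2.1
    have hle : V i ≤ W := le_iSup V i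
    haveI : IsIso (W.ι ∣_ V i) := by
      haveI : Surjective (W.ι ∣_ V i) := ⟨fun t => ⟨⟨⟨t.1, hle t.2⟩, t.2⟩, Subtype.ext (by
        show (V i).ι ((W.ι ∣_ V i) _) = t.1
        rw [← Scheme.Hom.comp_apply, morphismRestrict_ι]; rfl)⟩⟩
      exact (isIso_iff_isOpenImmersion_and_surjective _).mpr ⟨inferInstance, inferInstance⟩
    rw [← Category.assoc, ← morphismRestrict_ι, Category.assoc]
    infer_instance
  haveI : IsProper (W.ι ≫ pullback.snd f g) := ⟨⟩
  refine ⟨U, g, u, W, inferInstance, hu.base_eq, IsFinite.of_isProper_of_locallyQuasiFinite _, fun w hw hwu => ?_,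
    fun w hwz hwu => ?_, fun z hz => ?_⟩
  · obtain ⟨i, hi⟩ := TopologicalSpace.Opens.mem_iSup.mp hw
    rw [(h i).2.2.2.1 w hi hwu, (h i).2.2.2.2.1]
    exact (e₀ i).2
  · let i := e₀.symm ⟨_, hwz⟩
    have hi : (e₀ i).1 = pullback.fst f g w := congrArg Subtype.val (e₀.apply_symm_apply _)
    obtain ⟨z', -, -, -, huniq⟩ := EEF.exists_unique_point (IsPullback.of_hasPullback f g)
      (pullback.fst f g w) u (by rw [hs _ hwz, hu.base_eq]) hu.residue_bijective
    rw [huniq w rfl hwu, ← huniq (v i) ((h i).2.2.2.2.1.trans hi) (h i).2.2.1]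
    exact TopologicalSpace.Opens.mem_iSup.mpr ⟨i, (h i).1⟩
  · let i := e₀.symm ⟨z, hz⟩
    have hi : (e₀ i).1 = z := congrArg Subtype.val (e₀.apply_symm_apply _)
    exact ⟨v i, TopologicalSpace.Opens.mem_iSup.mpr ⟨i, (h i).1⟩, (h i).2.2.2.2.1.trans hi, (h i).2.2.1⟩

end Groth.Agent.AlgSpMor
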