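import Groth.Agent.AlgSpMor.RegImm
import Groth.Agent.Div57.ImmKinds
import Groth.Agent.S1125

/-!
# Flat base change of regular immersions of algebraic spaces
-/

set_option autoImplicit false
set_option linter.style.haveILetI false
set_option backward.isDefEq.respectTransparency false
set_option backward.isDefEq.respectTransparency.types false

universe u

open CategoryTheory CategoryTheory.Limits AlgebraicGeometry Opposite AlgSp

namespace Groth.Agent.AlgSpMor

open Groth.Agent.AlgSpLib Groth.Agent.KRegLib Groth.Agent.RegImmLib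

/-- Descent of regular immersions along open flat surjections. -/
theorem isRegularImmersion_of_flat {X Y X' Y' : Scheme.{u}} (i : Y ⟶ X) [IsImmersion i]
    (g : X' ⟶ X) [Flat g] [Surjective g] [UniversallyOpen g] (i' : Y' ⟶ X') (g' : Y' ⟶ Y)
    (hsq : IsPullback g' i' i g) (k : RegImm.Kind) (hk : k ≠ .regular)
    (hi' : RegImm.IsRegularImmersion k i') : RegImm.IsRegularImmersion k i := by
  refine ⟨inferInstance, fun z => ?_⟩
  obtain ⟨U, hU, hzU, -⟩ := exists_isAffineOpen_mem_and_subset (U := (⊤ : X.Opens)) (x := i z) trivial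
  have hcov : (U : Set X) ⊆ ⋃ A : {A : X'.affineOpens // A.1 ≤ g ⁻¹ᵁ U}, g '' (A.1.1 : Set X') := by
    intro x hx
    obtain ⟨x', rfl⟩ := g.surjective x
    obtain ⟨A, hA, hxA, hAU⟩ := exists_isAffineOpen_mem_and_subset (U := g ⁻¹ᵁ U) (x := x') hx
    exact Set.mem_iUnion.2 ⟨⟨⟨A, hA⟩, hAU⟩, x', hxA, rfl⟩
  obtain ⟨t, ht⟩ := hU.isCompact.elim_finite_subcover _ (fun A => g.isOpenMap _ A.1.1.isOpen) hcov
  let W : X'.Opens := ⨆ A ∈ t, A.1.1
  have hWc : IsCompact (W : Set X') := by
    simp only [W, TopologicalSpace.Opens.coe_iSup]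
    exact t.isCompact_biUnion fun A _ => A.1.2.isCompact
  have hWU : W ≤ g ⁻¹ᵁ U := iSup₂_le fun A _ => A.2
  let q : W.toScheme ⟶ U.toScheme := IsOpenImmersion.lift U.ι (W.ι ≫ g) (by
    rintro _ ⟨w, rfl⟩
    rw [Scheme.Opens.range_ι]
    exact hWU w.2)
  have hq : q ≫ U.ι = W.ι ≫ g := IsOpenImmersion.lift_fac _ _ _
  haveI : CompactSpace W.toScheme := isCompact_iff_compactSpace.1 hWc
  haveI : IsAffine U.toScheme := hU
  haveI : QuasiCompact q := quasiCompact_of_compactSpace q
  haveI : Flat q := by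
    refine MorphismProperty.of_postcomp (W := @Flat) (W' := @IsOpenImmersion) q U.ι inferInstance ?_
    rw [hq]
    infer_instance
  haveI : Surjective q := ⟨fun x => by
    obtain ⟨A, hA, x', hx', hxe⟩ := Set.mem_iUnion₂.1 (ht x.2)
    refine ⟨⟨x', TopologicalSpace.Opens.mem_iSup.2 ⟨A, TopologicalSpace.Opens.mem_iSup.2 ⟨hA, hx'⟩⟩⟩, ?_⟩
    apply U.ι.isOpenEmbedding.injective
    rw [← Scheme.Hom.comp_apply, hq, Scheme.Hom.comp_apply]
    exact hxe⟩
  have h1 : RegImm.IsRegularImmersion k (Limits.pullback.snd i' W.ι) :=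
    Div57.regImm_baseChange (IsPullback.of_hasPullback i' W.ι) k hi'
  have s1 : IsPullback (Limits.pullback.fst i' W.ι ≫ g') (Limits.pullback.snd i' W.ι) i (q ≫ U.ι) := by
    rw [hq]
    exact (IsPullback.of_hasPullback i' W.ι).paste_horiz hsq
  let l : Limits.pullback i' W.ι ⟶ (i ⁻¹ᵁ U).toScheme :=
    (isPullback_morphismRestrict i U).flip.lift (Limits.pullback.fst i' W.ι ≫ g')
      (Limits.pullback.snd i' W.ι ≫ q) (by rw [Category.assoc]; exact s1.w.trans (by simp))
  have s2 : IsPullback l (Limits.pullback.snd i' W.ι) (i ∣_ U) q := by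
    refine IsPullback.of_right ?_ (IsPullback.lift_snd _ _ _ _) (isPullback_morphismRestrict i U).flip
    rw [IsPullback.lift_fst]
    exact s1
  haveI : IsImmersion (i ∣_ U) :=
    MorphismProperty.of_isPullback (P := @IsImmersion) (isPullback_morphismRestrict i U).flip ‹_›
  exact regImmAt_of_restrict i U ⟨z, hzU⟩
    ((Div57.regImm_of_fpqc (i ∣_ U) q _ _ s2 k hk h1).2 _)

variable {S : Scheme.{u}}

/-- Flat base change of regular immersions of every kind but `regular`. -/
theorem isRegImmMor_baseChange {k : RegImm.Kind} (hk : k ≠ .regular) {Z X X' P : Sp S}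
    (hX : IsAlgSpace X) {i : Z ⟶ X} {g : X' ⟶ X} (hi : IsRegImmMor k i) (hg : LocP @Flat g)
    {fst : P ⟶ Z} {i' : P ⟶ X'} (sq : IsPullback fst i' i g) : IsRegImmMor k i' := by
  have hi' : Representable i' := MorphismProperty.of_isPullback sq hi.1
  refine ⟨hi', fun V W b p q hb sb => ?_⟩
  obtain ⟨T, c, hc, hc'⟩ := hX.atlas
  have hr : Representable c := hc.rep
  let r : hr.pullback (b ≫ g) ⟶ V := hr.snd (b ≫ g)
  let t : hr.pullback (b ≫ g) ⟶ T := hr.fst' (b ≫ g)
  haveI hre : Etale r.left := hc.property_snd _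
  haveI : Surjective r.left := hc'.property _ _ _ (hr.isPullback (b ≫ g))
  haveI : Flat t.left := hg ((yon S).map r ≫ b) c t
    (repWith_comp ((repWith_yon_map_iff _ _).2 hre) hb) hc
    (by rw [Category.assoc, Functor.relativelyRepresentable.map_fst', hr.w])
  have sT : IsPullback (hi.1.fst c) ((yon S).map (hi.1.snd c)) i c := hi.1.isPullback c
  have hT := hi.2 c _ _ hc sT
  have s1 := (IsPullback.of_hasPullback q r).map (yon S)
  have s2 := (s1.paste_horiz sb).paste_horiz sq
  rw [Category.assoc (f := (yon S).map r), ← hr.w] at s2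
  have s3 : IsPullback (((yon S).map (Limits.pullback.fst q r) ≫ p) ≫ fst)
      ((yon S).map (Limits.pullback.snd q r)) i ((yon S).map t ≫ c) := by
    rw [Functor.relativelyRepresentable.map_fst']
    exact s2
  let l := sT.lift (((yon S).map (Limits.pullback.fst q r) ≫ p) ≫ fst)
    ((yon S).map (Limits.pullback.snd q r) ≫ (yon S).map t) (s3.w.trans (Category.assoc _ _ _).symm)
  have s4 : IsPullback l ((yon S).map (Limits.pullback.snd q r)) ((yon S).map (hi.1.snd c))
      ((yon S).map t) := by
    refine IsPullback.of_right ?_ (sT.lift_snd _ _ _) sT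
    rw [IsPullback.lift_fst]
    exact s3
  rw [← (yon S).map_preimage l] at s4
  have s5 := ((IsPullback.of_map (yon S) ((yon S).map_injective (by
    simpa only [Functor.map_comp] using s4.w)) s4)).map (Over.forget S)
  haveI : Flat ((Over.forget S).map t) := ‹Flat t.left›
  haveI : Flat ((Over.forget S).map t) := ‹Flat t.left›
  have h1 : RegImm.IsRegularImmersion k (Limits.pullback.snd q r).left :=
    Div57.regImm_baseChange s5 k hT
  have s6 := (IsPullback.of_hasPullback q r).map (Over.forget S)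
  haveI := Groth.Agent.S1125.result.{u}
  haveI : IsImmersion q.left := MorphismProperty.of_isPullback_of_descendsAlong
    (P := @IsImmersion) (Q := @Surjective ⊓ @Flat ⊓ @LocallyOfFinitePresentation)
    s6.flip ⟨⟨‹Surjective r.left›, (inferInstance : Flat r.left)⟩,
      (inferInstance : LocallyOfFinitePresentation r.left)⟩ h1.1
  exact isRegularImmersion_of_flat q.left r.left _ _ s6 k hk h1

end Groth.Agent.AlgSpMor
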