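import Groth.Agent.Hensel.HenselizationDescent
import Groth.Agent.HensEt88.StrictQuotient
import Groth.Agent.WEtLib.Stalks
import Groth.Agent.Triage.CMMor
import Groth.Agent.Dual3Lib.GorMor
import Groth.Agent.S0736
import Groth.Agent.S12237

/-!
# Strict henselizations, flatness and the Gorenstein condition
-/

set_option autoImplicit false
set_option linter.style.haveILetI false

universe u

open IsLocalRing

namespace Groth.Agent.AlgSpMor

/-- A local ring is Gorenstein if and only if its strict henselization is. -/
theorem gor_sh_iff (A R : Type u) [CommRing A] [IsLocalRing A] [CommRing R] [IsLocalRing R] [Algebra A R]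
    [IsLocalHom (algebraMap A R)] [Hensel.IsStrictHenselization A R] :
    LocCoh.IsGorensteinLocalRing R ↔ LocCoh.IsGorensteinLocalRing A := by
  have hl := Hensel.isHenzLike_of_isStrictHenselization A R
  haveI := hl.faithfullyFlat
  have key : ∀ [IsNoetherianRing A], LocCoh.IsGorensteinLocalRing R ↔ LocCoh.IsGorensteinLocalRing A := by
    intro _
    haveI := hl.isNoetherianRing_iff.mp inferInstance
    have hF : IsField (R ⧸ (maximalIdeal A).map (algebraMap A R)) := by
      rw [← Ideal.Quotient.maximal_ideal_iff_isField_quotient, hl.map_maximalIdeal]; infer_instance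
    letI := hF.toField
    rw [Dual3Lib.isGor_iff A R]
    exact and_iff_left (Groth.Agent.S0342.result _)
  constructor
  · intro h; haveI := h; haveI := hl.isNoetherianRing_iff.mpr inferInstance; exact key.1 h
  · intro h; haveI := h; exact key.2 h

/-- Gorensteinness of a quotient by an extended ideal is unchanged by strict henselization. -/
theorem gor_sh_quotient_iff (B R : Type u) [CommRing B] [IsLocalRing B] [CommRing R] [IsLocalRing R] [Algebra B R]
    [IsLocalHom (algebraMap B R)] [Hensel.IsStrictHenselization B R] (I : Ideal B) (hI : I ≤ maximalIdeal B) :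
    LocCoh.IsGorensteinLocalRing (R ⧸ I.map (algebraMap B R)) ↔ LocCoh.IsGorensteinLocalRing (B ⧸ I) := by
  have hI' : I.map (algebraMap B R) ≤ maximalIdeal R :=
    (Ideal.map_mono hI).trans_eq (Hensel.isHenzLike_of_isStrictHenselization B R).map_maximalIdeal
  haveI : Nontrivial (B ⧸ I) := Ideal.Quotient.nontrivial_iff.mpr (ne_top_of_le_ne_top (maximalIdeal.isMaximal B).ne_top hI)
  haveI : Nontrivial (R ⧸ I.map (algebraMap B R)) :=
    Ideal.Quotient.nontrivial_iff.mpr (ne_top_of_le_ne_top (maximalIdeal.isMaximal R).ne_top hI')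
  haveI : IsLocalRing (B ⧸ I) := .of_surjective' (Ideal.Quotient.mk I) Ideal.Quotient.mk_surjective
  haveI : IsLocalRing (R ⧸ I.map (algebraMap B R)) := .of_surjective' (Ideal.Quotient.mk _) Ideal.Quotient.mk_surjective
  let q : B ⧸ I →+* R ⧸ I.map (algebraMap B R) := Ideal.quotientMap _ (algebraMap B R) Ideal.le_comap_map
  letI := q.toAlgebra
  have hq : ∀ b, q (Ideal.Quotient.mk I b) = Ideal.Quotient.mk _ (algebraMap B R b) := fun b => rfl
  haveI : IsLocalHom (algebraMap (B ⧸ I) (R ⧸ I.map (algebraMap B R))) := by
    haveI := (Ideal.Quotient.mk_surjective (I := I.map (algebraMap B R))).isLocalHom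
    refine ⟨fun x hx => ?_⟩
    obtain ⟨b, rfl⟩ := Ideal.Quotient.mk_surjective x
    change IsUnit (q (Ideal.Quotient.mk I b)) at hx
    rw [hq] at hx
    exact (isUnit_of_map_unit _ _ (isUnit_of_map_unit (Ideal.Quotient.mk _) _ hx)).map _
  haveI := HensEt88.isStrictHenselization_of_surjective B R (B ⧸ I) (R ⧸ I.map (algebraMap B R))
    (Ideal.Quotient.mk I) (Ideal.Quotient.mk _) Ideal.Quotient.mk_surjective Ideal.Quotient.mk_surjective
    (RingHom.ext fun b => (hq b).symm) (by rw [Ideal.mk_ker, Ideal.mk_ker])
  exact gor_sh_iff _ _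

/-- Flatness of a local homomorphism is flatness of a compatible map of strict henselizations. -/
theorem flat_sh_iff {A B : Type u} [CommRing A] [IsLocalRing A] [CommRing B] [IsLocalRing B] (ψ : A →+* B)
    (R R' : Type u) [CommRing R] [IsLocalRing R] [Algebra B R] [IsLocalHom (algebraMap B R)]
    [Hensel.IsStrictHenselization B R] [CommRing R'] [IsLocalRing R'] [Algebra A R']
    [IsLocalHom (algebraMap A R')] [Hensel.IsStrictHenselization A R'] (φ : R' →+* R)
    (hφ : φ.comp (algebraMap A R') = (algebraMap B R).comp ψ) : φ.Flat ↔ ψ.Flat := by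
  haveI := (Hensel.isHenzLike_of_isStrictHenselization A R').faithfullyFlat
  haveI := (Hensel.isHenzLike_of_isStrictHenselization B R).faithfullyFlat
  have hBR : (algebraMap B R).Flat := RingHom.flat_algebraMap_iff.2 inferInstance
  have hAR' : (algebraMap A R').Flat := RingHom.flat_algebraMap_iff.2 inferInstance
  refine ⟨fun h => Triage.CMMor.flat_of_comp ψ (algebraMap B R) hBR (hφ ▸ hAR'.comp h), fun h => ?_⟩
  have hAR : ((algebraMap B R).comp ψ).Flat := h.comp hBR
  rw [← hφ] at hAR
  haveI : Algebra.WeaklyEtale A R' := Groth.Agent.S0736.result _ _ (Groth.Agent.S12237.result _ R')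
  letI := φ.toAlgebra
  letI := (φ.comp (algebraMap A R')).toAlgebra
  haveI : IsScalarTower A R' R := IsScalarTower.of_algebraMap_eq fun _ => rfl
  haveI : Module.Flat A R := hAR
  exact WEtLib.flat_of_flat_univ (A := A) (B := R') R

end Groth.Agent.AlgSpMor
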