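import Mathlib.CategoryTheory.Sites.SheafCohomology.Basic
import Mathlib.CategoryTheory.Sites.Equivalence
import Mathlib.CategoryTheory.Sites.CoverLifting
import Mathlib.Algebra.Homology.DerivedCategory.Ext.MapBijective
import Mathlib.CategoryTheory.Category.ULift

/-!
# Cohomology of sheaves along an equivalence of sites
-/

set_option autoImplicit false
set_option linter.style.haveILetI false
set_option backward.isDefEq.respectTransparency false

universe w w' v v₁ u u₁

open CategoryTheory CategoryTheory.Limits Opposite Abelian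

namespace Groth.Agent.AlgSpMor

variable {C : Type u} [Category.{v} C] {D : Type u₁} [Category.{v₁} D] (J : GrothendieckTopology C)
  (K : GrothendieckTopology D) (e : C ≌ D) [e.inverse.IsDenseSubsite K J]

section

variable (A : Type*) [Category A] [HasWeakSheafify J A] [HasWeakSheafify K A]
  [∀ F : Dᵒᵖ ⥤ A, e.inverse.op.HasPointwiseRightKanExtension F]

/-- Constant sheaves correspond along an equivalence of sites. -/
noncomputable def constantSheafIso :
    constantSheaf J A ⋙ (e.sheafCongr J K A).functor ≅ constantSheaf K A :=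
  Functor.associator _ _ _ ≪≫
    Functor.isoWhiskerLeft (Functor.const Cᵒᵖ) (e.inverse.pushforwardContinuousSheafificationCompatibility A K J).symm ≪≫
    (Functor.associator _ _ _).symm ≪≫
    Functor.isoWhiskerRight (NatIso.ofComponents (fun M => NatIso.ofComponents fun d => Iso.refl _) :
      Functor.const Cᵒᵖ ⋙ (Functor.whiskeringLeft _ _ A).obj e.inverse.op ≅ Functor.const Dᵒᵖ) (presheafToSheaf K A)

end

variable [HasSheafify J AddCommGrpCat.{w}] [HasSheafify K AddCommGrpCat.{w}]
  [∀ F : Dᵒᵖ ⥤ AddCommGrpCat.{w}, e.inverse.op.HasPointwiseRightKanExtension F]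
  [HasExt.{w'} (Sheaf J AddCommGrpCat.{w})] [HasExt.{w'} (Sheaf K AddCommGrpCat.{w})]
  [EnoughInjectives (Sheaf J AddCommGrpCat.{w})]

/-- Cohomology is invariant under an equivalence of sites. -/
theorem nonempty_functorH_iso (n : ℕ) :
    Nonempty ((Sheaf.functorH J n : Sheaf J AddCommGrpCat.{w} ⥤ AddCommGrpCat.{w'}) ≅
      (e.sheafCongr J K AddCommGrpCat.{w}).functor ⋙ Sheaf.functorH K n) := by
  let F := (e.sheafCongr J K AddCommGrpCat.{w}).functor
  haveI : F.Additive := Functor.additive_of_preserves_binary_products F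
  haveI : F.PreservesInjectiveObjects := Functor.preservesInjectiveObjects_of_adjunction_of_preservesMonomorphisms
    (e.sheafCongr J K AddCommGrpCat.{w}).symm.toAdjunction
  let c := (constantSheafIso J K e AddCommGrpCat.{w}).app (AddCommGrpCat.of (ULift ℤ))
  let φ : ∀ G, Sheaf.H G n →+ Sheaf.H (F.obj G) n := fun G =>
    ((Ext.mk₀ c.inv).precomp (F.obj G) (zero_add n)).comp (F.mapExtAddHom _ G n)
  have hφ : ∀ G, Function.Bijective (φ G) := fun G => by
    show Function.Bijective (((Ext.mk₀ c.inv).precomp (F.obj G) (zero_add n)) ∘ F.mapExtAddHom _ G n)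
    refine Function.Bijective.comp ?_ (F.mapExt_bijective_of_preservesInjectiveObjects _ G n)
    refine ⟨fun x y h => ?_, fun y => ⟨(Ext.mk₀ c.hom).comp y (zero_add n), ?_⟩⟩
    · have := congrArg (fun t => (Ext.mk₀ c.hom).comp t (zero_add n)) h
      simpa using this
    · simp
  refine ⟨NatIso.ofComponents (fun G => (AddEquiv.ofBijective (φ G) (hφ G)).toAddCommGrpIso) fun {G G'} f => ?_⟩
  ext x
  have key : ∀ y : Sheaf.H G n, φ G' (Sheaf.H.map f n y) = Sheaf.H.map (F.map f) n (φ G y) := fun y => by
    show (Ext.mk₀ c.inv).comp (Ext.mapExactFunctor F (y.comp (Ext.mk₀ f) (add_zero n))) (zero_add n) =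
      ((Ext.mk₀ c.inv).comp (Ext.mapExactFunctor F y) (zero_add n)).comp (Ext.mk₀ (F.map f)) (add_zero n)
    rw [Ext.mapExactFunctor_comp, Ext.mapExactFunctor_mk₀, Ext.comp_assoc_of_third_deg_zero]
  exact key x

end Groth.Agent.AlgSpMor
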